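import Mathlib
import Cfsg.Prelude.Def_DegreeGraph
import Cfsg.Agent.Prune
set_option linter.all false
prune_inst 0x7f00000000000000000000000000000000000000000000000000000000000000000000000000000000000000000000000000000000000000000000000000000000000000000000000000000000000000003fffffffffffffffffffffffffffbeffbdffffffff

/-!
# Vocabulary for S4854 (groups with the character degrees of `SL₂(q)`)

* `DS q` : the set of degrees of `SL₂(q)`, `q ≥ 5`;
* `AS A S` : `A` is almost simple with socle `S` and `A / S` is abelian;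
* `TP S L B` : `S` has two elements of `l`-power and `l'`-power order, `(l, l') ∈ L`, with small centralisers;
* `NF s ord out` : the arithmetic condition excluding a group of Lie type.
-/

set_option autoImplicit false

namespace Cfsg.Agent.H691

universe u

/-- The set of degrees of `SL₂(q)`, `q ≥ 5`: `1, q, q - 1, q + 1` and, for `q` odd, `(q + 1) / 2`, `(q - 1) / 2`. -/
def DS (q : ℕ) : Set ℕ := {d | d = 1 ∨ d = q ∨ d + 1 = q ∨ d = q + 1 ∨ 2 * d = q + 1 ∨ 2 * d + 1 = q}

/-- `A` is almost simple with socle `S` and abelian quotient `A / S`. -/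
structure AS (A : Type u) [Group A] (S : Subgroup A) : Prop where
  normal : S.Normal
  simple : IsSimpleGroup S
  nonab : ¬ IsMulCommutative S
  cent : Subgroup.centralizer (S : Set A) = ⊥
  comm : commutator A ≤ S

/-- Two elements of prime power order (for primes `l`, `l'` with `(l, l') ∈ L`) with small centralisers. -/
def TP (S : Type u) [Group S] (L : List (ℕ × ℕ)) (B : ℕ) : Prop :=
  ∃ (l l' : ℕ) (x x' : S), (l, l') ∈ L ∧ (∃ a : ℕ, x ^ l ^ a = 1) ∧ (∃ a : ℕ, x' ^ l' ^ a = 1) ∧
    (Nat.card (Subgroup.centralizer ({x} : Set S)) + Nat.card (Subgroup.centralizer ({x'} : Set S))) * B <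
      Nat.card S

/-- The arithmetic condition: no prime power `q = p ^ F ≥ 5` with `s ∈ DS q`, `p ∣ ord` such that `q + 1` and `q - 1`
divide `2 * ord * out`; and `out` is small. -/
def NF (s ord out : ℕ) : Prop :=
  ∀ p F : ℕ, p.Prime → 5 ≤ p ^ F → s ∈ DS (p ^ F) → p ∣ ord →
    2 * out < p ^ F - 1 ∧ ¬ (p ^ F + 1 ∣ 2 * ord * out ∧ p ^ F - 1 ∣ 2 * ord * out)

end Cfsg.Agent.H691
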