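import Cfsg.Agent.H691.Defs
import Cfsg.Agent.H672.Over
import Cfsg.Agent.H681.DegBasic
import Cfsg.Agent.H681.SimpleChar
import Cfsg.Agent.H686.CharKit
import Cfsg.Agent.H621.SymDeg.Chars
import Cfsg.Agent.H462.T3.MulIrr
import Cfsg.Agent.H686.PGal
import Cfsg.Agent.FastGrp
import Cfsg.Agent.Prune
set_option linter.all false

section
prune_inst 0x7f00000000000000000000000000000000000000000000000000000000000000000000000000000000000000000000000000000000000000000000000000000000000000000000000000000000000000003fffffffffffffffffffffffffffbeffbdffffffff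

-- part: H691/KOneBase
section
set_option linter.all false
open scoped Cfsg.Agent.FastGrp

/-!
# Tools for the uniqueness of the simple factor (helper691)

* `MN R` : `R` is a normal subgroup with nonabelian simple quotient; `MN.key` : the only such subgroups containing
  `M₁ ⊓ M₂` are `M₁` and `M₂`.
* `irr_mul` : products of irreducible characters (Gallagher).
* `mem_of_norm` : an irreducible character whose kernel is such a subgroup takes its degree, in absolute value, only on
  its kernel.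
-/

set_option autoImplicit false

open scoped ComplexConjugate

namespace Cfsg.Agent.H691.KOne

open Cfsg Cfsg.Agent.Characters Cfsg.Agent.Characters.Core Cfsg.Agent.H681.DegBasic Cfsg.Agent.H686.CharKit

universe u

section

variable {K : Type u} [Group K]

/-- A normal subgroup with a nonabelian simple quotient. -/
structure MN (R : Subgroup K) : Prop where
  normal : R.Normal
  max : ∀ M : Subgroup K, M.Normal → R ≤ M → M = R ∨ M = ⊤
  na : ∃ a b : K, a * b * a⁻¹ * b⁻¹ ∉ R

theorem MN.of_simple (R : Subgroup K) [hR : R.Normal] (hs : IsSimpleGroup (K ⧸ R))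
    (hna : ¬ IsMulCommutative (K ⧸ R)) : MN R := by
  refine ⟨hR, fun M hM hRM => ?_, ?_⟩
  · rcases hs.eq_bot_or_eq_top_of_normal (M.map (QuotientGroup.mk' R))
      (hM.map _ (QuotientGroup.mk'_surjective R)) with h | h
    · left
      refine le_antisymm (fun m hm => ?_) hRM
      have h1 : QuotientGroup.mk' R m ∈ M.map (QuotientGroup.mk' R) := Subgroup.mem_map_of_mem _ hm
      rw [h, Subgroup.mem_bot, QuotientGroup.mk'_apply, QuotientGroup.eq_one_iff] at h1
      exact h1
    · right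
      rw [eq_top_iff]
      intro x _
      have h1 : QuotientGroup.mk' R x ∈ M.map (QuotientGroup.mk' R) := by rw [h]; exact Subgroup.mem_top _
      obtain ⟨m, hm, h2⟩ := h1
      rw [QuotientGroup.mk'_apply, QuotientGroup.mk'_apply, QuotientGroup.eq] at h2
      have h3 := M.mul_mem hm (hRM h2)
      simpa using h3
  · by_contra hcon
    push Not at hcon
    apply hna
    refine ⟨⟨fun x y => ?_⟩⟩
    induction x using QuotientGroup.induction_on with
    | _ a =>
    induction y using QuotientGroup.induction_on with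
    | _ b =>
    rw [← QuotientGroup.mk_mul, ← QuotientGroup.mk_mul, QuotientGroup.eq]
    have h1 := hcon b⁻¹ a⁻¹
    have h2 : (a * b)⁻¹ * (b * a) = b⁻¹ * a⁻¹ * b⁻¹⁻¹ * a⁻¹⁻¹ := by group
    rw [h2]
    exact h1

theorem MN.comap {R : Subgroup K} (h : MN R) (φ : K ≃* K) : MN (R.comap φ.toMonoidHom) := by
  obtain ⟨hn, hmax, a, b, hab⟩ := h
  refine ⟨hn.comap _, fun M hM hRM => ?_, φ.symm a, φ.symm b, ?_⟩
  · have h0 : R ≤ M.map φ.toMonoidHom := by
      intro r hr
      refine ⟨φ.symm r, hRM ?_, ?_⟩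
      · rw [Subgroup.mem_comap]
        simpa using hr
      · simp
    rcases hmax (M.map φ.toMonoidHom) (hM.map _ φ.surjective) h0 with h | h
    · left
      rw [← h]
      exact (Subgroup.comap_map_eq_self_of_injective φ.injective M).symm
    · right
      have h1 : (M.map φ.toMonoidHom).comap φ.toMonoidHom = M :=
        Subgroup.comap_map_eq_self_of_injective φ.injective M
      rw [← h1, h, Subgroup.comap_top]
  · rw [Subgroup.mem_comap]
    simpa using hab

theorem MN.ne_top {R : Subgroup K} (h : MN R) : R ≠ ⊤ := by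
  rintro rfl
  obtain ⟨a, b, hab⟩ := h.na
  exact hab (Subgroup.mem_top _)

theorem MN.sup_eq_top {M M₁ : Subgroup K} (h : MN M) (h₁ : MN M₁) (hne : M ≠ M₁) : M ⊔ M₁ = ⊤ := by
  have := h.normal
  have := h₁.normal
  rcases h.max (M ⊔ M₁) inferInstance le_sup_left with h2 | h2
  · exfalso
    have h3 : M₁ ≤ M := by rw [← h2]; exact le_sup_right
    rcases h₁.max M h.normal h3 with h4 | h4
    · exact hne h4
    · exact h.ne_top h4
  · exact h2

/-- The only such subgroups above `M₁ ⊓ M₂` are `M₁` and `M₂`. -/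
theorem MN.key {M M₁ M₂ : Subgroup K} (h : MN M) (h₁ : MN M₁) (h₂ : MN M₂) (hle : M₁ ⊓ M₂ ≤ M) :
    M = M₁ ∨ M = M₂ := by
  by_contra hcon
  push Not at hcon
  have hn := h.normal
  have hn₁ := h₁.normal
  have hn₂ := h₂.normal
  have e₁ := h.sup_eq_top h₁ hcon.1
  have e₂ := h.sup_eq_top h₂ hcon.2
  obtain ⟨a, b, hab⟩ := h.na
  apply hab
  have ha : a ∈ M ⊔ M₁ := by rw [e₁]; exact Subgroup.mem_top _
  have hb : b ∈ M ⊔ M₂ := by rw [e₂]; exact Subgroup.mem_top _
  rw [Subgroup.mem_sup_of_normal_left] at ha hb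
  obtain ⟨m, hm, a₁, ha₁, rfl⟩ := ha
  obtain ⟨m', hm', b₂, hb₂, rfl⟩ := hb
  have h5 : a₁ * b₂ * a₁⁻¹ * b₂⁻¹ ∈ M := by
    apply hle
    refine ⟨?_, ?_⟩
    · have h6 : a₁ * b₂ * a₁⁻¹ * b₂⁻¹ = a₁ * (b₂ * a₁⁻¹ * b₂⁻¹) := by group
      rw [h6]
      exact M₁.mul_mem ha₁ (hn₁.conj_mem _ (M₁.inv_mem ha₁) b₂)
    · exact M₂.mul_mem (hn₂.conj_mem _ hb₂ a₁) (M₂.inv_mem hb₂)
  rw [← QuotientGroup.eq_one_iff] at h5 ⊢
  have hm1 : (QuotientGroup.mk m : K ⧸ M) = 1 := (QuotientGroup.eq_one_iff m).2 hm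
  have hm2 : (QuotientGroup.mk m' : K ⧸ M) = 1 := (QuotientGroup.eq_one_iff m').2 hm'
  simp only [QuotientGroup.mk_mul, QuotientGroup.mk_inv, hm1, hm2, one_mul] at h5 ⊢
  exact h5

end

section

variable {K : Type u} [Group K] [Finite K]

/-- A character with kernel containing `M` restricts irreducibly to `L` if `L M = K`. -/
theorem isIrr_restrict_of_ker (L M : Subgroup K) [M.Normal] (hLM : L ⊔ M = ⊤) {ζ : K → ℂ}
    (hζ : IsIrrCharacter K ζ) (hM : ∀ z ∈ M, ζ z = ζ 1) : IsIrrCharacter L (ζ ∘ L.subtype) := by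
  classical
  have := Fintype.ofFinite K
  have := Fintype.ofFinite L
  have hz : ∀ z ∈ M, ∀ g, ζ (g * z) * conj (ζ (g * z)) = ζ g * conj (ζ g) := by
    intro z hz g
    rw [apply_mul_of_eq' (isIrr_isCharacter hζ) (hM z hz)]
  have hsum : ∀ g : K, ∑ a : L, ζ (g * a) * conj (ζ (g * a)) = ∑ a : L, ζ a * conj (ζ a) := by
    intro g
    have hg : g ∈ L ⊔ M := by rw [hLM]; trivial
    rw [Subgroup.mem_sup_of_normal_right] at hg
    obtain ⟨b, hb, z, hz', rfl⟩ := hg
    rw [← Equiv.sum_comp (Equiv.mulLeft (⟨b, hb⟩ : L)) (fun a : L => ζ a * conj (ζ a))]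
    refine Finset.sum_congr rfl fun a _ => ?_
    have h1 : b * z * (a : K) = b * a * ((a : K)⁻¹ * z * a) := by group
    rw [h1, hz _ (by simpa using (inferInstance : M.Normal).conj_mem z hz' (a : K)⁻¹)]
    rfl
  have h1 : ∑ a : L, ∑ g : K, ζ (g * a) * conj (ζ (g * a)) =
      (Nat.card K : ℂ) * ∑ a : L, ζ a * conj (ζ a) := by
    rw [Finset.sum_comm, Finset.sum_congr rfl fun g _ => hsum g, Finset.sum_const,
      Finset.card_univ, nsmul_eq_mul, Nat.card_eq_fintype_card]
  have h2 : ∑ a : L, ∑ g : K, ζ (g * a) * conj (ζ (g * a)) =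
      (Nat.card L : ℂ) * ∑ g : K, ζ g * conj (ζ g) := by
    have h3 : ∀ a : L, ∑ g : K, ζ (g * a) * conj (ζ (g * a)) = ∑ g : K, ζ g * conj (ζ g) :=
      fun a => Equiv.sum_comp (Equiv.mulRight (a : K)) (fun g => ζ g * conj (ζ g))
    rw [Finset.sum_congr rfl fun a _ => h3 a, Finset.sum_const, Finset.card_univ, nsmul_eq_mul,
      Nat.card_eq_fintype_card]
  have h3 := classInner_irr_self hζ
  rw [classInner_def] at h3
  have hG : (Nat.card K : ℂ) ≠ 0 := by exact_mod_cast Nat.card_pos.ne'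
  have hNc : (Nat.card L : ℂ) ≠ 0 := by exact_mod_cast Nat.card_pos.ne'
  rw [isIrr_iff_classInner_self (isCharacter_comp L.subtype (isIrr_isCharacter hζ)),
    classInner_def]
  rw [h1] at h2
  have h4 : ∑ a : L, (ζ ∘ L.subtype) a * conj ((ζ ∘ L.subtype) a) =
      ∑ a : L, ζ a * conj (ζ a) := rfl
  rw [h4]
  have h5 : ∑ g : K, ζ g * conj (ζ g) = Nat.card K := by
    field_simp at h3
    exact h3
  rw [h5] at h2
  apply mul_left_cancel₀ hG
  rw [mul_one, ← mul_assoc, mul_comm (Nat.card K : ℂ), mul_assoc, h2, ← mul_assoc,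
    inv_mul_cancel₀ hNc, one_mul]

/-- **Gallagher.** -/
theorem irr_mul (L : Subgroup K) [hL : L.Normal] {χ β : K → ℂ} (hχ : IsIrrCharacter K χ)
    (hχL : IsIrrCharacter L (χ ∘ L.subtype)) (hβ : IsIrrCharacter K β) (hβL : ∀ l ∈ L, β l = β 1) :
    IsIrrCharacter K (β * χ) := by
  classical
  have := Fintype.ofFinite K
  have := Fintype.ofFinite L
  have hχc : IsClassFunction K χ := isIrr_isClassFunction hχ
  have hone : ((fun _ => 1) * (fun k : L => χ k) : L → ℂ) = fun k : L => χ k := by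
    funext k; simp
  have key := S0856.result L (fun _ => 1) (fun k : L => χ k) isIrr_one hχL
    (fun g n => rfl) (fun g n => hχc n g) (by rw [hone]; exact hχL) χ hχ (fun n => rfl)
  have hmem : β ∈ {β : K → ℂ | IsIrrCharacter K β ∧
      classInner (indFun L (fun _ => 1)) β ≠ 0} := by
    refine ⟨hβ, ?_⟩
    rw [Cfsg.Agent.CharactersDeep.NormalInd.classInner_indFun L (fun _ => 1) _
      (isIrr_isClassFunction hβ)]
    have h1 : (fun k : L => β (k : K)) = (β 1) • (fun _ => 1 : L → ℂ) := by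
      funext k
      simp [hβL k k.2]
    rw [h1, classInner_smul_right]
    have h2 : classInner (fun _ => 1 : L → ℂ) (fun _ => 1 : L → ℂ) = 1 :=
      classInner_irr_self isIrr_one
    rw [h2, mul_one]
    simpa using isIrr_apply_one_ne_zero hβ
  exact (key.mapsTo hmem).1

/-- The elements at which a character takes its degree in absolute value. -/
theorem mem_of_norm {α : IrrCharacter K} (hs : IsSimpleGroup (K ⧸ chKer α))
    (hna : ¬ IsMulCommutative (K ⧸ chKer α)) {g : K} (hg : ‖(α : K → ℂ) g‖ = ‖(α : K → ℂ) 1‖) : g ∈ chKer α := by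
  obtain ⟨ψ, hψ⟩ := exists_infl (chKer α) α le_rfl
  have h1 : ∀ x : K, (α : K → ℂ) x = (ψ : K ⧸ chKer α → ℂ) (x : K ⧸ chKer α) := by
    intro x
    conv_lhs => rw [← hψ]
    rfl
  have hna' : ¬ ∀ a b : K ⧸ chKer α, a * b = b * a := fun h => hna ⟨⟨h⟩⟩
  have hψ1 : (ψ : K ⧸ chKer α → ℂ) 1 ≠ 1 := by
    intro h0
    have h2 := H681.SimpleChar.eq_one_of_degree_one hna' ψ.2 h0
    apply hna
    have h3 : chKer α = ⊤ := by
      rw [eq_top_iff]
      intro x _
      rw [mem_chKer, h1, h1, h2]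
      rfl
    refine ⟨⟨fun a b => ?_⟩⟩
    have : Subsingleton (K ⧸ chKer α) := by
      rw [h3]
      exact QuotientGroup.subsingleton_quotient_top
    exact Subsingleton.elim _ _
  have h2 : (g : K ⧸ chKer α) = 1 := by
    apply H681.SimpleChar.eq_one_of_norm_eq hna' ψ.2 hψ1
    rw [← h1, hg, h1]
    rfl
  exact (QuotientGroup.eq_one_iff g).1 h2

end

end Cfsg.Agent.H691.KOne
end

-- part: H691/PDvd
section
set_option linter.all false
open scoped Cfsg.Agent.FastGrp

/-!
# The characteristic divides the order of the simple quotient of `G'` (helper691)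
-/

set_option autoImplicit false

open scoped commutatorElement

namespace Cfsg.Agent.H691.PDvd

open Cfsg Cfsg.Agent.Characters Cfsg.Agent.Characters.Core Cfsg.Agent.H681.DegBasic Cfsg.Agent.H686.CharKit

universe u

/-- A nonlinear degree of a nonabelian group. -/
theorem exists_nonlinear {P : Type u} [Group P] [Finite P] (hna : ¬ IsMulCommutative P) :
    ∃ d ∈ charDegrees P, d ≠ 1 := by
  have h1 : commutator P ≠ ⊥ := by
    intro h
    apply hna
    refine ⟨⟨fun a b => ?_⟩⟩
    have h2 : ⁅a, b⁆ ∈ commutator P :=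
      Subgroup.commutator_mem_commutator (Subgroup.mem_top a) (Subgroup.mem_top b)
    rw [h, Subgroup.mem_bot, commutatorElement_eq_one_iff_mul_comm] at h2
    exact h2
  obtain ⟨χ, hχ⟩ := Cfsg.Agent.H686.PGal.exists_nonlinear h1
  refine ⟨charDegree (χ : P → ℂ), ⟨χ, rfl⟩, fun h => hχ ((charDegree_eq_one_iff χ).1 h)⟩

theorem eq_of_dvd_mem {p f d : ℕ} (hp : p.Prime) (hf : f ≠ 0) (hd : d ∈ DS (p ^ f)) (hpd : p ∣ d) : d = p ^ f := by
  have hpq : p ∣ p ^ f := dvd_pow_self p hf
  have h1 : ¬ p ∣ 1 := hp.one_lt.ne' ∘ Nat.dvd_one.1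
  rcases hd with h | h | h | h | h | h
  · exact (h1 (h ▸ hpd)).elim
  · exact h
  · exact (h1 ((Nat.dvd_add_right hpd).1 (by rw [h]; exact hpq))).elim
  · exact (h1 ((Nat.dvd_add_right hpq).1 (h ▸ hpd))).elim
  · exact (h1 ((Nat.dvd_add_right hpq).1 (h ▸ (dvd_mul_of_dvd_right hpd 2)))).elim
  · exact (h1 ((Nat.dvd_add_right (dvd_mul_of_dvd_right hpd 2)).1 (by rw [h]; exact hpq))).elim

/-- **The characteristic divides the order of every simple quotient of `G'`.** -/
theorem p_dvd {G : Type u} [Group G] [Finite G] {p f : ℕ} (hp : p.Prime) (hf : f ≠ 0)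
    (hD : charDegrees G = DS (p ^ f)) (N : Subgroup G) [N.Normal] (hNp : commutator N = ⊤) (hG : commutator G = N)
    (h1 : p ^ f ≠ 1) (R : Subgroup N) [hR : R.Normal] (hna : ¬ IsMulCommutative (N ⧸ R)) :
    p ∣ Nat.card (N ⧸ R) := by
  classical
  by_contra hcon
  have hcop : ∀ m, m ∣ Nat.card (N ⧸ R) → ∀ k, m ∣ p ^ k → m = 1 := by
    intro m hm k hk
    obtain ⟨j, -, rfl⟩ := (Nat.dvd_prime_pow hp).1 hk
    rcases Nat.eq_zero_or_pos j with rfl | hj
    · exact pow_zero p
    · exact (hcon ((dvd_pow_self p hj.ne').trans hm)).elim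
  have hq : p ^ f ∈ charDegrees G := by
    rw [hD]
    exact Or.inr (Or.inl rfl)
  obtain ⟨θ, hθ, hθd, hθ1⟩ := H686.SlCentral.exists_under N hNp hG hq h1
  -- restriction to `R`
  obtain ⟨φ, hφ, hoφ⟩ := H672.exists_under (f := R.subtype) hθ
  obtain ⟨h2, h3⟩ := H672.charDegree_dvd_of_over R hθ hφ hoφ
  have h4 : charDegree θ / charDegree φ = 1 := by
    refine hcop _ ?_ f (dvd_trans (Nat.div_dvd_of_dvd h2) hθd)
    rw [Subgroup.index_eq_card] at h3
    exact h3
  have h5 : charDegree φ = charDegree θ := by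
    obtain ⟨k, hk⟩ := h2
    rw [hk, Nat.mul_div_cancel_left _ (H672.charDegree_pos hφ)] at h4
    rw [hk, h4, mul_one]
  have hθR : IsIrrCharacter R (θ ∘ R.subtype) := by
    rw [H672.eq_of_over_of_charDegree_eq hθ hφ hoφ h5]
    exact hφ
  -- Gallagher
  obtain ⟨b, hb, hb1⟩ := exists_nonlinear hna
  have h6 : b * charDegree θ ∈ charDegrees N :=
    gallagher (QuotientGroup.mk' R) (QuotientGroup.mk'_surjective R) R
      (fun k hk => (QuotientGroup.eq_one_iff k).2 hk) hθ hθR (H672.coe_charDegree hθ).symm hb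
  obtain ⟨ψ, hψ⟩ := h6
  obtain ⟨d, hd, hψd⟩ := H686.SlCentral.exists_dvd N ψ.2
  rw [hψ] at hψd
  have hpd : p ∣ charDegree θ := by
    obtain ⟨j, -, hj⟩ := (Nat.dvd_prime_pow hp).1 hθd
    rw [hj]
    refine dvd_pow_self p ?_
    rintro rfl
    exact hθ1 (by rw [hj, pow_zero])
  rw [hD] at hd
  have h7 : d = p ^ f := eq_of_dvd_mem hp hf hd ((dvd_mul_of_dvd_right hpd b).trans hψd)
  rw [h7] at hψd
  exact hb1 (hcop b (dvd_card hb) f ((Dvd.intro _ rfl).trans hψd))

end Cfsg.Agent.H691.PDvd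
end
end
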