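import Cfsg.Agent.H691.LieAll
import Cfsg.Agent.H424.CentBound
import Cfsg.Agent.OrdDiv.Core
import Cfsg.Agent.H672.Over
import Cfsg.Agent.H481.TBound
import Cfsg.Agent.H603.SporElim
import Cfsg.Agent.S2060
import Cfsg.Agent.S2061
import Cfsg.Agent.S2062
import Cfsg.Agent.S2063
import Cfsg.Agent.S2064
import Cfsg.Agent.S2065
import Cfsg.Agent.S2066
import Cfsg.Agent.S2067
import Cfsg.Agent.S2068
import Cfsg.Agent.S2069
import Cfsg.Agent.S2070
import Cfsg.Agent.S2071
import Cfsg.Agent.S2073
import Cfsg.Agent.S2072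
import Cfsg.Agent.S2074
import Cfsg.Agent.S2075
import Cfsg.Agent.S2077
import Cfsg.Agent.S2078
import Cfsg.Agent.S2076
import Cfsg.Agent.S2079
import Cfsg.Agent.S2080
import Cfsg.Agent.S2081
import Cfsg.Agent.S2082
import Cfsg.Agent.S2083
import Cfsg.Agent.S2084
import Cfsg.Agent.S2085
import Cfsg.Agent.H934.OutAll
import Cfsg.Agent.H691.Defs
import Cfsg.Agent.KFacts.MM.Cent
import Cfsg.Agent.CpAutCo3.MTw
import Cfsg.Agent.H180.KM11Cube
import Cfsg.Agent.H413.JOneLocal
import Cfsg.Agent.MTwelveType.SylowModel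
import Cfsg.Agent.SporadicA.M24Trans
import Mathlib.GroupTheory.Perm.Centralizer
import Cfsg.Agent.H859.Five.LyDZ
import Cfsg.Agent.H393.Iso.TitsJ4
import Cfsg.Agent.H393.Iso.Monster
import Cfsg.Agent.H393.Iso.J23
import Cfsg.Agent.H393.Iso.He
import Cfsg.Agent.H393.Iso.Co1
import Cfsg.Agent.H393.Iso.Co2
import Cfsg.Agent.H393.Iso.Co3
import Cfsg.Agent.H393.Iso.Suz
import Cfsg.Agent.H393.Iso.HS
import Cfsg.Agent.H393.Iso.Ru
import Cfsg.Agent.KFacts.CoTwo.QuotInst
import Cfsg.Agent.H393.Iso.ON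
import Cfsg.Agent.H547.PP.FarBaby
import Cfsg.Agent.H393.Iso.Fi23
import Cfsg.Agent.J2Type.ThreeF
import Cfsg.Agent.KFacts.J2.Facts
import Cfsg.Agent.CpAut.SmallP.He
import Cfsg.Agent.TitsK.ParC_m3
import Cfsg.Agent.EvenType.ChevTwoTits
import Cfsg.Agent.Fischer.Abstract
import Cfsg.Agent.Fischer.Rank22
import Cfsg.Agent.SporRec.Fi22Iso
import Cfsg.Agent.H393.Iso.Fi22
import Cfsg.Agent.KFacts.FiTF.FixZ_m3
import Cfsg.Agent.H393.Iso.Fi24
import Cfsg.Agent.H691.PDvd
import Cfsg.Agent.Characters.SchurBound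
import Mathlib
import Cfsg.Agent.Classification.QDW.TypeHom
import Cfsg.Agent.H672.SL2Graph
import Cfsg.Agent.H681.DegBasic
import Cfsg.Agent.Characters.GaloisIrr
import Cfsg.Agent.OddOrderCharacters.PF9.Reducible
import Cfsg.Agent.Blocks.Deflate
import Cfsg.Agent.Blocks.CentralProduct
import Cfsg.Agent.CharDeep.DegreeBound
import Cfsg.Agent.S0187
import Cfsg.Agent.S0188
import Cfsg.Agent.S2299
import Cfsg.Agent.S2300
import Cfsg.Agent.H464.PslDeg
import Cfsg.Agent.OddHalf.Known
import Cfsg.Agent.H681.DegStruct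
import Cfsg.Agent.S4813
import Cfsg.Agent.H691.Back
import Cfsg.Agent.H677.PslThree_m3
import Cfsg.Agent.H669.SlTwoE
import Cfsg.Agent.FastGrp
import Cfsg.Agent.Prune
set_option linter.all false

section
prune_inst 0x7f00000000000000000000000000000000000000000000000000000000000000000000000000000000000000000000000000000000000000000000000000000000000000000000000000000000000000003fffffffffffffffffffffffffffbeffbdebfeffff

section
prune_inst 0xfcfcf9ada82ddfffff7e3ffed1dffe31c4cfffffdffb4bffe8e9bf8fdf03023965fb859de058ff1e76e29630b87853fbfffeffee6bdc7ffffd57b45ffbee1fe5f7bd88519788340e286fffe3f07f0e6f000000000000000000000000000000004200000000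

-- part: H691/Spor
section
prune_inst 0x303045217d22000000040012c2001ce3b3000000000b0000716403020f8f5c298002a620fa100a18014680a45078400000000019421000000a840200011c01a080235206837cad1d70000180980a010000000000000000000000000000041000014010000
set_option linter.all false
open scoped Cfsg.Agent.FastGrp

-- part: H691/SporCore
section
/-!
# The sporadic groups: the criterion (helper691)

`count_false` : two elements of prime power order with small centralisers bound the order of the group by the largest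
degree, if no degree is divisible by both primes.
`spor_false` : the criterion for an almost simple group with `|Out S| ≤ 2`.
-/

set_option autoImplicit false

namespace Cfsg.Agent.H691.Spor

open Cfsg

universe u

/-- **The counting lemma.** -/
theorem count_false {S : Type u} [Group S] [Finite S] {L : List (ℕ × ℕ)} {B : ℕ} (hTP : TP S L (B ^ 2))
    (hL : ∀ y ∈ L, y.1.Prime ∧ y.2.Prime) (hle : ∀ d ∈ charDegrees S, d ≤ B)
    (hnd : ∀ y ∈ L, ∀ d ∈ charDegrees S, ¬ (y.1 ∣ d ∧ y.2 ∣ d)) : False := by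
  classical
  have := Cfsg.Agent.Characters.Core.finite_irr (G := S)
  have := Fintype.ofFinite (IrrCharacter S)
  obtain ⟨l, l', x, x', hll, ⟨a, ha⟩, ⟨b, hb⟩, hlt⟩ := hTP
  have := Fact.mk (hL _ hll).1
  have := Fact.mk (hL _ hll).2
  set P : Finset (IrrCharacter S) := Finset.univ.filter (fun χ : IrrCharacter S => ¬ l ∣ charDegree (χ : S → ℂ))
  set Q : Finset (IrrCharacter S) := Finset.univ.filter (fun χ : IrrCharacter S => ¬ l' ∣ charDegree (χ : S → ℂ))
  have hP : P.card ≤ Nat.card (Subgroup.centralizer ({x} : Set S)) :=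
    H424.CentBound.card_le_centralizer ha P (fun χ hχ => (Finset.mem_filter.1 hχ).2)
  have hQ : Q.card ≤ Nat.card (Subgroup.centralizer ({x'} : Set S)) :=
    H424.CentBound.card_le_centralizer hb Q (fun χ hχ => (Finset.mem_filter.1 hχ).2)
  have hPQ : P ∪ Q = Finset.univ := by
    ext χ
    simp only [Finset.mem_union, Finset.mem_univ, iff_true]
    by_cases h : l ∣ charDegree (χ : S → ℂ)
    · right
      exact Finset.mem_filter.2 ⟨Finset.mem_univ _, fun h' => hnd _ hll _ ⟨χ, rfl⟩ ⟨h, h'⟩⟩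
    · left
      exact Finset.mem_filter.2 ⟨Finset.mem_univ _, h⟩
  have h1 : Fintype.card (IrrCharacter S) ≤ P.card + Q.card := by
    rw [← Finset.card_univ, ← hPQ]
    exact Finset.card_union_le _ _
  have h2 := H686.CharKit.sum_deg_sq (G := S)
  have h3 : ∑ χ : IrrCharacter S, charDegree (χ : S → ℂ) ^ 2 ≤ ∑ _χ : IrrCharacter S, B ^ 2 :=
    Finset.sum_le_sum fun χ _ => Nat.pow_le_pow_left (hle _ ⟨χ, rfl⟩) 2
  rw [h2, Finset.sum_const, Finset.card_univ, smul_eq_mul] at h3
  have h4 : Fintype.card (IrrCharacter S) * B ^ 2 ≤ (Nat.card (Subgroup.centralizer ({x} : Set S)) +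
      Nat.card (Subgroup.centralizer ({x'} : Set S))) * B ^ 2 := Nat.mul_le_mul_right _ (by omega)
  omega

/-- the arithmetic check -/
def chk (ord : ℕ) (l L : List (ℕ × ℕ)) (B k : ℕ) : Bool :=
  l.all fun x => (List.range k).all fun F =>
    Nat.blt (x.1 ^ F) 5 ||
    (!(Nat.beq (x.1 ^ F) 5) && !(Nat.beq ((4 * ord) % (x.1 ^ F + 1)) 0 && Nat.beq ((4 * ord) % (x.1 ^ F - 1)) 0)) ||
    (Nat.ble (x.1 ^ F + 1) B && L.all fun y =>
      !(Nat.beq (x.1 ^ F % y.1) 0 && Nat.beq (x.1 ^ F % y.2) 0) &&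
      !(Nat.beq ((x.1 ^ F + 1) % y.1) 0 && Nat.beq ((x.1 ^ F + 1) % y.2) 0) &&
      !(Nat.beq ((x.1 ^ F - 1) % y.1) 0 && Nat.beq ((x.1 ^ F - 1) % y.2) 0))

theorem not_and_of {e a b : ℕ} (h : (!(Nat.beq (e % a) 0 && Nat.beq (e % b) 0)) = true) : ¬ (a ∣ e ∧ b ∣ e) := by
  rintro ⟨h1, h2⟩
  rw [Nat.mod_eq_zero_of_dvd h1, Nat.mod_eq_zero_of_dvd h2] at h
  exact absurd h (by decide)

theorem chk_spec {ord : ℕ} {l L : List (ℕ × ℕ)} {B k : ℕ} (h : chk ord l L B k = true) {p : ℕ} {j : ℕ}
    (hp : (p, j) ∈ l) {F : ℕ} (hF : F < k) (h5 : 5 ≤ p ^ F)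
    (hq : p ^ F = 5 ∨ (p ^ F + 1 ∣ 4 * ord ∧ p ^ F - 1 ∣ 4 * ord)) :
    p ^ F + 1 ≤ B ∧ ∀ y ∈ L, ∀ e, e = p ^ F ∨ e = p ^ F + 1 ∨ e = p ^ F - 1 → ¬ (y.1 ∣ e ∧ y.2 ∣ e) := by
  unfold chk at h
  rw [List.all_eq_true] at h
  have h1 := h _ hp
  rw [List.all_eq_true] at h1
  have h2 := h1 F (List.mem_range.2 hF)
  simp only at h2
  rw [Bool.or_eq_true, Bool.or_eq_true] at h2
  rcases h2 with (h3 | h3) | h3
  · rw [Nat.blt_eq] at h3
    omega
  · exfalso
    rw [Bool.and_eq_true] at h3
    rcases hq with h4 | ⟨h4, h5⟩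
    · rw [h4] at h3
      exact absurd h3.1 (by decide)
    · rw [Nat.mod_eq_zero_of_dvd h4, Nat.mod_eq_zero_of_dvd h5] at h3
      exact absurd h3.2 (by decide)
  · rw [Bool.and_eq_true, Nat.ble_eq, List.all_eq_true] at h3
    refine ⟨h3.1, fun y hy e he => ?_⟩
    have h4 := h3.2 y hy
    rw [Bool.and_eq_true, Bool.and_eq_true] at h4
    rcases he with rfl | rfl | rfl
    · exact not_and_of h4.1.1
    · exact not_and_of h4.1.2
    · exact not_and_of h4.2

/-- the elements of `DS q` divide `q`, `q + 1` or `q - 1` -/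
theorem ds_dvd {q x : ℕ} (h : x ∈ DS q) (hq : 1 ≤ q) : ∃ e, (e = q ∨ e = q + 1 ∨ e = q - 1) ∧ x ∣ e ∧ x ≤ q + 1 := by
  rcases h with h | h | h | h | h | h
  · exact ⟨q, Or.inl rfl, by rw [h]; exact one_dvd _, by omega⟩
  · exact ⟨q, Or.inl rfl, by rw [h], by omega⟩
  · exact ⟨q - 1, Or.inr (Or.inr rfl), dvd_of_eq (by omega), by omega⟩
  · exact ⟨q + 1, Or.inr (Or.inl rfl), by rw [h], by omega⟩
  · exact ⟨q + 1, Or.inr (Or.inl rfl), ⟨2, by omega⟩, by omega⟩
  · exact ⟨q - 1, Or.inr (Or.inr rfl), ⟨2, by omega⟩, by omega⟩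

/-- the primes of the list -/
def prs (L : List (ℕ × ℕ)) : Bool :=
  L.all fun y => OrdDiv.isPrimeB y.1 && OrdDiv.isPrimeB y.2 && !(Nat.beq y.1 y.2) && Nat.blt 8 (y.1 * y.2)

theorem prs_spec {L : List (ℕ × ℕ)} (h : prs L = true) {y : ℕ × ℕ} (hy : y ∈ L) :
    y.1.Prime ∧ y.2.Prime ∧ y.1 ≠ y.2 ∧ 8 < y.1 * y.2 := by
  unfold prs at h
  rw [List.all_eq_true] at h
  have h1 := h y hy
  rw [Bool.and_eq_true, Bool.and_eq_true, Bool.and_eq_true, Nat.blt_eq] at h1
  refine ⟨OrdDiv.prime_of h1.1.1.1, OrdDiv.prime_of h1.1.1.2, fun h2 => ?_, h1.2⟩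
  have h3 := h1.1.2
  rw [h2, Nat.beq_refl] at h3
  exact absurd h3 (by decide)

/-- The data of a sporadic group. -/
def SD (S : Type u) [Group S] : Prop :=
  Nat.card (Cfsg.Out S) ∣ 2 ∧ ∃ (ord B k : ℕ) (l L : List (ℕ × ℕ)), Nat.card S = ord ∧ TP S L (B ^ 2) ∧
    OrdDiv.valid l ord = true ∧ prs L = true ∧ 8 ≤ B ∧ 3 ≤ k ∧ 4 * ord < 2 ^ k ∧ chk ord l L B k = true

/-- **The criterion.** -/
theorem spor_false {A : Type u} [Group A] [Finite A] {S : Subgroup A} (h : AS A S) {p F : ℕ} (hp : p.Prime)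
    (h5 : 5 ≤ p ^ F) (hpS : p ∣ Nat.card S) (hD : charDegrees A ⊆ DS (p ^ F)) (hSD : SD S) : False := by
  obtain ⟨hout, ord, B, k, l, L, hord, hTP, hv, hL, -, hk3, hk, hc⟩ := hSD
  have := h.normal
  have hidx : S.index ∣ 2 := h.index_dvd_out.trans hout
  have hi2 : S.index ≤ 2 := Nat.le_of_dvd (by norm_num) hidx
  obtain ⟨j, hj, -⟩ := OrdDiv.exists_pair hv hp (j := 1) le_rfl (by rw [pow_one, ← hord]; exact hpS)
  have hA : Nat.card A = ord * S.index := by rw [← hord, S.card_mul_index]
  have hq : p ^ F = 5 ∨ (p ^ F + 1 ∣ 4 * ord ∧ p ^ F - 1 ∣ 4 * ord) := by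
    by_cases h0 : p ^ F = 5
    · exact Or.inl h0
    · right
      have h1 := h.types hp h5 hpS hD (by omega)
      have h2 : 2 * Nat.card A ∣ 4 * ord := by
        rw [hA, show 4 * ord = 2 * (ord * 2) by ring]
        exact Nat.mul_dvd_mul_left 2 (Nat.mul_dvd_mul_left _ hidx)
      exact ⟨h1.1.trans h2, h1.2.trans h2⟩
  have hopos : 0 < ord := OrdDiv.valid_pos hv
  have hF : F < k := by
    have h1 : 2 ^ F ≤ p ^ F := Nat.pow_le_pow_left hp.two_le F
    have h2 : p ^ F < 2 ^ k := by
      rcases hq with h0 | h0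
      · have h3 : 2 ^ 3 ≤ 2 ^ k := Nat.pow_le_pow_right (by norm_num) hk3
        omega
      · have := Nat.le_of_dvd (by omega) h0.1
        omega
    exact (Nat.pow_lt_pow_iff_right (by norm_num)).1 (lt_of_le_of_lt h1 h2)
  obtain ⟨h6, h7⟩ := chk_spec hc hj hF h5 hq
  -- the degrees of `S`
  have key : ∀ d ∈ charDegrees S, ∃ e, (e = p ^ F ∨ e = p ^ F + 1 ∨ e = p ^ F - 1) ∧ d ∣ e ∧ d ≤ p ^ F + 1 := by
    rintro d ⟨θ, rfl⟩
    obtain ⟨χ, hχ, hover⟩ := H672.exists_over_subtype S θ.2
    obtain ⟨h8, -⟩ := H672.charDegree_dvd_of_over S hχ θ.2 hover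
    obtain ⟨e, he, h9, h10⟩ := ds_dvd (hD ⟨⟨χ, hχ⟩, rfl⟩) (by omega)
    have hpos : 0 < charDegree χ := H681.DegBasic.pos_of_mem (G := A) ⟨⟨χ, hχ⟩, rfl⟩
    exact ⟨e, he, h8.trans h9, (Nat.le_of_dvd hpos h8).trans h10⟩
  have : Finite S := inferInstance
  refine count_false hTP ?_ ?_ ?_
  · intro y hy
    exact ⟨(prs_spec hL hy).1, (prs_spec hL hy).2.1⟩
  · intro d hd
    obtain ⟨e, -, -, h9⟩ := key d hd
    omega
  · rintro y hy d hd ⟨h8, h9⟩
    obtain ⟨e, he, h10, -⟩ := key d hd
    exact h7 y hy e he ⟨h8.trans h10, h9.trans h10⟩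

/-- A sporadic group has an irreducible character of degree at least nine. -/
theorem exists_big {S : Type u} [Group S] [Finite S] (hSD : SD S) : ∃ d ∈ charDegrees S, 9 ≤ d := by
  obtain ⟨-, ord, B, k, l, L, -, hTP, -, hL, hB, -, -, -⟩ := hSD
  by_contra hcon
  push Not at hcon
  refine count_false hTP (fun y hy => ⟨(prs_spec hL hy).1, (prs_spec hL hy).2.1⟩)
    (fun d hd => by have := hcon d hd; omega) ?_
  rintro y hy d hd ⟨h1, h2⟩
  obtain ⟨hp1, hp2, hne, h8⟩ := prs_spec hL hy
  have h3 : y.1 * y.2 ∣ d := Nat.Coprime.mul_dvd_of_dvd_of_dvd ((Nat.coprime_primes hp1 hp2).2 hne) h1 h2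
  have h4 : 0 < d := H681.DegBasic.pos_of_mem hd
  have h5 := Nat.le_of_dvd h4 h3
  have := hcon d hd
  omega

end Cfsg.Agent.H691.Spor
end

-- part: H691/Spor
section
/-!
# The sporadic groups and the Tits group (helper691)

`TPs` : every sporadic group (and the Tits group) has two elements with small centralisers;
`spor_false` : the socle is not sporadic.
-/

set_option autoImplicit false

namespace Cfsg.Agent.H691.Spor

open Cfsg Cfsg.Agent.H934.OutB

universe u v

/-- Every sporadic group (and the Tits group) has two elements with small centralisers. -/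
structure TPs : Prop where
  tits : ∀ (S : Type u) [Group S], Lie.IsoTits S → TP S [(3, 5), (3, 13), (5, 13)] (26 ^ 2)
  m11 : ∀ (S : Type u) [Group S], Spor.IsoM11 S → TP S [(2, 11), (3, 5), (3, 11), (5, 11)] (12 ^ 2)
  m12 : ∀ (S : Type u) [Group S], Spor.IsoM12 S → TP S [(2, 11), (3, 5), (3, 11), (5, 11)] (12 ^ 2)
  m22 : ∀ (S : Type u) [Group S], Spor.IsoM22 S → TP S [(2, 7), (2, 11), (3, 5), (3, 7), (3, 11), (5, 7), (5,
    11), (7, 11)] (12 ^ 2)
  m23 : ∀ (S : Type u) [Group S], Spor.IsoM23 S → TP S [(2, 7), (2, 23), (3, 5), (3, 7), (3, 11), (3, 23), (5,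
    7), (5, 11), (5, 23), (7, 11), (7, 23), (11, 23)] (24 ^ 2)
  m24 : ∀ (S : Type u) [Group S], Spor.IsoM24 S → TP S [(2, 7), (2, 23), (3, 5), (3, 7), (3, 11), (3, 23), (5,
    7), (5, 11), (5, 23), (7, 11), (7, 23), (11, 23)] (24 ^ 2)
  j1 : ∀ (S : Type u) [Group S], Spor.IsoJ1 S → TP S [(2, 7), (2, 11), (2, 19), (3, 5), (3, 7), (3, 11), (3,
    19), (5, 7), (5, 11), (5, 19), (7, 11), (7, 19), (11, 19)] (12 ^ 2)
  j2 : ∀ (S : Type u) [Group S], Spor.IsoJ2 S → TP S [(2, 7), (3, 5), (3, 7), (5, 7)] (50 ^ 2)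
  j3 : ∀ (S : Type u) [Group S], Spor.IsoJ3 S → TP S [(2, 17), (2, 19), (3, 17), (3, 19), (5, 17), (5, 19),
    (17, 19)] (20 ^ 2)
  j4 : ∀ (S : Type u) [Group S], Spor.IsoJ4 S → TP S [(2, 23), (2, 29), (2, 37), (2, 43), (3, 23), (3, 29),
    (3, 31), (3, 37), (3, 43), (5, 7), (5, 11), (5, 23), (5, 29), (5, 31), (5, 37), (5, 43), (7, 11), (7, 23),
    (7, 29), (7, 31), (7, 37), (7, 43), (11, 23), (11, 29), (11, 31), (11, 37), (11, 43), (23, 29), (23, 31),
    (23, 37), (23, 43), (29, 31), (29, 37), (29, 43), (31, 37), (31, 43), (37, 43)] (126 ^ 2)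
  co1 : ∀ (S : Type u) [Group S], Spor.IsoCo1 S → TP S [(2, 23), (3, 5), (3, 11), (3, 13), (3, 23), (5, 7),
    (5, 11), (5, 23), (7, 11), (7, 13), (7, 23), (11, 13), (11, 23), (13, 23)] (65 ^ 2)
  co2 : ∀ (S : Type u) [Group S], Spor.IsoCo2 S → TP S [(2, 7), (2, 23), (3, 5), (3, 7), (3, 11), (3, 23), (5,
    7), (5, 11), (5, 23), (7, 11), (7, 23), (11, 23)] (50 ^ 2)
  co3 : ∀ (S : Type u) [Group S], Spor.IsoCo3 S → TP S [(2, 7), (2, 23), (3, 5), (3, 7), (3, 11), (3, 23), (5,
    7), (5, 11), (5, 23), (7, 11), (7, 23), (11, 23)] (50 ^ 2)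
  mcl : ∀ (S : Type u) [Group S], Spor.IsoMcL S → TP S [(2, 7), (2, 11), (3, 5), (3, 7), (3, 11), (5, 7), (5,
    11), (7, 11)] (50 ^ 2)
  hs : ∀ (S : Type u) [Group S], Spor.IsoHS S → TP S [(2, 7), (2, 11), (3, 5), (3, 7), (3, 11), (5, 7), (5,
    11), (7, 11)] (50 ^ 2)
  suz : ∀ (S : Type u) [Group S], Spor.IsoSuz S → TP S [(2, 11), (3, 5), (3, 11), (3, 13), (5, 7), (5, 11),
    (7, 11), (7, 13), (11, 13)] (65 ^ 2)
  he : ∀ (S : Type u) [Group S], Spor.IsoHe S → TP S [(2, 7), (2, 17), (3, 7), (3, 17), (5, 7), (5, 17), (7,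
    17)] (50 ^ 2)
  ru : ∀ (S : Type u) [Group S], Spor.IsoRu S → TP S [(2, 29), (3, 13), (3, 29), (5, 7), (5, 29), (7, 13), (7,
    29), (13, 29)] (65 ^ 2)
  on : ∀ (S : Type u) [Group S], Spor.IsoON S → TP S [(2, 11), (2, 19), (3, 19), (3, 31), (5, 7), (5, 11), (5,
    19), (5, 31), (7, 11), (7, 19), (7, 31), (11, 19), (11, 31), (19, 31)] (126 ^ 2)
  ly : ∀ (S : Type u) [Group S], Spor.IsoLy S → TP S [(2, 11), (2, 37), (2, 67), (3, 31), (3, 37), (3, 67),
    (5, 7), (5, 11), (5, 31), (5, 37), (5, 67), (7, 11), (7, 31), (7, 37), (7, 67), (11, 31), (11, 37), (11,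
    67), (31, 37), (31, 67), (37, 67)] (126 ^ 2)
  fi22 : ∀ (S : Type u) [Group S], Spor.IsoFi22 S → TP S [(2, 11), (3, 5), (3, 11), (3, 13), (5, 7), (5, 11),
    (7, 11), (7, 13), (11, 13)] (65 ^ 2)
  fi23 : ∀ (S : Type u) [Group S], Spor.IsoFi23 S → TP S [(2, 23), (3, 11), (3, 13), (3, 17), (3, 23), (5, 7),
    (5, 11), (5, 23), (7, 11), (7, 13), (7, 17), (7, 23), (11, 13), (11, 17), (11, 23), (13, 17), (13, 23),
    (17, 23)] (170 ^ 2)
  fi24 : ∀ (S : Type u) [Group S], Spor.IsoFi24' S → TP S [(2, 23), (3, 11), (3, 13), (3, 17), (3, 23), (3,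
    29), (5, 7), (5, 11), (5, 23), (7, 11), (7, 13), (7, 17), (7, 23), (7, 29), (11, 13), (11, 17), (11, 23),
    (11, 29), (13, 17), (13, 23), (13, 29), (17, 23), (17, 29), (23, 29)] (290 ^ 2)
  hn : ∀ (S : Type u) [Group S], Spor.IsoHN S → TP S [(2, 7), (2, 11), (2, 19), (3, 5), (3, 7), (3, 11), (3,
    19), (5, 7), (5, 11), (5, 19), (7, 11), (7, 19), (11, 19)] (50 ^ 2)
  th : ∀ (S : Type u) [Group S], Spor.IsoTh S → TP S [(2, 19), (3, 13), (3, 19), (3, 31), (5, 7), (5, 19), (5,
    31), (7, 13), (7, 19), (7, 31), (13, 19), (13, 31), (19, 31)] (126 ^ 2)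
  b : ∀ (S : Type u) [Group S], Spor.IsoB S → TP S [(2, 19), (2, 47), (3, 13), (3, 17), (3, 19), (3, 31), (3,
    47), (5, 7), (5, 11), (5, 19), (5, 23), (5, 31), (5, 47), (7, 11), (7, 13), (7, 17), (7, 19), (7, 23), (7,
    31), (7, 47), (11, 13), (11, 17), (11, 19), (11, 23), (11, 31), (11, 47), (13, 19), (13, 23), (13, 31),
    (13, 47), (17, 19), (17, 23), (17, 31), (17, 47), (19, 23), (19, 31), (19, 47), (23, 31), (23, 47), (31,
    47)] (2210 ^ 2)
  m : ∀ (S : Type u) [Group S], Spor.IsoM S → TP S [(2, 19), (2, 47), (2, 59), (2, 71), (3, 13), (3, 17), (3,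
    19), (3, 29), (3, 41), (3, 47), (3, 59), (3, 71), (5, 11), (5, 19), (5, 23), (5, 31), (5, 47), (5, 59),
    (5, 71), (7, 11), (7, 13), (7, 17), (7, 19), (7, 23), (7, 29), (7, 31), (7, 41), (7, 47), (7, 59), (7,
    71), (11, 13), (11, 17), (11, 19), (11, 23), (11, 29), (11, 41), (11, 47), (11, 59), (11, 71), (13, 19),
    (13, 23), (13, 29), (13, 31), (13, 41), (13, 47), (13, 59), (13, 71), (17, 19), (17, 23), (17, 29), (17,
    31), (17, 41), (17, 47), (17, 59), (17, 71), (19, 23), (19, 29), (19, 31), (19, 41), (19, 47), (19, 59),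
    (19, 71), (23, 29), (23, 31), (23, 41), (23, 47), (23, 59), (23, 71), (29, 31), (29, 41), (29, 47), (29,
    59), (29, 71), (31, 41), (31, 47), (31, 59), (31, 71), (41, 47), (41, 59), (41, 71), (47, 59), (47, 71),
    (59, 71)] (2210 ^ 2)

theorem out_dvd' {X : Type u} [Group X] {Y : Type v} [Group Y] (h : Nat.card (Cfsg.Out Y) ∣ 2)
    (e : Nonempty (X ≃* Y)) : Nat.card (Cfsg.Out X) ∣ 2 := by
  obtain ⟨e⟩ := e
  rwa [card_out_congr e]

theorem out_dvd {X : Type u} {Y : Type*} [Group X] [Group Y] (e : Nonempty (X ≃* Y)) {n : ℕ}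
    (h : Nat.card (Cfsg.Out Y) = n) (hn : n ∣ 2) : Nat.card (Cfsg.Out X) ∣ 2 := by
  obtain ⟨e⟩ := e
  rw [card_out_congr e, h]
  exact hn

theorem tits_data (T : TPs.{u}) {S : Type u} [Group S] (hS : Lie.IsoTits S) : SD S := by
  have hout : Nat.card (Cfsg.Out S) ∣ 2 := by
    obtain ⟨e⟩ := hS
    obtain ⟨e'⟩ := Cfsg.Agent.TitsK.exists_equiv
    have hfin : Finite Cfsg.Agent.FourTwo.Base.LL := by infer_instance
    have h1 : Nat.card (Cfsg.Out ↥Cfsg.Agent.TitsK.TT) ∣ 2 := Cfsg.Agent.TitsK.tdata.index_inn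
    exact out_dvd' h1 ⟨e.trans e'⟩
  exact ⟨hout, _, 26, 27, [(2, 11), (3, 3), (5, 2), (13, 1)],
    _, NotCT.Orders.tits hS, T.tits _ hS, by decide +kernel, by decide +kernel, by norm_num, by norm_num, by norm_num,
    by decide +kernel⟩

theorem m11_data (T : TPs.{u}) {S : Type u} [Group S] (hS : Spor.IsoM11 S) : SD S := by
  have hout : Nat.card (Cfsg.Out S) ∣ 2 := out_dvd hS Cfsg.Agent.S2060.result (by norm_num)
  exact ⟨hout, _, 12, 15, [(2, 4), (3, 2), (5, 1), (11, 1)],
    _, NotCT.Orders.m11 hS, T.m11 _ hS, by decide +kernel, by decide +kernel, by norm_num, by norm_num, by norm_num,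
    by decide +kernel⟩

theorem m12_data (T : TPs.{u}) {S : Type u} [Group S] (hS : Spor.IsoM12 S) : SD S := by
  have hout : Nat.card (Cfsg.Out S) ∣ 2 := out_dvd hS Cfsg.Agent.S2061.result (by norm_num)
  exact ⟨hout, _, 12, 19, [(2, 6), (3, 3), (5, 1), (11, 1)],
    _, NotCT.Orders.m12 hS, T.m12 _ hS, by decide +kernel, by decide +kernel, by norm_num, by norm_num, by norm_num,
    by decide +kernel⟩

theorem m22_data (T : TPs.{u}) {S : Type u} [Group S] (hS : Spor.IsoM22 S) : SD S := by
  have hout : Nat.card (Cfsg.Out S) ∣ 2 := out_dvd hS Cfsg.Agent.S2062.result (by norm_num)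
  exact ⟨hout, _, 12, 21, [(2, 7), (3, 2), (5, 1), (7, 1), (11, 1)],
    _, NotCT.Orders.m22 hS, T.m22 _ hS, by decide +kernel, by decide +kernel, by norm_num, by norm_num, by norm_num,
    by decide +kernel⟩

theorem m23_data (T : TPs.{u}) {S : Type u} [Group S] (hS : Spor.IsoM23 S) : SD S := by
  have hout : Nat.card (Cfsg.Out S) ∣ 2 := out_dvd hS Cfsg.Agent.S2063.result (by norm_num)
  exact ⟨hout, _, 24, 26, [(2, 7), (3, 2), (5, 1), (7, 1), (11, 1), (23, 1)],
    _, NotCT.Orders.m23 hS, T.m23 _ hS, by decide +kernel, by decide +kernel, by norm_num, by norm_num, by norm_num,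
    by decide +kernel⟩

theorem m24_data (T : TPs.{u}) {S : Type u} [Group S] (hS : Spor.IsoM24 S) : SD S := by
  have hout : Nat.card (Cfsg.Out S) ∣ 2 := out_dvd hS Cfsg.Agent.S2064.result (by norm_num)
  exact ⟨hout, _, 24, 30, [(2, 10), (3, 3), (5, 1), (7, 1), (11, 1), (23, 1)],
    _, NotCT.Orders.m24 hS, T.m24 _ hS, by decide +kernel, by decide +kernel, by norm_num, by norm_num, by norm_num,
    by decide +kernel⟩

theorem j1_data (T : TPs.{u}) {S : Type u} [Group S] (hS : Spor.IsoJ1 S) : SD S := by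
  have hout : Nat.card (Cfsg.Out S) ∣ 2 := out_dvd hS Cfsg.Agent.S2065.result (by norm_num)
  exact ⟨hout, _, 12, 20, [(2, 3), (3, 1), (5, 1), (7, 1), (11, 1), (19, 1)],
    _, NotCT.Orders.j1 hS, T.j1 _ hS, by decide +kernel, by decide +kernel, by norm_num, by norm_num, by norm_num,
    by decide +kernel⟩

theorem j2_data (T : TPs.{u}) {S : Type u} [Group S] (hS : Spor.IsoJ2 S) : SD S := by
  have hout : Nat.card (Cfsg.Out S) ∣ 2 := out_dvd hS Cfsg.Agent.S2066.result (by norm_num)
  exact ⟨hout, _, 50, 22, [(2, 7), (3, 3), (5, 2), (7, 1)],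
    _, NotCT.Orders.j2 hS, T.j2 _ hS, by decide +kernel, by decide +kernel, by norm_num, by norm_num, by norm_num,
    by decide +kernel⟩

theorem j3_data (T : TPs.{u}) {S : Type u} [Group S] (hS : Spor.IsoJ3 S) : SD S := by
  have hout : Nat.card (Cfsg.Out S) ∣ 2 := by
    obtain ⟨F, _, _, ω, hF, hω, e⟩ := hS
    exact out_dvd e (Cfsg.Agent.S2067.result hF ω hω) (by norm_num)
  exact ⟨hout, _, 20, 28, [(2, 7), (3, 5), (5, 1), (17, 1), (19, 1)],
    _, NotCT.Orders.j3 hS, T.j3 _ hS, by decide +kernel, by decide +kernel, by norm_num, by norm_num, by norm_num,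
    by decide +kernel⟩

theorem j4_data (T : TPs.{u}) {S : Type u} [Group S] (hS : Spor.IsoJ4 S) : SD S := by
  have hout : Nat.card (Cfsg.Out S) ∣ 2 := out_dvd hS Cfsg.Agent.S2068.result (by norm_num)
  exact ⟨hout, _, 126, 69, [(2, 21), (3, 3), (5, 1), (7, 1), (11, 3), (23, 1), (29, 1), (31, 1), (37, 1), (43, 1)],
    _, NotCT.Orders.j4 hS, T.j4 _ hS, by decide +kernel, by decide +kernel, by norm_num, by norm_num, by norm_num,
    by decide +kernel⟩

theorem co1_data (T : TPs.{u}) {S : Type u} [Group S] (hS : Spor.IsoCo1 S) : SD S := by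
  have hout : Nat.card (Cfsg.Out S) ∣ 2 := out_dvd hS Cfsg.Agent.S2069.result (by norm_num)
  exact ⟨hout, _, 65, 64, [(2, 21), (3, 9), (5, 4), (7, 2), (11, 1), (13, 1), (23, 1)],
    _, NotCT.Orders.co1 hS, T.co1 _ hS, by decide +kernel, by decide +kernel, by norm_num, by norm_num, by norm_num,
    by decide +kernel⟩

theorem co2_data (T : TPs.{u}) {S : Type u} [Group S] (hS : Spor.IsoCo2 S) : SD S := by
  have hout : Nat.card (Cfsg.Out S) ∣ 2 := out_dvd hS Cfsg.Agent.S2070.result (by norm_num)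
  exact ⟨hout, _, 50, 48, [(2, 18), (3, 6), (5, 3), (7, 1), (11, 1), (23, 1)],
    _, NotCT.Orders.co2 hS, T.co2 _ hS, by decide +kernel, by decide +kernel, by norm_num, by norm_num, by norm_num,
    by decide +kernel⟩

theorem co3_data (T : TPs.{u}) {S : Type u} [Group S] (hS : Spor.IsoCo3 S) : SD S := by
  have hout : Nat.card (Cfsg.Out S) ∣ 2 := out_dvd hS Cfsg.Agent.S2071.result (by norm_num)
  exact ⟨hout, _, 50, 41, [(2, 10), (3, 7), (5, 3), (7, 1), (11, 1), (23, 1)],
    _, NotCT.Orders.co3 hS, T.co3 _ hS, by decide +kernel, by decide +kernel, by norm_num, by norm_num, by norm_num,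
    by decide +kernel⟩

theorem mcl_data (T : TPs.{u}) {S : Type u} [Group S] (hS : Spor.IsoMcL S) : SD S := by
  have hout : Nat.card (Cfsg.Out S) ∣ 2 := out_dvd hS Cfsg.Agent.S2073.result (by norm_num)
  exact ⟨hout, _, 50, 32, [(2, 7), (3, 6), (5, 3), (7, 1), (11, 1)],
    _, NotCT.Orders.mcl hS, T.mcl _ hS, by decide +kernel, by decide +kernel, by norm_num, by norm_num, by norm_num,
    by decide +kernel⟩

theorem hs_data (T : TPs.{u}) {S : Type u} [Group S] (hS : Spor.IsoHS S) : SD S := by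
  have hout : Nat.card (Cfsg.Out S) ∣ 2 := out_dvd hS Cfsg.Agent.S2072.result (by norm_num)
  exact ⟨hout, _, 50, 28, [(2, 9), (3, 2), (5, 3), (7, 1), (11, 1)],
    _, NotCT.Orders.hs hS, T.hs _ hS, by decide +kernel, by decide +kernel, by norm_num, by norm_num, by norm_num,
    by decide +kernel⟩

theorem suz_data (T : TPs.{u}) {S : Type u} [Group S] (hS : Spor.IsoSuz S) : SD S := by
  have hout : Nat.card (Cfsg.Out S) ∣ 2 := out_dvd hS Cfsg.Agent.S2074.result (by norm_num)
  exact ⟨hout, _, 65, 41, [(2, 13), (3, 7), (5, 2), (7, 1), (11, 1), (13, 1)],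
    _, NotCT.Orders.suz hS, T.suz _ hS, by decide +kernel, by decide +kernel, by norm_num, by norm_num, by norm_num,
    by decide +kernel⟩

theorem he_data (T : TPs.{u}) {S : Type u} [Group S] (hS : Spor.IsoHe S) : SD S := by
  have hout : Nat.card (Cfsg.Out S) ∣ 2 := out_dvd hS Cfsg.Agent.S2075.result (by norm_num)
  exact ⟨hout, _, 50, 34, [(2, 10), (3, 3), (5, 2), (7, 3), (17, 1)],
    _, NotCT.Orders.he hS, T.he _ hS, by decide +kernel, by decide +kernel, by norm_num, by norm_num, by norm_num,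
    by decide +kernel⟩

theorem ru_data (T : TPs.{u}) {S : Type u} [Group S] (hS : Spor.IsoRu S) : SD S := by
  have hout : Nat.card (Cfsg.Out S) ∣ 2 := out_dvd hS Cfsg.Agent.S2077.result (by norm_num)
  exact ⟨hout, _, 65, 40, [(2, 14), (3, 3), (5, 3), (7, 1), (13, 1), (29, 1)],
    _, NotCT.Orders.ru hS, T.ru _ hS, by decide +kernel, by decide +kernel, by norm_num, by norm_num, by norm_num,
    by decide +kernel⟩

theorem on_data (T : TPs.{u}) {S : Type u} [Group S] (hS : Spor.IsoON S) : SD S := by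
  have hout : Nat.card (Cfsg.Out S) ∣ 2 := out_dvd hS Cfsg.Agent.S2078.result (by norm_num)
  exact ⟨hout, _, 126, 41, [(2, 9), (3, 4), (5, 1), (7, 3), (11, 1), (19, 1), (31, 1)],
    _, NotCT.Orders.on hS, T.on _ hS, by decide +kernel, by decide +kernel, by norm_num, by norm_num, by norm_num,
    by decide +kernel⟩

theorem ly_data (T : TPs.{u}) {S : Type u} [Group S] (hS : Spor.IsoLy S) : SD S := by
  have hout : Nat.card (Cfsg.Out S) ∣ 2 := out_dvd hS Cfsg.Agent.S2076.result (by norm_num)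
  exact ⟨hout, _, 126, 58, [(2, 8), (3, 7), (5, 6), (7, 1), (11, 1), (31, 1), (37, 1), (67, 1)],
    _, NotCT.Orders.ly hS, T.ly _ hS, by decide +kernel, by decide +kernel, by norm_num, by norm_num, by norm_num,
    by decide +kernel⟩

theorem fi22_data (T : TPs.{u}) {S : Type u} [Group S] (hS : Spor.IsoFi22 S) : SD S := by
  have hout : Nat.card (Cfsg.Out S) ∣ 2 := out_dvd hS Cfsg.Agent.S2079.result (by norm_num)
  exact ⟨hout, _, 65, 48, [(2, 17), (3, 9), (5, 2), (7, 1), (11, 1), (13, 1)],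
    _, NotCT.Orders.fi22 hS, T.fi22 _ hS, by decide +kernel, by decide +kernel, by norm_num, by norm_num, by norm_num,
    by decide +kernel⟩

theorem fi23_data (T : TPs.{u}) {S : Type u} [Group S] (hS : Spor.IsoFi23 S) : SD S := by
  have hout : Nat.card (Cfsg.Out S) ∣ 2 := out_dvd hS Cfsg.Agent.S2080.result (by norm_num)
  exact ⟨hout, _, 170, 64, [(2, 18), (3, 13), (5, 2), (7, 1), (11, 1), (13, 1), (17, 1), (23, 1)],
    _, NotCT.Orders.fi23 hS, T.fi23 _ hS, by decide +kernel, by decide +kernel, by norm_num, by norm_num, by norm_num,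
    by decide +kernel⟩

theorem fi24_data (T : TPs.{u}) {S : Type u} [Group S] (hS : Spor.IsoFi24' S) : SD S := by
  have hout : Nat.card (Cfsg.Out S) ∣ 2 := out_dvd hS Cfsg.Agent.S2081.result (by norm_num)
  exact ⟨hout, _, 290, 83, [(2, 21), (3, 16), (5, 2), (7, 3), (11, 1), (13, 1), (17, 1), (23, 1), (29, 1)],
    _, NotCT.Orders.fi24 hS, T.fi24 _ hS, by decide +kernel, by decide +kernel, by norm_num, by norm_num, by norm_num,
    by decide +kernel⟩

theorem hn_data (T : TPs.{u}) {S : Type u} [Group S] (hS : Spor.IsoHN S) : SD S := by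
  have hout : Nat.card (Cfsg.Out S) ∣ 2 := out_dvd hS Cfsg.Agent.S2082.result (by norm_num)
  exact ⟨hout, _, 50, 50, [(2, 14), (3, 6), (5, 6), (7, 1), (11, 1), (19, 1)],
    _, NotCT.Orders.hn hS, T.hn _ hS, by decide +kernel, by decide +kernel, by norm_num, by norm_num, by norm_num,
    by decide +kernel⟩

theorem th_data (T : TPs.{u}) {S : Type u} [Group S] (hS : Spor.IsoTh S) : SD S := by
  have hout : Nat.card (Cfsg.Out S) ∣ 2 := out_dvd hS Cfsg.Agent.S2083.result (by norm_num)
  exact ⟨hout, _, 126, 59, [(2, 15), (3, 10), (5, 3), (7, 2), (13, 1), (19, 1), (31, 1)],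
    _, NotCT.Orders.th hS, T.th _ hS, by decide +kernel, by decide +kernel, by norm_num, by norm_num, by norm_num,
    by decide +kernel⟩

theorem b_data (T : TPs.{u}) {S : Type u} [Group S] (hS : Spor.IsoB S) : SD S := by
  have hout : Nat.card (Cfsg.Out S) ∣ 2 := out_dvd hS Cfsg.Agent.S2084.result (by norm_num)
  exact ⟨hout, _, 2210, 114, [(2, 41), (3, 13), (5, 6), (7, 2), (11, 1), (13, 1), (17, 1), (19, 1), (23, 1), (31, 1), (47, 1)],
    _, NotCT.Orders.b hS, T.b _ hS, by decide +kernel, by decide +kernel, by norm_num, by norm_num, by norm_num,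
    by decide +kernel⟩

theorem m_data (T : TPs.{u}) {S : Type u} [Group S] (hS : Spor.IsoM S) : SD S := by
  have hout : Nat.card (Cfsg.Out S) ∣ 2 := out_dvd hS Cfsg.Agent.S2085.result (by norm_num)
  exact ⟨hout, _, 2210, 182, [(2, 46), (3, 20), (5, 9), (7, 6), (11, 2), (13, 3), (17, 1), (19, 1), (23, 1), (29, 1), (31, 1), (41, 1), (47, 1), (59, 1), (71, 1)],
    _, NotCT.Orders.m hS, T.m _ hS, by decide +kernel, by decide +kernel, by norm_num, by norm_num, by norm_num,
    by decide +kernel⟩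

theorem sporadic_data (T : TPs.{u}) {S : Type u} [Group S] (hS : IsSporadicGroup S) : SD S := by
  rcases hS with h' | h' | h' | h' | h' | h' | h' | h' | h' | h' | h' | h' | h' | h' | h' | h' | h' | h' | h' | h' | h' |
    h' | h' | h' | h' | h'
  · exact m11_data T h'
  · exact m12_data T h'
  · exact m22_data T h'
  · exact m23_data T h'
  · exact m24_data T h'
  · exact j1_data T h'
  · exact j2_data T h'
  · exact j3_data T h'
  · exact j4_data T h'
  · exact co1_data T h'
  · exact co2_data T h'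
  · exact co3_data T h'
  · exact mcl_data T h'
  · exact hs_data T h'
  · exact suz_data T h'
  · exact he_data T h'
  · exact ru_data T h'
  · exact on_data T h'
  · exact ly_data T h'
  · exact fi22_data T h'
  · exact fi23_data T h'
  · exact fi24_data T h'
  · exact hn_data T h'
  · exact th_data T h'
  · exact b_data T h'
  · exact m_data T h'

end Cfsg.Agent.H691.Spor
end
end

-- part: H691/TPsAll
section
prune_inst 0x203064051122000000040012c0001c8383000000000b0000712403020f865c290002a620f8100a08010000a440380000000000194000000000840200411c01a0802150060310ad1d700001809808010000000000000000000000000000041000014010000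
set_option linter.all false
open scoped Cfsg.Agent.FastGrp

-- part: H491/TPMathieu
section
/-!
# `TP` for the Mathieu groups and `J₁` (tasks of S4854, S4855)
-/

set_option autoImplicit false

namespace Cfsg.Agent.H491.TPM

open scoped Pointwise
open Subgroup Cfsg Cfsg.Agent.H691 Cfsg.Agent.SporadicA.GolayBase Cfsg.Agent.SporadicA.GolayPerm
open Cfsg.Agent.KFacts.MM.El Cfsg.Agent.KFacts.MM.Cent

universe u v

theorem card_cent_equiv {S : Type u} {K : Type v} [Group S] [Group K] (e : S ≃* K) (x : K) :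
    Nat.card (centralizer ({e.symm x} : Set S)) = Nat.card (centralizer ({x} : Set K)) := by
  refine Nat.card_congr
    { toFun := fun g => ⟨e g, ?_⟩
      invFun := fun g => ⟨e.symm g, ?_⟩
      left_inv := fun g => Subtype.ext (e.symm_apply_apply _)
      right_inv := fun g => Subtype.ext (e.apply_symm_apply _) }
  · rw [mem_centralizer_singleton_iff]
    have h := mem_centralizer_singleton_iff.1 g.2
    have h1 := congrArg e h
    rwa [map_mul, map_mul, e.apply_symm_apply] at h1
  · rw [mem_centralizer_singleton_iff]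
    have h := mem_centralizer_singleton_iff.1 g.2
    rw [← map_mul, ← map_mul, h]

theorem tp_of_equiv {S : Type u} {K : Type v} [Group S] [Group K] (e : S ≃* K) {L : List (ℕ × ℕ)} {B : ℕ}
    (h : TP K L B) : TP S L B := by
  obtain ⟨l, l', x, x', h1, ⟨a, ha⟩, ⟨a', ha'⟩, h2⟩ := h
  refine ⟨l, l', e.symm x, e.symm x', h1, ⟨a, ?_⟩, ⟨a', ?_⟩, ?_⟩
  · rw [← map_pow, ha, map_one]
  · rw [← map_pow, ha', map_one]
  · rw [card_cent_equiv, card_cent_equiv, Nat.card_congr e.toEquiv]
    exact h2

theorem tp_of {K : Type u} [Group K] {L : List (ℕ × ℕ)} {B l l' : ℕ} {x x' : K} (hL : (l, l') ∈ L)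
    {a a' : ℕ} (hx : x ^ l ^ a = 1) (hx' : x' ^ l' ^ a' = 1) {c c' N : ℕ}
    (hc : Nat.card (centralizer ({x} : Set K)) ≤ c) (hc' : Nat.card (centralizer ({x'} : Set K)) ≤ c')
    (hN : Nat.card K = N) (h : (c + c') * B < N) : TP K L B :=
  ⟨l, l', x, x', hL, ⟨a, hx⟩, ⟨a', hx'⟩, by
    rw [hN]
    exact lt_of_le_of_lt (Nat.mul_le_mul_right _ (Nat.add_le_add hc hc')) h⟩

/-- the centralizer in a permutation group -/
theorem card_cent_le_perm {Ω : Type u} [Finite Ω] {K : Subgroup (Equiv.Perm Ω)} (x : K) :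
    Nat.card (centralizer ({x} : Set K)) ≤ Nat.card (centralizer ({(x : Equiv.Perm Ω)} : Set (Equiv.Perm Ω))) := by
  let f : centralizer ({x} : Set K) → centralizer ({(x : Equiv.Perm Ω)} : Set (Equiv.Perm Ω)) :=
    fun g => ⟨((g : K) : Equiv.Perm Ω), by
      rw [mem_centralizer_singleton_iff]
      exact congrArg Subtype.val (mem_centralizer_singleton_iff.1 g.2)⟩
  refine Nat.card_le_card_of_injective f ?_
  intro g h hgh
  have h1 : ((g : K) : Equiv.Perm Ω) = ((h : K) : Equiv.Perm Ω) := congrArg (fun z => z.1) hgh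
  exact Subtype.ext (Subtype.ext h1)

/-! ### elements of prime order in degree 24 -/

/-- the number of cycles of an element of prime order -/
theorem cent_prime {x : Equiv.Perm GolayPt} {r k : ℕ} (hr : r.Prime) (hx : orderOf x = r)
    (hk : (k - 1) * r < x.support.card) (hk' : 24 < (k + 1) * r) (hk0 : 0 < k) :
    Nat.card (centralizer ({x} : Set (Equiv.Perm GolayPt))) =
      (24 - k * r).factorial * r ^ k * k.factorial := by
  obtain ⟨n, hn⟩ := Equiv.Perm.cycleType_prime_order (σ := x) (by rw [hx]; exact hr)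
  rw [hx] at hn
  have hs : x.support.card = (n + 1) * r := by
    rw [← Equiv.Perm.sum_cycleType, hn, Multiset.sum_replicate, smul_eq_mul]
  have hle : x.support.card ≤ 24 := by
    have := Finset.card_le_univ x.support
    have h24 : Fintype.card GolayPt = 24 := by simp [GolayPt]
    rwa [h24] at this
  have hr0 : 0 < r := hr.pos
  have hnk : n + 1 = k := by
    rw [hs] at hk hle
    have h1 : k - 1 < n + 1 := lt_of_mul_lt_mul_right hk (Nat.zero_le r)
    have h2 : n + 1 < k + 1 := lt_of_mul_lt_mul_right (lt_of_le_of_lt hle hk') (Nat.zero_le r)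
    omega
  rw [Equiv.Perm.nat_card_centralizer, hn, hnk]
  have h24 : Fintype.card GolayPt = 24 := by simp [GolayPt]
  have hne : k ≠ 0 := hk0.ne'
  rw [h24, Multiset.sum_replicate, smul_eq_mul, Multiset.prod_replicate, Multiset.toFinset_replicate, if_neg hne,
    Finset.prod_singleton, Multiset.count_replicate_self]

/-- order test -/
def okr (r P : ℕ) : Bool :=
  okl [P] && (weq (List.replicate r P) [] && !weq [P] [])

theorem pr_replicate (r Q : ℕ) : pr (List.replicate r Q) = pm Q ^ r := by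
  induction r with
  | zero => rfl
  | succ r ih => rw [List.replicate_succ, pr_cons, ih, pow_succ']

theorem okl_replicate {Q : ℕ} (h : isPerm Q = true) (r : ℕ) : okl (List.replicate r Q) = true := by
  unfold okl
  rw [List.all_eq_true]
  intro x hx
  rw [List.mem_replicate] at hx
  rw [hx.2]
  exact h

theorem pow_of_weq {P r : ℕ} (hP : isPerm P = true) (h : weq (List.replicate r P) [] = true) : pm P ^ r = 1 := by
  have okn : okl [] = true := rfl
  have := pr_of_weq (okl_replicate hP r) okn h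
  rwa [pr_replicate, pr_nil] at this

theorem order_of_okr {r P : ℕ} (hr : r.Prime) (h : okr r P = true) : orderOf (pm P) = r := by
  unfold okr at h
  simp only [Bool.and_eq_true, Bool.not_eq_true'] at h
  obtain ⟨h0, h3, h4⟩ := h
  have hP0 := (okl_cons h0).1
  have okn : okl [] = true := rfl
  have e3 := pow_of_weq hP0 h3
  have e4 : pm P ≠ 1 := by
    have := pr_ne h0 okn h4
    rwa [pr_one, pr_nil] at this
  have : Fact r.Prime := ⟨hr⟩
  exact orderOf_eq_prime e3 e4

def x11 : ℕ := 983435072843990828779021698901151808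
def y23 : ℕ := 956302485175575353788796878166559809
def w8 : ℕ := 968547660840779817417063322228198560

theorem ord_x11 : orderOf (pm x11) = 11 := order_of_okr (by norm_num) (by decide +kernel)

theorem ord_y23 : orderOf (pm y23) = 23 := order_of_okr (by norm_num) (by decide +kernel)

theorem supp_x11 : 11 < (pm x11).support.card := by
  classical
  have h1 : (Finset.univ.filter fun p : GolayPt => p ≠ none ∧ p ≠ some 0) ⊆ (pm x11).support := by
    intro p hp
    rw [Finset.mem_filter] at hp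
    rw [Equiv.Perm.mem_support]
    intro h
    have hP : isPerm x11 = true := by decide +kernel
    have h2 : papp x11 (idx p) = idx p := by
      rw [← val_pm hP (idx_lt p)]
      unfold val
      rw [pt_idx, h]
    have h3 : ∀ i < 24, papp x11 i = i → i = 0 ∨ i = 23 := by decide +kernel
    rcases h3 _ (idx_lt p) h2 with h4 | h4
    · apply hp.2.2
      rw [← pt_idx p, h4]
      rfl
    · apply hp.2.1
      rw [← pt_idx p, h4]
      rfl
  have h2 : (Finset.univ.filter fun p : GolayPt => p ≠ none ∧ p ≠ some 0).card = 22 := by decide +kernel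
  have h3 := Finset.card_le_card h1
  omega

theorem cent_x11 : Nat.card (centralizer ({pm x11} : Set (Equiv.Perm GolayPt))) = 484 := by
  rw [cent_prime (k := 2) (by norm_num) ord_x11 (by simpa using supp_x11) (by norm_num) (by norm_num)]
  rfl

theorem cent_y23 : Nat.card (centralizer ({pm y23} : Set (Equiv.Perm GolayPt))) = 23 := by
  rw [cent_prime (k := 1) (by norm_num) ord_y23 ?_ (by norm_num) (by norm_num)]
  · rfl
  · rw [Nat.sub_self, Nat.zero_mul, Finset.card_pos, Finset.nonempty_iff_ne_empty, Ne,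
      Equiv.Perm.support_eq_empty_iff]
    intro h
    have := ord_y23
    rw [h, orderOf_one] at this
    omega

theorem x11_mem_M22 : pm x11 ∈ Spor.M22 := (mem_of_ok22 (by decide +kernel)).2

theorem w8_mem_M22 : pm w8 ∈ Spor.M22 := (mem_of_ok22 (by decide +kernel)).2

theorem y23_mem_M23 : pm y23 ∈ Spor.M23 := by
  have h1 : isPerm y23 = true := by decide +kernel
  refine (SporadicA.MathieuRecog.mem_M23_iff _).2 ⟨pm_mem_M24 h1 (by decide +kernel), ?_⟩
  have h5 := val_pm h1 (i := 23) (by norm_num)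
  rw [show papp y23 23 = 23 by decide +kernel] at h5
  have h6 := pt_val (pm y23) 23
  rw [h5] at h6
  exact h6.symm

/-! ### The element of order 8 in `M22` -/

def it (P n i : ℕ) : ℕ := (papp P)^[n] i

theorem it_lt {P : ℕ} (hP : isPerm P = true) (n : ℕ) {i : ℕ} (hi : i < 24) : it P n i < 24 := by
  unfold it
  induction n with
  | zero => exact hi
  | succ n ih => rw [Function.iterate_succ_apply']; exact papp_lt hP ih

theorem val_it {P : ℕ} (hP : isPerm P = true) {g : Equiv.Perm GolayPt} (hg : g * pm P = pm P * g) (n : ℕ) {i : ℕ}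
    (hi : i < 24) : val g (it P n i) = it P n (val g i) := by
  induction n with
  | zero => rfl
  | succ n ih =>
    have h1 : it P (n + 1) i = papp P (it P n i) := Function.iterate_succ_apply' _ _ _
    have h2 : it P (n + 1) (val g i) = papp P (it P n (val g i)) := Function.iterate_succ_apply' _ _ _
    have h3 := it_lt hP n hi
    rw [h1, h2, ← ih, ← val_pm hP h3, ← val_mul, hg, val_mul, val_pm hP (val_lt _ _)]

theorem val_mem {P : ℕ} (hP : isPerm P = true) {g : Equiv.Perm GolayPt} (hg : g * pm P = pm P * g) {b : ℕ}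
    (hb : b < 24) (ns : List ℕ) {L : List ℕ}
    (h : ∀ j < 24, (∀ n ∈ ns, (it P n j = j ↔ it P n b = b)) → j ∈ L) : val g b ∈ L := by
  refine h _ (val_lt _ _) fun n _ => ?_
  rw [← val_it hP hg n hb]
  constructor
  · intro h1
    exact val_inj (it_lt hP n hb) hb h1
  · intro h1
    rw [h1]

theorem cent_w8 : Nat.card (centralizer ({(⟨pm w8, w8_mem_M22⟩ : Spor.M22)} : Set Spor.M22)) ≤ 2048 := by
  classical
  have hP : isPerm w8 = true := by decide +kernel
  let L8 : List ℕ := [1, 5, 8, 19, 12, 6, 18, 9, 4, 20, 17, 22, 10, 14, 16, 21]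
  let L4 : List ℕ := [2, 3, 11, 15]
  let L2 : List ℕ := [7, 13]
  let T : Finset (ℕ × ℕ × ℕ × ℕ) := L8.toFinset ×ˢ (L8.toFinset ×ˢ (L4.toFinset ×ˢ L2.toFinset))
  have hT : T.card = 2048 := by decide +kernel
  let f : centralizer ({(⟨pm w8, w8_mem_M22⟩ : Spor.M22)} : Set Spor.M22) → T := fun g =>
    ⟨(val ((g : Spor.M22) : Equiv.Perm GolayPt) 1, val ((g : Spor.M22) : Equiv.Perm GolayPt) 4,
      val ((g : Spor.M22) : Equiv.Perm GolayPt) 2, val ((g : Spor.M22) : Equiv.Perm GolayPt) 7), by
      have hg : ((g : Spor.M22) : Equiv.Perm GolayPt) * pm w8 = pm w8 * ((g : Spor.M22) : Equiv.Perm GolayPt) :=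
        congrArg Subtype.val (mem_centralizer_singleton_iff.1 g.2)
      rw [Finset.mem_product, Finset.mem_product, Finset.mem_product, List.mem_toFinset, List.mem_toFinset,
        List.mem_toFinset, List.mem_toFinset]
      refine ⟨?_, ?_, ?_, ?_⟩
      · exact val_mem hP hg (by norm_num) [1, 2, 4] (by decide +kernel)
      · exact val_mem hP hg (by norm_num) [1, 2, 4] (by decide +kernel)
      · exact val_mem hP hg (by norm_num) [1, 2, 4] (by decide +kernel)
      · exact val_mem hP hg (by norm_num) [1, 2, 4] (by decide +kernel)⟩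
  have hf : Function.Injective f := by
    intro g h hgh
    have hg : ((g : Spor.M22) : Equiv.Perm GolayPt) * pm w8 = pm w8 * ((g : Spor.M22) : Equiv.Perm GolayPt) :=
      congrArg Subtype.val (mem_centralizer_singleton_iff.1 g.2)
    have hh : ((h : Spor.M22) : Equiv.Perm GolayPt) * pm w8 = pm w8 * ((h : Spor.M22) : Equiv.Perm GolayPt) :=
      congrArg Subtype.val (mem_centralizer_singleton_iff.1 h.2)
    have h0 := congrArg Subtype.val hgh
    have h1 : val ((g : Spor.M22) : Equiv.Perm GolayPt) 1 = val ((h : Spor.M22) : Equiv.Perm GolayPt) 1 :=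
      congrArg (fun z => z.1) h0
    have h2 : val ((g : Spor.M22) : Equiv.Perm GolayPt) 4 = val ((h : Spor.M22) : Equiv.Perm GolayPt) 4 :=
      congrArg (fun z => z.2.1) h0
    have h3 : val ((g : Spor.M22) : Equiv.Perm GolayPt) 2 = val ((h : Spor.M22) : Equiv.Perm GolayPt) 2 :=
      congrArg (fun z => z.2.2.1) h0
    have h4 : val ((g : Spor.M22) : Equiv.Perm GolayPt) 7 = val ((h : Spor.M22) : Equiv.Perm GolayPt) 7 :=
      congrArg (fun z => z.2.2.2) h0
    have hfix : ∀ k : Spor.M22, val (k : Equiv.Perm GolayPt) 0 = 0 ∧ val (k : Equiv.Perm GolayPt) 23 = 23 := by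
      intro k
      obtain ⟨-, h5, h6⟩ := (SporadicA.MathieuRecog.mem_M22_iff _).1 k.2
      unfold val
      constructor
      · rw [show pt 0 = some 0 from rfl, h6]
        rfl
      · rw [show pt 23 = none from rfl, h5]
        rfl
    apply Subtype.ext
    apply Subtype.ext
    apply ext_val
    have key : ∀ i < 24, ∃ b ∈ [1, 4, 2, 7, 0, 23], ∃ n < 8, it w8 n b = i := by decide +kernel
    intro i hi
    obtain ⟨b, hb, n, -, rfl⟩ := key i hi
    have hb24 : b < 24 := by
      simp only [List.mem_cons, List.not_mem_nil, or_false] at hb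
      omega
    have hb' : val ((g : Spor.M22) : Equiv.Perm GolayPt) b = val ((h : Spor.M22) : Equiv.Perm GolayPt) b := by
      simp only [List.mem_cons, List.not_mem_nil, or_false] at hb
      rcases hb with rfl | rfl | rfl | rfl | rfl | rfl
      · exact h1
      · exact h2
      · exact h3
      · exact h4
      · rw [(hfix _).1, (hfix _).1]
      · rw [(hfix _).2, (hfix _).2]
    rw [val_it hP hg n hb24, val_it hP hh n hb24, hb']
  have h1 := Nat.card_le_card_of_injective f hf
  rw [Nat.card_eq_fintype_card (α := T), Fintype.card_coe, hT] at h1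
  exact h1

theorem pow_coe {K : Subgroup (Equiv.Perm GolayPt)} {g : Equiv.Perm GolayPt} (hg : g ∈ K) {n : ℕ} (h : g ^ n = 1) :
    (⟨g, hg⟩ : K) ^ n = 1 := Subtype.ext h

theorem cent_x11' {K : Subgroup (Equiv.Perm GolayPt)} (h : pm x11 ∈ K) :
    Nat.card (centralizer ({(⟨pm x11, h⟩ : K)} : Set K)) ≤ 484 :=
  (card_cent_le_perm _).trans cent_x11.le

theorem cent_y23' {K : Subgroup (Equiv.Perm GolayPt)} (h : pm y23 ∈ K) :
    Nat.card (centralizer ({(⟨pm y23, h⟩ : K)} : Set K)) ≤ 23 :=
  (card_cent_le_perm _).trans cent_y23.le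

theorem x11_pow : pm x11 ^ 11 ^ 1 = 1 := by
  rw [pow_one]
  exact pow_of_weq (by decide +kernel) (by decide +kernel)

theorem y23_pow : pm y23 ^ 23 ^ 1 = 1 := by
  rw [pow_one]
  exact pow_of_weq (by decide +kernel) (by decide +kernel)

theorem w8_pow : pm w8 ^ 2 ^ 3 = 1 := pow_of_weq (by decide +kernel) (by decide +kernel)

theorem m22 {S : Type*} [Group S] (h : Spor.IsoM22 S) : Cfsg.Agent.H691.TP S
    [(2, 7), (2, 11), (3, 5), (3, 7), (3, 11), (5, 7), (5, 11), (7, 11)] (12 ^ 2) := by
  obtain ⟨e⟩ := h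
  refine tp_of_equiv e ?_
  exact tp_of (l := 2) (l' := 11) (by decide) (pow_coe w8_mem_M22 w8_pow) (pow_coe x11_mem_M22 x11_pow)
    cent_w8 (cent_x11' _) SporadicA.MathieuRecog.card_M22 (by norm_num)

theorem m23 {S : Type*} [Group S] (h : Spor.IsoM23 S) : Cfsg.Agent.H691.TP S
    [(2, 7), (2, 23), (3, 5), (3, 7), (3, 11), (3, 23), (5, 7), (5, 11), (5, 23), (7, 11), (7, 23), (11, 23)]
    (24 ^ 2) := by
  obtain ⟨e⟩ := h
  refine tp_of_equiv e ?_
  exact tp_of (l := 11) (l' := 23) (by decide) (pow_coe (SporadicA.MathieuRecog.M22_le x11_mem_M22) x11_pow)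
    (pow_coe y23_mem_M23 y23_pow)
    (cent_x11' _) (cent_y23' _) SporadicA.MathieuRecog.card_M23 (by norm_num)

theorem m24 {S : Type*} [Group S] (h : Spor.IsoM24 S) : Cfsg.Agent.H691.TP S
    [(2, 7), (2, 23), (3, 5), (3, 7), (3, 11), (3, 23), (5, 7), (5, 11), (5, 23), (7, 11), (7, 23), (11, 23)]
    (24 ^ 2) := by
  obtain ⟨e⟩ := h
  refine tp_of_equiv e ?_
  exact tp_of (l := 11) (l' := 23) (by decide)
    (pow_coe (M22_le24 x11_mem_M22) x11_pow) (pow_coe (M23_le24 y23_mem_M23) y23_pow)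
    (cent_x11' _) (cent_y23' _) SporadicA.M24Trans.card_M24 (by norm_num)

def dod : List ℕ := [0, 1, 2, 3, 4, 6, 8, 9, 12, 13, 16, 18]

theorem mem_dod : ∀ p : GolayPt, p ∈ Spor.squareDodecad ↔ idx p ∈ dod := by decide +kernel

theorem x11_mem_M12 : pm x11 ∈ Spor.M12 := by
  refine ⟨M22_le24 x11_mem_M22, ?_⟩
  have hP : isPerm x11 = true := by decide +kernel
  have key : ∀ i < 24, (papp x11 i ∈ dod ↔ i ∈ dod) := by decide +kernel
  have h1 : ∀ p, pm x11 p ∈ Spor.squareDodecad ↔ p ∈ Spor.squareDodecad := by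
    intro p
    have h2 : idx (pm x11 p) = papp x11 (idx p) := by
      rw [← val_pm hP (idx_lt p)]
      unfold val
      rw [pt_idx]
    rw [mem_dod, mem_dod, h2]
    exact key _ (idx_lt p)
  change pm x11 • Spor.squareDodecad = Spor.squareDodecad
  ext q
  obtain ⟨p, rfl⟩ := (pm x11).surjective q
  rw [mem_smul_iff, h1]

theorem m12 {S : Type*} [Group S] (h : Spor.IsoM12 S) : Cfsg.Agent.H691.TP S
    [(2, 11), (3, 5), (3, 11), (5, 11)] (12 ^ 2) := by
  obtain ⟨e⟩ := h
  refine tp_of_equiv e ?_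
  have hcard : Nat.card Spor.M12 = 95040 := Cfsg.Agent.MTwelveType.SylowModel.card_M12
  have hf : Finite Spor.M12 := inferInstance
  have h3 : Fact (Nat.Prime 3) := ⟨Nat.prime_three⟩
  obtain ⟨t, ht⟩ := exists_prime_orderOf_dvd_card' (G := Spor.M12) 3 (by rw [hcard]; norm_num)
  have ht3 : t ^ 3 = 1 := by rw [← ht]; exact pow_orderOf_eq_one t
  have ht1 : t ≠ 1 := by rintro rfl; simp at ht
  exact tp_of (l := 3) (l' := 11) (by decide) (a := 1) (by rw [pow_one]; exact ht3)
    (pow_coe x11_mem_M12 x11_pow)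
    (CpAutCo3.MTw.card_cent_le ht1 ht3) (cent_x11' _) hcard (by norm_num)

theorem m11 {S : Type*} [Group S] (h : Spor.IsoM11 S) : Cfsg.Agent.H691.TP S
    [(2, 11), (3, 5), (3, 11), (5, 11)] (12 ^ 2) := by
  have hG := Cfsg.Agent.Cit.Eleven.isM11 h
  have := Cfsg.Agent.Cit.Eleven.finite h
  have h11 : Fact (Nat.Prime 11) := ⟨by norm_num⟩
  obtain ⟨y, hy⟩ := Cfsg.Agent.H180.KM11.exists_eight h
  obtain ⟨x, hx⟩ := exists_prime_orderOf_dvd_card' (G := S) 11 (by rw [hG.2]; norm_num)
  exact tp_of (l := 2) (l' := 11) (by decide) (a := 3) (a' := 1)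
    (by rw [show 2 ^ 3 = 8 by norm_num, ← hy]; exact pow_orderOf_eq_one y)
    (by rw [pow_one, ← hx]; exact pow_orderOf_eq_one x)
    (Cfsg.Agent.H180.KM11.card_eight h hy) (SporadicA.M11Sylow.data_eleven hG hx).1.le hG.2 (by norm_num)

theorem j1 {S : Type*} [Group S] (h : Spor.IsoJ1 S) : Cfsg.Agent.H691.TP S
    [(2, 7), (2, 11), (2, 19), (3, 5), (3, 7), (3, 11), (3, 19), (5, 7), (5, 11), (5, 19), (7, 11), (7, 19), (11, 19)]
    (12 ^ 2) := by
  obtain ⟨e⟩ := h
  refine tp_of_equiv e ?_
  have hcard : Nat.card Spor.J1 = 175560 := Cfsg.Agent.SporadicB.J1.Main.isJ1.2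
  have hf : Finite Spor.J1 := Nat.finite_of_card_ne_zero (by rw [hcard]; norm_num)
  have h3 : Fact (Nat.Prime 3) := ⟨Nat.prime_three⟩
  have h5 : Fact (Nat.Prime 5) := ⟨by norm_num⟩
  obtain ⟨t, ht⟩ := exists_prime_orderOf_dvd_card' (G := Spor.J1) 3 (by rw [hcard]; norm_num)
  obtain ⟨x, hx⟩ := exists_prime_orderOf_dvd_card' (G := Spor.J1) 5 (by rw [hcard]; norm_num)
  have hl := Cfsg.Agent.H413.JOneLocal.isLocal
  exact tp_of (l := 3) (l' := 5) (by decide) (a := 1) (a' := 1)
    (by rw [pow_one, ← ht]; exact pow_orderOf_eq_one t)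
    (by rw [pow_one, ← hx]; exact pow_orderOf_eq_one x)
    (hl.cent3 t ht).le (hl.cent5 x hx).le hcard (by norm_num)

end Cfsg.Agent.H491.TPM
end

-- part: H474/TP/RowsA
section
/-!
# `TP` rows: `J₄`, `M`, `J₃`, `HN`, `Th` (helper474)
-/

set_option autoImplicit false

namespace Cfsg.Agent.H474.TPRows

open Subgroup Cfsg Cfsg.Agent.H393.Iso Cfsg.Agent.H691

theorem j4 {S : Type*} [Group S] (h : Spor.IsoJ4 S) : Cfsg.Agent.H691.TP S [(2, 23), (2, 29), (2, 37), (2, 43), (3, 23), (3, 29), (3, 31), (3, 37), (3, 43), (5, 7), (5, 11), (5, 23), (5, 29), (5, 31), (5, 37), (5, 43), (7, 11), (7, 23), (7, 29), (7, 31), (7, 37), (7, 43), (11, 23), (11, 29), (11, 31), (11, 37), (11, 43), (23, 29), (23, 31), (23, 37), (23, 43), (29, 31), (29, 37), (29, 43), (31, 37), (31, 43), (37, 43)] (126 ^ 2) := by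
  have hc := NotCT.Orders.j4 h
  have hfin : Finite S := Nat.finite_of_card_ne_zero (by rw [hc]; norm_num)
  exact tp_pair (r := 29) (r' := 37) (a := 21) (M := 41377816699065) (by norm_num) (by norm_num) (by rw [hc]; norm_num)
    (by norm_num) (by norm_num) (by norm_num) (na_j4_29 h) (na_j4_37 h) (by simp only [_root_.List.mem_cons, _root_.Prod.mk.injEq, _root_.Nat.reduceEqDiff, _root_.and_self, _root_.and_true, _root_.and_false, _root_.List.not_mem_nil, _root_.or_self, _root_.or_false, _root_.or_true]) (by norm_num)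

theorem m {S : Type*} [Group S] (h : Spor.IsoM S) : Cfsg.Agent.H691.TP S [(2, 19), (2, 47), (2, 59), (2, 71), (3, 13), (3, 17), (3, 19), (3, 29), (3, 41), (3, 47), (3, 59), (3, 71), (5, 11), (5, 19), (5, 23), (5, 31), (5, 47), (5, 59), (5, 71), (7, 11), (7, 13), (7, 17), (7, 19), (7, 23), (7, 29), (7, 31), (7, 41), (7, 47), (7, 59), (7, 71), (11, 13), (11, 17), (11, 19), (11, 23), (11, 29), (11, 41), (11, 47), (11, 59), (11, 71), (13, 19), (13, 23), (13, 29), (13, 31), (13, 41), (13, 47), (13, 59), (13, 71), (17, 19), (17, 23), (17, 29), (17, 31), (17, 41), (17, 47), (17, 59), (17, 71), (19, 23), (19, 29), (19, 31), (19, 41), (19, 47), (19, 59), (19, 71), (23, 29), (23, 31), (23, 41), (23, 47), (23, 59), (23, 71), (29, 31), (29, 41), (29, 47), (29, 59), (29, 71), (31, 41), (31, 47), (31, 59), (31, 71), (41, 47), (41, 59), (41, 71), (47, 59), (47, 71), (59, 71)] (2210 ^ 2) := by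
  have hc := NotCT.Orders.m h
  have hfin : Finite S := Nat.finite_of_card_ne_zero (by rw [hc]; norm_num)
  exact tp_pair (r := 59) (r' := 71) (a := 46) (M := 11482618231106483731969943632999939453125) (by norm_num)
    (by norm_num) (by rw [hc]; norm_num)
    (by norm_num) (by norm_num) (by norm_num) (na_m h (Or.inr (Or.inl rfl))) (na_m h (Or.inr (Or.inr rfl)))
    (by simp only [_root_.List.mem_cons, _root_.Prod.mk.injEq, _root_.Nat.reduceEqDiff, _root_.and_self, _root_.and_true, _root_.List.not_mem_nil, _root_.or_false, _root_.or_true]) (by norm_num)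

theorem j3 {S : Type*} [Group S] (h : Spor.IsoJ3 S) : Cfsg.Agent.H691.TP S [(2, 17), (2, 19), (3, 17), (3, 19), (5, 17), (5, 19), (17, 19)] (20 ^ 2) := by
  have hc := NotCT.Orders.j3 h
  have hfin : Finite S := Nat.finite_of_card_ne_zero (by rw [hc]; norm_num)
  obtain ⟨-, z, Q, v, ρ, n, u, F⟩ := Cfsg.Agent.KFacts.J3.exists_facts h
  have hN : Nat.card S = 2 ^ 7 * 392445 := by rw [hc]; norm_num
  obtain ⟨t, ht⟩ := exists_order (S := S) Nat.prime_two (by rw [hN]; norm_num)
  refine tp_two (r := 19) (t := t) (c := 1920) (b := 392445 / (3 + 1)) (by norm_num) hN (by norm_num) (na_j3 h)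
    (two_pow_of_orderOf ht) ?_
    (fun x hx => cent_le (K := 3) (by norm_num) hN (by norm_num) (by norm_num) (na_j3 h) (by decide +kernel) hx)
    (by simp) (by norm_num)
  obtain ⟨g, hg⟩ := F.one t (ne_one_of_two ht) (sq_of_two ht)
  rw [card_cent_conj hg, F.card_C]

theorem hn {S : Type*} [Group S] (h : Spor.IsoHN S) : Cfsg.Agent.H691.TP S [(2, 7), (2, 11), (2, 19), (3, 5), (3, 7), (3, 11), (3, 19), (5, 7), (5, 11), (5, 19), (7, 11), (7, 19), (11, 19)] (50 ^ 2) := by
  have hc := NotCT.Orders.hn h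
  have hfin : Finite S := Nat.finite_of_card_ne_zero (by rw [hc]; norm_num)
  obtain ⟨e⟩ := h
  have hfin' : Finite Cfsg.Spor.HN := Finite.of_equiv S e.toEquiv
  have hN : Nat.card Cfsg.Spor.HN = 2 ^ 14 * 16664484375 := by
    rw [← Nat.card_congr e.toEquiv, hc]; norm_num
  refine tp_of_equiv e.symm ?_
  obtain ⟨t, ht⟩ := exists_order (S := Cfsg.Spor.HN) Nat.prime_two (by rw [hN]; norm_num)
  refine tp_two' (r := 19) (t := t) (c := 177408000) (by norm_num) hN (by norm_num) (by norm_num) na_hn_model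
    (two_pow_of_orderOf ht) ?_ (by simp) (by norm_num)
  rcases SigZeroHN.card_centralizer_cases ht with ⟨-, h⟩ | ⟨-, h⟩ <;> rw [h]
  norm_num

theorem th {S : Type*} [Group S] (h : Spor.IsoTh S) : Cfsg.Agent.H691.TP S [(2, 19), (3, 13), (3, 19), (3, 31), (5, 7), (5, 19), (5, 31), (7, 13), (7, 19), (7, 31), (13, 19), (13, 31), (19, 31)] (126 ^ 2) := by
  have hc := NotCT.Orders.th h
  have hfin : Finite S := Nat.finite_of_card_ne_zero (by rw [hc]; norm_num)
  obtain ⟨e⟩ := h
  have hfin' : Finite Cfsg.Spor.Th := Finite.of_equiv S e.toEquiv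
  have hN : Nat.card Cfsg.Spor.Th = 2 ^ 15 * 2769346432125 := by
    rw [← Nat.card_congr e.toEquiv, hc]; norm_num
  refine tp_of_equiv e.symm ?_
  obtain ⟨t, ht⟩ := exists_order (S := Cfsg.Spor.Th) Nat.prime_two (by rw [hN]; norm_num)
  exact tp_two' (r := 19) (t := t) (c := 92897280) (by norm_num) hN (by norm_num) (by norm_num) na_th_model
    (two_pow_of_orderOf ht) (MonsterX.ThOneClass.card_centralizer ht).le (by simp) (by norm_num)

end Cfsg.Agent.H474.TPRows
end

-- part: H474/TP/RowsB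
section
/-!
# `TP` rows: `Co₁`, `Co₂`, `Co₃`, `Suz`, `HS`, `Ru` (helper474)
-/

set_option autoImplicit false

namespace Cfsg.Agent.H474.TPRows

open Subgroup Cfsg Cfsg.Agent.H393.Iso Cfsg.Agent.H691

theorem co1 {S : Type*} [Group S] (h : Spor.IsoCo1 S) : Cfsg.Agent.H691.TP S [(2, 23), (3, 5), (3, 11), (3, 13), (3, 23), (5, 7), (5, 11), (5, 23), (7, 11), (7, 13), (7, 23), (11, 13), (11, 23), (13, 23)] (65 ^ 2) := by
  have hc := NotCT.Orders.co1 h
  have hfin : Finite S := Nat.finite_of_card_ne_zero (by rw [hc]; norm_num)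
  obtain ⟨e⟩ := h
  have hfin' : Finite Spor.Co1 := Finite.of_equiv S e.toEquiv
  have hN : Nat.card Spor.Co1 = 2 ^ 21 * 1982582476875 := by
    rw [← Nat.card_congr e.toEquiv, hc]; norm_num
  refine tp_of_equiv e.symm ?_
  have D := Cfsg.Agent.KFacts.Co1D4.Main.setup
  refine tp_two' (r := 23) (t := _) (c := 8 * 251596800) (by norm_num) hN (by norm_num) (by norm_num) na_co1_model
    (two_pow_of_sq D.ww) (D.card.trans (by rw [Cfsg.Agent.KFacts.Co1D4.GTwo.card_L])) (by simp) (by norm_num)

theorem co2 {S : Type*} [Group S] (h : Spor.IsoCo2 S) : Cfsg.Agent.H691.TP S [(2, 7), (2, 23), (3, 5), (3, 7), (3, 11), (3, 23), (5, 7), (5, 11), (5, 23), (7, 11), (7, 23), (11, 23)] (50 ^ 2) := by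
  have hc := NotCT.Orders.co2 h
  have hfin : Finite S := Nat.finite_of_card_ne_zero (by rw [hc]; norm_num)
  obtain ⟨e⟩ := h
  have hfin' : Finite Spor.Co2 := Finite.of_equiv S e.toEquiv
  have hN : Nat.card Spor.Co2 = 2 ^ 18 * 161382375 := by
    rw [← Nat.card_congr e.toEquiv, hc]; norm_num
  refine tp_of_equiv e.symm ?_
  have D := KFacts.CoTwo.QuotInst.dataT
  obtain ⟨π, hπ, hk⟩ := D.quot
  refine tp_two' (r := 23) (t := _) (c := 2 ^ 9 * 1451520) (by norm_num) hN (by norm_num) (by norm_num) na_co2_model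
    (two_pow_of_sq D.large.z_sq) ?_ (by simp) (by norm_num)
  rw [Subgroup.card_eq_card_quotient_mul_card_subgroup π.ker,
    Nat.card_congr (QuotientGroup.quotientKerEquivOfSurjective π hπ).toEquiv,
    show Nat.card KFacts.CoTwo.Quot.Sp62 = 1451520 from Co2Type.Setup.card_sp6, mul_comm]
  refine Nat.mul_le_mul_right _ ?_
  rw [← KFacts.CoTwo.RLarge.card_R]
  refine Nat.card_le_card_of_injective (fun x : π.ker => (⟨x.1.1, (hk x.1).1 x.2⟩ : KFacts.CoTwo.RSub.R)) ?_
  intro a b hab
  have := congrArg Subtype.val hab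
  exact Subtype.ext (Subtype.ext this)

theorem co3 {S : Type*} [Group S] (h : Spor.IsoCo3 S) : Cfsg.Agent.H691.TP S [(2, 7), (2, 23), (3, 5), (3, 7), (3, 11), (3, 23), (5, 7), (5, 11), (5, 23), (7, 11), (7, 23), (11, 23)] (50 ^ 2) := by
  have hc := NotCT.Orders.co3 h
  have hfin : Finite S := Nat.finite_of_card_ne_zero (by rw [hc]; norm_num)
  obtain ⟨e⟩ := h
  have hfin' : Finite Spor.Co3 := Finite.of_equiv S e.toEquiv
  have hN : Nat.card Spor.Co3 = 2 ^ 10 * 484147125 := by
    rw [← Nat.card_congr e.toEquiv, hc]; norm_num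
  refine tp_of_equiv e.symm ?_
  obtain ⟨w, D⟩ := CTwoTab.Co3.exists_data
  let f := SporRec.Co3.Model.equivCo3
  refine tp_of_equiv f ?_
  have hfin2 := CTwoTab.Co3.finite_G3
  have hN' := (Nat.card_congr f.toEquiv).trans hN
  have na := na_co3_model.of_equiv f.symm
  obtain ⟨π, N⟩ := D.ns
  refine tp_two (r := 23) (b := 484147125 / (2 + 1)) (c := 2903040) (by norm_num) hN' (by norm_num) na
    (two_pow_of_orderOf D.t2) (CTwoTab.Co3.card_of_NS N).le
    (fun x hx => cent_le (K := 2) (by norm_num) hN' (by norm_num) (by norm_num) na (by decide +kernel) hx)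
    (by simp) (by norm_num)

theorem suz {S : Type*} [Group S] (h : Spor.IsoSuz S) : Cfsg.Agent.H691.TP S [(2, 11), (3, 5), (3, 11), (3, 13), (5, 7), (5, 11), (7, 11), (7, 13), (11, 13)] (65 ^ 2) := by
  have hc := NotCT.Orders.suz h
  have hfin : Finite S := Nat.finite_of_card_ne_zero (by rw [hc]; norm_num)
  obtain ⟨e⟩ := h
  have hfin' : Finite Spor.Suz := Finite.of_equiv S e.toEquiv
  have hN : Nat.card Spor.Suz = 2 ^ 13 * 54729675 := by
    rw [← Nat.card_congr e.toEquiv, hc]; norm_num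
  refine tp_of_equiv e.symm ?_
  exact tp_two' (r := 11) (t := KFacts.SuzLFour.e0) (c := 161280) (by norm_num) hN (by norm_num) (by norm_num) na_suz_model
    (two_pow_of_sq (SuzThree.Basic.gen_sq .e)) KFacts.SuzTwoB.card_CE.le (by simp) (by norm_num)

theorem hs {S : Type*} [Group S] (h : Spor.IsoHS S) : Cfsg.Agent.H691.TP S [(2, 7), (2, 11), (3, 5), (3, 7), (3, 11), (5, 7), (5, 11), (7, 11)] (50 ^ 2) := by
  have hc := NotCT.Orders.hs h
  have hfin : Finite S := Nat.finite_of_card_ne_zero (by rw [hc]; norm_num)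
  have hN : Nat.card S = 2 ^ 9 * 86625 := by rw [hc]; norm_num
  obtain ⟨D⟩ := Cfsg.Agent.KFacts.HS.exists_mod h
  exact tp_two (r := 11) (t := KFacts.HS.DFour.wB D) (c := 2880) (b := 86625 / (6 + 1)) (by norm_num) hN (by norm_num) (na_hs h)
    (two_pow_of_sq (KFacts.HS.DFour.wB_sq D)) (KFacts.HS.DFour.card_C D)
    (fun x hx => cent_le (K := 6) (by norm_num) hN (by norm_num) (by norm_num) (na_hs h) (by decide +kernel) hx)
    (by simp) (by norm_num)

theorem ru {S : Type*} [Group S] (h : Spor.IsoRu S) : Cfsg.Agent.H691.TP S [(2, 29), (3, 13), (3, 29), (5, 7), (5, 29), (7, 13), (7, 29), (13, 29)] (65 ^ 2) := by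
  have hc := NotCT.Orders.ru h
  have hfin : Finite S := Nat.finite_of_card_ne_zero (by rw [hc]; norm_num)
  have hN : Nat.card S = 2 ^ 14 * 8906625 := by rw [hc]; norm_num
  obtain ⟨C, -⟩ := Cfsg.Agent.KFacts.Ru.exists_core h
  obtain ⟨a, ha⟩ : ∃ a : RuB.A4, a ≠ 0 := ⟨1, by decide⟩
  exact tp_two' (r := 29) (t := C.v a) (c := 4 * 29120) (by norm_num) hN (by norm_num) (by norm_num) (na_ru h)
    (two_pow_of_sq (C.v_sq a)) (RuB.Local.card_cent_v (C := C) ha).le (by simp) (by norm_num)

end Cfsg.Agent.H474.TPRows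
end

-- part: H474/TP/RowsC
section
/-!
# `TP` rows: `O'N`, `B`, `Fi₂₃` (helper474)
-/

set_option autoImplicit false

namespace Cfsg.Agent.H474.TPRows

open Subgroup Cfsg Cfsg.Agent.H393.Iso Cfsg.Agent.H691

theorem na_on_nineteen [Finite Cfsg.Spor.ON] : NA 19 Cfsg.Spor.ON := by
  refine NA.of_isConj (fun s => s = Cfsg.Agent.SporadicB.ON45Word.on .f) (fun t ht ht1 => ⟨_, rfl, ?_⟩) ?_
  · exact (Cfsg.Agent.KFacts.ON.OneClass.one_class ht ht1).symm
  · rintro s rfl x hx hxs
    refine not_comm_of_card ?_ hx hxs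
    rw [Cfsg.Agent.KFacts.ON.Cent.card_cent]
    norm_num

theorem on {S : Type*} [Group S] (h : Spor.IsoON S) : Cfsg.Agent.H691.TP S [(2, 11), (2, 19), (3, 19), (3, 31), (5, 7), (5, 11), (5, 19), (5, 31), (7, 11), (7, 19), (7, 31), (11, 19), (11, 31), (19, 31)] (126 ^ 2) := by
  have hc := NotCT.Orders.on h
  have hfin : Finite S := Nat.finite_of_card_ne_zero (by rw [hc]; norm_num)
  obtain ⟨e⟩ := h
  have hfin' : Finite Spor.ON := Finite.of_equiv S e.toEquiv
  have hN : Nat.card Spor.ON = 2 ^ 9 * 900030285 := by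
    rw [← Nat.card_congr e.toEquiv, hc]; norm_num
  refine tp_of_equiv e.symm ?_
  obtain ⟨t, ht⟩ := exists_order (S := Spor.ON) Nat.prime_two (by rw [hN]; norm_num)
  refine tp_two (r := 19) (t := t) (c := 161280) (b := 900030285 / (32 + 1)) (by norm_num) hN (by norm_num)
    na_on_nineteen (two_pow_of_orderOf ht) ?_
    (fun x hx => cent_le (K := 32) (by norm_num) hN (by norm_num) (by norm_num) na_on_nineteen (by decide +kernel) hx)
    (by simp) (by norm_num)
  rw [card_cent_isConj (Cfsg.Agent.KFacts.ON.OneClass.one_class (sq_of_two ht) (ne_one_of_two ht)).symm,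
    Cfsg.Agent.KFacts.ON.Cent.card_cent]

theorem b {S : Type*} [Group S] (h : Spor.IsoB S) : Cfsg.Agent.H691.TP S [(2, 19), (2, 47), (3, 13), (3, 17), (3, 19), (3, 31), (3, 47), (5, 7), (5, 11), (5, 19), (5, 23), (5, 31), (5, 47), (7, 11), (7, 13), (7, 17), (7, 19), (7, 23), (7, 31), (7, 47), (11, 13), (11, 17), (11, 19), (11, 23), (11, 31), (11, 47), (13, 19), (13, 23), (13, 31), (13, 47), (17, 19), (17, 23), (17, 31), (17, 47), (19, 23), (19, 31), (19, 47), (23, 31), (23, 47), (31, 47)] (2210 ^ 2) := by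
  have hc := NotCT.Orders.b h
  have hfin : Finite S := Nat.finite_of_card_ne_zero (by rw [hc]; norm_num)
  obtain ⟨e⟩ := h
  have hfin' : Finite Spor.BabyMonster := Finite.of_equiv S e.toEquiv
  have hN : Nat.card Spor.BabyMonster = 2 ^ 41 * 1889375872099856765625 := by
    rw [← Nat.card_congr e.toEquiv, hc]; norm_num
  refine tp_of_equiv e.symm ?_
  obtain ⟨K, _, _, hK, t, X₀, σ, D, -, hct⟩ := CTwoTab.BInst.exists_sec
  exact tp_two' (r := 47) (t := t) (c := 306129918735099415756800) (by norm_num) hN (by norm_num) (by norm_num) na_b_model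
    (two_pow_of_sq D.t_sq) hct.le (by simp only [_root_.List.mem_cons, _root_.Prod.mk.injEq, _root_.Nat.reduceEqDiff, _root_.and_false, _root_.and_self, _root_.and_true, _root_.List.not_mem_nil, _root_.or_self, _root_.or_false, _root_.or_true]) (by norm_num)

theorem card_le_two_mul {X : Type*} [Group X] [Finite X] {H K : Subgroup X}
    (h : ∀ x ∈ K, ∀ y ∈ K, x ∉ H → y ∉ H → x⁻¹ * y ∈ H) : Nat.card K ≤ 2 * Nat.card H := by
  classical
  by_cases hKH : K ≤ H
  · have := Nat.card_le_card_of_injective _ (inclusion_injective hKH)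
    omega
  · obtain ⟨x0, hx0, hx0'⟩ := SetLike.not_le_iff_exists.1 hKH
    have h1 : Nat.card K ≤ Nat.card (H ⊕ H) := by
      refine Nat.card_le_card_of_injective (fun k : K => if hk : (k : X) ∈ H then Sum.inl ⟨k, hk⟩ else
        Sum.inr ⟨x0⁻¹ * k, h x0 hx0 k k.2 hx0' hk⟩) ?_
      intro a b hab
      by_cases ha : (a : X) ∈ H <;> by_cases hb : (b : X) ∈ H <;> simp only [ha, hb, dif_pos, dif_neg,
        not_false_eq_true, Sum.inl.injEq, Sum.inr.injEq, Subtype.mk.injEq, reduceCtorEq, mul_right_inj] at hab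
      · exact Subtype.ext hab
      · exact Subtype.ext hab
    rw [Nat.card_sum] at h1
    omega

section Fi23

open Cfsg.Agent.Fischer.Fi23Z Cfsg.Agent.Fischer.Fi23Hom
open Cfsg.Agent.Fischer Cfsg.Agent.Fischer.Fi23Class Cfsg.Agent.Fischer.Fi23Simple
open Cfsg.Agent.KFacts.FiTTh.Cent
open Cfsg.Spor Cfsg.Spor.Fi23
open Cfsg.Agent.CTwoTab.Fi23

theorem card_pi2 [Finite Fi23] : Nat.card (centralizer Ds2) ≤ 9196830720 * 4 := by
  classical
  obtain ⟨π, hπ, hk⟩ := exists_pi2
  rw [Subgroup.card_eq_card_quotient_mul_card_subgroup π.ker,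
    Nat.card_congr (QuotientGroup.quotientKerEquivOfSurjective π hπ).toEquiv,
    card_U]
  refine Nat.mul_le_mul_left _ ?_
  have h1 : Nat.card π.ker ≤ ({1, z0, gen .a, z0 * gen .a} : Finset Fi23).card := by
    refine Nat.card_eq_fintype_card (α := ({1, z0, gen .a, z0 * gen .a} : Finset Fi23)) ▸
      Nat.card_le_card_of_injective (fun x : π.ker => (⟨x.1.1, by
        have := (hk x.1).1 x.2
        simp only [Finset.mem_insert, Finset.mem_singleton]
        exact this⟩ : ({1, z0, gen .a, z0 * gen .a} : Finset Fi23))) ?_ |>.trans (by simp only [_root_.Finset.mem_insert, _root_.Finset.mem_singleton, _root_.Fintype.card_coe, _root_.Std.le_refl])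
    intro a b hab
    have := congrArg Subtype.val hab
    exact Subtype.ext (Subtype.ext this)
  refine h1.trans ?_
  exact Finset.card_le_four

theorem card_W2 [Finite Fi23] : Nat.card (centralizer ({W2} : Set Fi23)) ≤ 2 * (9196830720 * 4) := by
  refine (card_le_two_mul (H := centralizer Ds2) ?_).trans (Nat.mul_le_mul_left 2 card_pi2)
  have key : ∀ x ∈ centralizer ({W2} : Set Fi23), x ∉ centralizer Ds2 → x * z0 * x⁻¹ = gen .a := by
    intro x hx hx'
    rcases perm2 (mem_centralizer_singleton_iff.1 hx) (x := z0) (Or.inl rfl) with h | h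
    · exfalso
      apply hx'
      have h1 : x * z0 = z0 * x := by
        calc x * z0 = x * z0 * x⁻¹ * x := by group
          _ = z0 * x := by rw [h]
      rw [mem_cent2]
      refine ⟨h1, ?_⟩
      have h2 : x * (z0 * gen .a) = z0 * gen .a * x := mem_centralizer_singleton_iff.1 hx
      have h3 : z0 * (x * gen .a) = z0 * (gen .a * x) := by
        calc z0 * (x * gen .a) = (z0 * x) * gen .a := by group
          _ = (x * z0) * gen .a := by rw [h1]
          _ = x * (z0 * gen .a) := by group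
          _ = z0 * gen .a * x := h2
          _ = z0 * (gen .a * x) := by group
      exact mul_left_cancel h3
    · exact h
  have key2 : ∀ x ∈ centralizer ({W2} : Set Fi23), x * z0 = z0 * x → x ∈ centralizer Ds2 := by
    intro x hx h1
    rw [mem_cent2]
    refine ⟨h1, ?_⟩
    have h2 : x * (z0 * gen .a) = z0 * gen .a * x := mem_centralizer_singleton_iff.1 hx
    have h3 : z0 * (x * gen .a) = z0 * (gen .a * x) := by
      calc z0 * (x * gen .a) = (z0 * x) * gen .a := by group
        _ = (x * z0) * gen .a := by rw [h1]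
        _ = x * (z0 * gen .a) := by group
        _ = z0 * gen .a * x := h2
        _ = z0 * (gen .a * x) := by group
    exact mul_left_cancel h3
  intro x hx y hy hx' hy'
  refine key2 _ (mul_mem (inv_mem hx) hy) ?_
  have h1 := key x hx hx'
  have h2 := key y hy hy'
  have h3 : y * z0 * y⁻¹ = x * z0 * x⁻¹ := by rw [h1, h2]
  calc x⁻¹ * y * z0 = x⁻¹ * (y * z0 * y⁻¹) * y := by group
    _ = x⁻¹ * (x * z0 * x⁻¹) * y := by rw [h3]
    _ = z0 * (x⁻¹ * y) := by group

theorem fi23 {S : Type*} [Group S] (h : Spor.IsoFi23 S) : Cfsg.Agent.H691.TP S [(2, 23), (3, 11), (3, 13), (3, 17), (3, 23), (5, 7), (5, 11), (5, 23), (7, 11), (7, 13), (7, 17), (7, 23), (11, 13), (11, 17), (11, 23), (13, 17), (13, 23), (17, 23)] (170 ^ 2) := by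
  have hc := NotCT.Orders.fi23 h
  have hfin : Finite S := Nat.finite_of_card_ne_zero (by rw [hc]; norm_num)
  obtain ⟨e⟩ := h
  have hfin' : Finite Spor.Fi23 := Finite.of_equiv S e.toEquiv
  have hN : Nat.card Spor.Fi23 = 2 ^ 18 * 15600091832325 := by
    rw [← Nat.card_congr e.toEquiv, hc]; norm_num
  refine tp_of_equiv e.symm ?_
  have hW : W2 * W2 = 1 := by
    unfold W2
    calc z0 * gen .a * (z0 * gen .a) = z0 * (gen .a * z0) * gen .a := by group
      _ = (z0 * z0) * (gen .a * gen .a) := by rw [za]; group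
      _ = 1 := by rw [KFacts.FiTTh.Cent.zz, Cfsg.Agent.Fischer.Fi23Final.gen_sq, one_mul]
  exact tp_two' (r := 23) (t := W2) (c := 2 * (9196830720 * 4)) (by norm_num) hN (by norm_num) (by norm_num)
    na_fi23_model (two_pow_of_sq hW) card_W2 (by simp) (by norm_num)

end Fi23

end Cfsg.Agent.H474.TPRows
end

-- part: H474/TP/RowsD
section
/-!
# `TP` rows: `J₂`, `He` (helper474)
-/

set_option autoImplicit false

namespace Cfsg.Agent.H474.TPRows

open Subgroup Cfsg Cfsg.Agent.H393.Iso Cfsg.Agent.H691 Cfsg.Agent.H94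

/-- an element of prime order generating a self-centralizing subgroup -/
theorem exists_cent_of_card {S : Type*} [Group S] [Finite S] {r : ℕ} (hr : r.Prime) {P : Subgroup S}
    (hcP : Nat.card P = r) (hP : centralizer (P : Set S) = P) :
    ∃ x : S, orderOf x = r ∧ Nat.card (centralizer ({x} : Set S)) = r := by
  obtain ⟨y, hy⟩ := exists_order (S := P) hr (by rw [hcP])
  obtain ⟨x, rfl⟩ : ∃ x : S, x = y := ⟨_, rfl⟩
  have hx' : orderOf (y : S) = r := by rw [orderOf_coe]; exact hy
  refine ⟨y, hx', ?_⟩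
  have hz : zpowers (y : S) = P := by
    apply eq_of_le_of_card_ge (zpowers_le.2 y.2)
    rw [Nat.card_zpowers, hx', hcP]
  have hcx : centralizer ({(y : S)} : Set S) = centralizer (P : Set S) := by
    have h1 : centralizer ((_root_.Subgroup.closure {(y : S)} : Subgroup S) : Set S) = centralizer {(y : S)} := centralizer_closure _
    rw [← h1, ← zpowers_eq_closure]
    exact congrArg (fun H : Subgroup S => centralizer (H : Set S)) hz
  rw [hcx, hP, hcP]

theorem j2 {S : Type*} [Group S] (h : Spor.IsoJ2 S) : Cfsg.Agent.H691.TP S [(2, 7), (3, 5), (3, 7), (5, 7)] (50 ^ 2) := by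
  have hc := NotCT.Orders.j2 h
  have hfin : Finite S := Nat.finite_of_card_ne_zero (by rw [hc]; norm_num)
  obtain ⟨t, u, Q, v, ρ, D⟩ := Cfsg.Agent.KFacts.J2.Facts.exists_dat_of h
  obtain ⟨a, b, -, hb, -, hcb, -, -⟩ := Cfsg.Agent.J2Type.ThreeF.main D.F
  have h7 : Fact (Nat.Prime 7) := ⟨by norm_num⟩
  obtain ⟨P⟩ : Nonempty (Sylow 7 S) := inferInstance
  have hP := Cfsg.Agent.J2Type.ThreeF.sylow_seven D.F P
  have hcP : Nat.card (P : Subgroup S) = 7 := by
    have := Cfsg.Agent.J2Type.SylowSeven.card_sylow P 1 86400 (by rw [hc]; norm_num) (by norm_num)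
    simpa only [_root_.pow_one] using this
  obtain ⟨x, hx, hcx⟩ := exists_cent_of_card (by norm_num) hcP hP.1
  refine ⟨3, 7, b, x, by simp, ⟨1, ?_⟩, ⟨1, ?_⟩, ?_⟩
  · have := pow_orderOf_eq_one b
    rwa [hb] at this
  · have := pow_orderOf_eq_one x
    rwa [hx] at this
  · rw [hcb, hcx, hc]
    norm_num

section He

open Cfsg.Agent.SporadicRecognition.HeldModel
open Cfsg.Agent.KFacts.He.Lv Cfsg.Agent.KFacts.He.TwoACent Cfsg.Agent.KFacts.He.TwoAPlane

/-- `|C(a)| ≥ 161280` -/
theorem card_cent_a [Finite Spor.He] : 161280 ≤ Nat.card (centralizer ({gn .a} : Set Spor.He)) := by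
  have hL : L ≤ centralizer ({gn .a} : Set Spor.He) := fun x hx => mem_centralizer_singleton_iff.2 (L_comm_a hx)
  have hs : s ∈ centralizer ({gn .a} : Set Spor.He) := mem_centralizer_singleton_iff.2 s_comm_a
  have hsL : s ∉ L := by
    intro h
    have h1 : s * v = v * s := mem_V.1 v_mem_V s h
    have h2 := s_conj_v
    apply a_ne_one
    rw [← h2, h1]
    group
  obtain ⟨k, hk⟩ := card_dvd_of_le hL
  rw [CpAut.SmallP.He.card_L] at hk
  have hk1 : k ≠ 1 := by
    rintro rfl
    apply hsL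
    have h3 : L = centralizer ({gn .a} : Set Spor.He) :=
      eq_of_le_of_card_ge hL (by rw [hk, CpAut.SmallP.He.card_L])
    rw [h3]
    exact hs
  have hk0 : k ≠ 0 := by
    rintro rfl
    rw [mul_zero] at hk
    exact Nat.card_pos.ne' hk
  rw [hk]
  calc 161280 = 80640 * 2 := by norm_num
    _ ≤ 80640 * k := Nat.mul_le_mul_left _ (by omega)

/-- the odd order subgroups of `C(a)` are in `L` -/
theorem le_L [Finite Spor.He] {D : Subgroup Spor.He} (hD : ¬ 2 ∣ Nat.card D)
    (h : D ≤ centralizer ({gn .a} : Set Spor.He)) : D ≤ L := by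
  intro x hx
  have h1 : orderOf x ∣ Nat.card D := by
    have := _root_.orderOf_dvd_natCard (⟨x, hx⟩ : D)
    rwa [Subgroup.orderOf_mk] at this
  refine CpAut.SmallP.He.mem_L (p := orderOf x) ?_ rfl (mem_centralizer_singleton_iff.1 (h hx))
  rw [← Nat.not_even_iff_odd]
  intro h2
  exact hD (h2.two_dvd.trans h1)

theorem he {S : Type*} [Group S] (h : Spor.IsoHe S) : Cfsg.Agent.H691.TP S [(2, 7), (2, 17), (3, 7), (3, 17), (5, 7), (5, 17), (7, 17)] (50 ^ 2) := by
  have hc := NotCT.Orders.he h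
  have hfin : Finite S := Nat.finite_of_card_ne_zero (by rw [hc]; norm_num)
  obtain ⟨e⟩ := h
  have hfin' : Finite Spor.He := Finite.of_equiv S e.toEquiv
  have hN : Nat.card Spor.He = 2 ^ 10 * 3935925 := by
    rw [← Nat.card_congr e.toEquiv, hc]; norm_num
  refine tp_of_equiv e.symm ?_
  refine tp_two (r := 17) (t := KFacts.He.Bound.z) (c := 21504) (b := 3935925 / (2 + 1)) (by norm_num) hN (by norm_num)
    na_he_model ?_ KFacts.He.Classes.card_centralizer.le ?_ (by simp) (by norm_num)
  · obtain ⟨R, E, E', hs⟩ := CTwoTab.He.sheet_z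
    exact two_pow_of_sq hs.zz
  · intro x hx
    rcases cent_or (K := 2) (ks := [1]) (by norm_num) hN (by norm_num) (by norm_num) na_he_model (by decide +kernel) hx with
      h1 | ⟨k, hk, h1⟩
    · exact h1
    · exfalso
      simp only [List.mem_singleton] at hk
      subst hk
      have h2 := card_D_ge hN (by norm_num) h1 (gn .a)
      have h3 := odd_D na_he_model hx (gn .a)
      have h4 : D (gn .a) x ≤ L := le_L h3 inf_le_left
      have h5 := card_dvd_of_le h4
      rw [CpAut.SmallP.He.card_L] at h5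
      have h6 : Nat.card (D (gn .a) x) ∣ 315 := by
        have : Nat.card (D (gn .a) x) ∣ 2 ^ 8 * 315 := by
          refine h5.trans ?_
          norm_num
        exact (Nat.Coprime.dvd_mul_left (Nat.Coprime.pow_right 8
          ((Nat.Prime.coprime_iff_not_dvd Nat.prime_two).2 h3).symm)).1 this
      have h7 : 158 ≤ Nat.card (D (gn .a) x) := by
        have := card_cent_a
        omega
      have h8 : Nat.card (D (gn .a) x) = 315 := by
        obtain ⟨j, hj⟩ := h6
        have : j < 2 := by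
          by_contra hcon
          push Not at hcon
          have := Nat.mul_le_mul h7 hcon
          omega
        interval_cases j <;> omega
      obtain ⟨y, hy⟩ := exists_order (S := D (gn .a) x) (r := 5) (by norm_num) (by rw [h8]; norm_num)
      obtain ⟨e, he, h9, h10⟩ := PG.Sp.sylow_arith (by norm_num) hy (by rw [h8]; norm_num)
      have h11 : Nat.card (centralizer ({y} : Set (D (gn .a) x))) ∣ 20 := by
        have h12 := CpAut.SmallP.He.card_a5 (x := (y : Spor.He)) (by rw [orderOf_coe]; exact hy)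
          (mem_centralizer_singleton_iff.1 (mem_inf.1 y.2).1).symm
        refine dvd_trans ?_ h12
        have h13 : (centralizer ({y} : Set (D (gn .a) x))).map (D (gn .a) x).subtype ≤
            CpAut.SmallP.DD (y : Spor.He) (gn .a) := by
          rintro _ ⟨w, hw, rfl⟩
          rw [CpAut.SmallP.mem_DD]
          refine ⟨mem_centralizer_singleton_iff.1 (mem_inf.1 w.2).1, ?_⟩
          exact congrArg Subtype.val (mem_centralizer_singleton_iff.1 hw)
        have h14 := card_dvd_of_le h13
        rwa [card_map_of_injective (D (gn .a) x).subtype_injective] at h14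
      rw [h8] at h9 h10
      set c := Nat.card (centralizer ({y} : Set (D (gn .a) x)))
      have h15 : c ≤ 20 := Nat.le_of_dvd (by norm_num) h11
      have h16 : e ≤ 4 := Nat.le_of_dvd (by norm_num) he
      have h17 : 5 ∣ c := by
        have h5 := _root_.orderOf_dvd_natCard (⟨y, mem_centralizer_singleton_iff.2 rfl⟩ : centralizer ({y} : Set (D (gn .a) x)))
        rwa [Subgroup.orderOf_mk, hy] at h5
      have h18 : c ∣ 315 := (Dvd.intro _ rfl).trans h9
      interval_cases c <;> first | (clear * - h11 h17 h18; omega) | skip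
      all_goals interval_cases e <;> omega

end He

end Cfsg.Agent.H474.TPRows
end

-- part: H474/TP/RowTits
section
/-!
# `TP` row: the Tits group (helper474)
-/

set_option autoImplicit false

namespace Cfsg.Agent.H474.TPRows

open Subgroup Cfsg Cfsg.Agent.H393.Iso Cfsg.Agent.H691 Cfsg.Agent.H94
open Cfsg.Agent.TitsK
open Cfsg.Agent.FourTwo.Base hiding bar bar_lt
open Cfsg.Agent.FourTwo.BN

/-- abstract form: the elements `x ^ k z ^ l j ^ m` of a 2-group in `T` -/
theorem tits_cases {G : Type*} [Group G] {U T : Subgroup G} {x z j p : G} (hU : IsPGroup 2 U) (h5 : x ^ 5 = 1)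
    (hj : j * j = z) (hz : z * z = 1) (hjx : j * x = x * j) (hjT : j ∉ T) (hxT : x ∈ T) (hzT : z ∈ T)
    (hpU : p ∈ U) (hpT : p ∈ T) (h : ∃ k l m : ℕ, p = x ^ k * z ^ l * j ^ m) : p = 1 ∨ p = z := by
  obtain ⟨k, l, m, rfl⟩ := h
  have cj : Commute j x := hjx
  have cz : Commute z x := by rw [← hj]; exact cj.mul_left cj
  have czj : Commute z j := by rw [← hj]; exact (Commute.refl j).mul_left (Commute.refl j)
  obtain ⟨n, hn⟩ := hU ⟨_, hpU⟩
  have hn' : (x ^ k * z ^ l * j ^ m) ^ 2 ^ n = 1 := congrArg Subtype.val hn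
  have h4 : (z ^ l * j ^ m) ^ 4 = 1 := by
    have e1 : (z ^ l * j ^ m) ^ 4 = (z * z) ^ (2 * l) * (z * z) ^ m := by
      rw [((czj.pow_left l).pow_right m).mul_pow, ← pow_two z, ← pow_mul, ← pow_mul, ← pow_mul, ← pow_mul]
      congr 1
      · ring_nf
      · rw [show m * 4 = 4 * m by ring, pow_mul j 4 m, show j ^ 4 = z ^ 2 by
          rw [show (4 : ℕ) = 2 * 2 by norm_num, pow_mul, pow_two j, hj], ← pow_mul]
    rw [e1, hz, one_pow, one_pow, mul_one]
  have h5' : x ^ k = 1 := by
    have c1 : Commute (x ^ k) (z ^ l * j ^ m) :=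
      ((cz.symm.pow_left k).pow_right l).mul_right ((cj.symm.pow_left k).pow_right m)
    rw [mul_assoc, c1.mul_pow] at hn'
    have h6 : (x ^ k) ^ (2 ^ n * 4) = 1 := by
      have h7 : (x ^ k) ^ 2 ^ n = ((z ^ l * j ^ m) ^ 2 ^ n)⁻¹ := eq_inv_of_mul_eq_one_left hn'
      rw [pow_mul, h7, inv_pow, ← pow_mul, mul_comm, pow_mul, h4, one_pow, inv_one]
    have h8 : orderOf (x ^ k) ∣ 2 ^ n * 4 := orderOf_dvd_of_pow_eq_one h6
    have h9 : orderOf (x ^ k) ∣ 5 := orderOf_dvd_of_pow_eq_one (by rw [← pow_mul, mul_comm, pow_mul, h5, one_pow])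
    have hc : Nat.Coprime (2 ^ n * 4) 5 := by
      refine Nat.Coprime.mul_left (Nat.Coprime.pow_left n (by norm_num)) (by norm_num)
    exact orderOf_eq_one_iff.1 (Nat.eq_one_of_dvd_coprimes hc h8 h9)
  rw [h5', one_mul] at hpT ⊢
  have hjm : j ^ m ∈ T := by
    have := T.mul_mem (T.inv_mem (T.pow_mem hzT l)) hpT
    rwa [inv_mul_cancel_left] at this
  obtain ⟨a, ha⟩ : ∃ a, m = 2 * a := by
    rcases Nat.even_or_odd' m with ⟨a, h | h⟩
    · exact ⟨a, h⟩
    · exfalso
      apply hjT
      rw [h, pow_succ, pow_mul, pow_two, hj] at hjm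
      have := T.mul_mem (T.inv_mem (T.pow_mem hzT a)) hjm
      rwa [inv_mul_cancel_left] at this
  rw [ha, pow_mul, pow_two, hj, ← pow_add]
  rcases Nat.even_or_odd' (l + a) with ⟨b, hb | hb⟩
  · left
    rw [hb, pow_mul, pow_two, hz, one_pow]
  · right
    rw [hb, pow_succ, pow_mul, pow_two, hz, one_pow, one_mul]

/-- abstract form of the bound -/
theorem tits_index {G : Type*} [Group G] [Finite G] {U T : Subgroup G} {x z : G} (hxT : x ∈ T)
    (hc : ∀ p ∈ U, p ∈ T → p * x = x * p → p = 1 ∨ p = z) (hUT : Nat.card (U ⊓ T : Subgroup G) = 2048) :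
    1024 ≤ (centralizer ({(⟨x, hxT⟩ : T)} : Set T)).index := by
  have h1 := card_le_inf_mul_index ((U ⊓ T).subgroupOf T) (centralizer ({(⟨x, hxT⟩ : T)} : Set T))
  rw [Nat.card_congr (subgroupOfEquivOfLe (inf_le_right : U ⊓ T ≤ T)).toEquiv, hUT] at h1
  have h2 : Nat.card ((U ⊓ T).subgroupOf T ⊓ centralizer ({(⟨x, hxT⟩ : T)} : Set T) : Subgroup T) ≤ 2 := by
    classical
    have h3 : ∀ y : ((U ⊓ T).subgroupOf T ⊓ centralizer ({(⟨x, hxT⟩ : T)} : Set T) : Subgroup T),
        ((y : T) : G) = 1 ∨ ((y : T) : G) = z := by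
      intro y
      obtain ⟨h4, h5⟩ := mem_inf.1 y.2
      exact hc _ (mem_inf.1 (mem_subgroupOf.1 h4)).1 (y : T).2 (congrArg Subtype.val (mem_centralizer_singleton_iff.1 h5))
    have h4 : Nat.card ((U ⊓ T).subgroupOf T ⊓ centralizer ({(⟨x, hxT⟩ : T)} : Set T) : Subgroup T) ≤
        Nat.card Bool := by
      refine Nat.card_le_card_of_injective (fun y => decide (((y : T) : G) = 1)) ?_
      intro a b hab
      simp only [decide_eq_decide] at hab
      apply Subtype.ext
      apply Subtype.ext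
      rcases h3 a with ha | ha
      · rw [ha, hab.1 ha]
      · rcases h3 b with hb | hb
        · rw [hb, hab.2 hb]
        · rw [ha, hb]
    simpa only [_root_.Subgroup.inf_subgroupOf_right, _root_.Subgroup.mem_inf, _root_.ge_iff_le, _root_.Nat.card_eq_fintype_card, _root_.Fintype.card_bool] using h4
  have h3 := h1.trans (Nat.mul_le_mul_right _ h2)
  omega

theorem tits_of {G : Type*} [Group G] [Finite G] {U T : Subgroup G} {x z j : G} (hU : IsPGroup 2 U) (h5 : x ^ 5 = 1)
    (hj : j * j = z) (hz : z * z = 1) (hjx : j * x = x * j) (hjT : j ∉ T) (hxT : x ∈ T) (hzT : z ∈ T)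
    (hc : ∀ p ∈ U, p * x = x * p → ∃ k l m : ℕ, p = x ^ k * z ^ l * j ^ m)
    (hUT : Nat.card (U ⊓ T : Subgroup G) = 2048) (hT : Nat.card T = 17971200) (na : NA 13 T) :
    Cfsg.Agent.H691.TP T [(3, 5), (3, 13), (5, 13)] (26 ^ 2) := by
  have hN : Nat.card T = 2 ^ 11 * 8775 := by rw [hT]; norm_num
  have h1 := tits_index (z := z) hxT (fun p hp hpT hpx => tits_cases hU h5 hj hz hjx hjT hxT hzT hp hpT (hc p hp hpx)) hUT
  have h2 := card_mul_index (centralizer ({(⟨x, hxT⟩ : T)} : Set T))
  rw [hT] at h2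
  have h3 : Nat.card (centralizer ({(⟨x, hxT⟩ : T)} : Set T)) ≤ 17550 := by
    by_contra hcon
    push Not at hcon
    have := Nat.mul_le_mul hcon h1
    omega
  obtain ⟨y, hy⟩ := exists_order (S := T) (r := 13) (by norm_num) (by rw [hT]; norm_num)
  have h4 := cent_le (K := 14) (by norm_num) hN (by norm_num) (by norm_num) na (by decide +kernel) hy
  refine ⟨5, 13, ⟨x, hxT⟩, y, by simp, ⟨1, Subtype.ext ?_⟩, ⟨1, ?_⟩, ?_⟩
  · rw [pow_one]
    exact h5
  · have := pow_orderOf_eq_one y
    rwa [hy] at this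
  · rw [hT]
    have h5 := Nat.add_le_add h3 h4
    refine lt_of_le_of_lt (Nat.mul_le_mul_right _ h5) ?_
    norm_num

theorem cent_UT {p : LL} (hp : p ∈ UT) (h : p * xf = xf * p) : ∃ k l m : ℕ, p = xf ^ k * z ^ l * jf ^ m :=
  cent_xf (UT_le_Pz hp) h

theorem card_ST : Nat.card (UT ⊓ TT : Subgroup LL) = 2048 := by
  have h1 : Nat.card (UT ⊓ TT : Subgroup LL) ∣ 2 ^ 12 := by
    rw [← card_UT]
    exact card_dvd_of_le inf_le_left
  have h2 : Nat.card (UT ⊓ TT : Subgroup LL) * (UT ⊓ TT).relIndex TT = Nat.card TT := by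
    rw [relIndex, ← card_mul_index ((UT ⊓ TT).subgroupOf TT),
      Nat.card_congr (subgroupOfEquivOfLe (inf_le_right : UT ⊓ TT ≤ TT)).toEquiv]
  rw [card_TT] at h2
  have h3 : 2 ^ 11 ∣ Nat.card (UT ⊓ TT : Subgroup LL) := by
    refine (Nat.Coprime.pow_left 11 ((Nat.Prime.coprime_iff_not_dvd Nat.prime_two).2 odd_ST)).dvd_of_dvd_mul_right ?_
    rw [h2]
    exact ⟨3 ^ 3 * 5 ^ 2 * 13, by norm_num⟩
  obtain ⟨a, ha⟩ := (Nat.dvd_prime_pow Nat.prime_two).1 h1
  obtain ⟨b, hb⟩ := h3
  have h4 : 2 ^ 11 * b ∣ 2 ^ 12 := hb ▸ h1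
  have h5 : b ∣ 2 := by
    have : 2 ^ 11 * b ∣ 2 ^ 11 * 2 := by simpa only [_root_.Nat.reducePow, _root_.Nat.reduceMul] using h4
    exact Nat.dvd_of_mul_dvd_mul_left (by norm_num) this
  rcases (Nat.dvd_prime Nat.prime_two).1 h5 with rfl | rfl
  · rw [hb]
    norm_num
  · exfalso
    rw [hb] at h2
    omega

theorem tits_abs {G : Type*} [Group G] [Finite G] {U T : Subgroup G} {x z j : G} (hU : IsPGroup 2 U) (h5 : x ^ 5 = 1)
    (hj : j * j = z) (hz : z * z = 1) (hjx : j * x = x * j) (hjT : j ∉ T) (hxT : x ∈ T) (hzT : z ∈ T)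
    (hc : ∀ p ∈ U, p * x = x * p → ∃ k l m : ℕ, p = x ^ k * z ^ l * j ^ m)
    (hUT : Nat.card (U ⊓ T : Subgroup G) = 2048) {S : Type*} [Group S] (hS : Lie.IsoTits S)
    (h : Nonempty (Lie.TitsGroup ≃* T)) :
    Cfsg.Agent.H691.TP S [(3, 5), (3, 13), (5, 13)] (26 ^ 2) := by
  have hcS := NotCT.Orders.tits hS
  have hfin : Finite S := Nat.finite_of_card_ne_zero (by rw [hcS]; norm_num)
  have na := na_tits hS
  obtain ⟨e⟩ := hS
  obtain ⟨e'⟩ := h
  refine tp_of_equiv (e.trans e').symm ?_
  refine tits_of hU h5 hj hz hjx hjT hxT hzT hc hUT ?_ (na.of_equiv (e.trans e'))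
  rw [← Nat.card_congr (e.trans e').toEquiv, hcS]

theorem tits {S : Type*} [Group S] (h : Lie.IsoTits S) : Cfsg.Agent.H691.TP S [(3, 5), (3, 13), (5, 13)] (26 ^ 2) :=
  tits_abs (G := LL) (U := UT) (T := TT) (x := xf) (z := z) (j := jf) isPGroup_UT xf_pow5 jf_sq z_sq jf_comm_xf
    jf_not_mem xf_mem_TT z_mem_TT (fun _ hp hpx => cent_UT hp hpx) card_ST h exists_equiv

end Cfsg.Agent.H474.TPRows
end

-- part: H474/TP/RankThree
section
/-!
# The product of two non-commuting 3-transpositions (helper474)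

In a rank three 3-transposition group in which a transposition commutes with all but `m` others, the product of two
non-commuting transpositions has at least `2 m` conjugates: the products `a b` with `a` fixed and `c d` with `c` fixed,
`a ≠ c` commuting, are all different.
-/

set_option autoImplicit false

namespace Cfsg.Agent.H474.RankThree

open Subgroup Cfsg.Agent.Fischer.Abstract

/-- the number of conjugates -/
theorem card_class {C : Type*} [Group C] (x : C) :
    Nat.card {y : C // ∃ k : C, k * x * k⁻¹ = y} * Nat.card (centralizer ({x} : Set C)) = Nat.card C := by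
  have e := Nat.card_congr (MulAction.orbitProdStabilizerEquivGroup (ConjAct C) x)
  rw [Nat.card_prod] at e
  have e1 : Nat.card (MulAction.orbit (ConjAct C) x) = Nat.card {y : C // ∃ k : C, k * x * k⁻¹ = y} := by
    apply Nat.card_congr
    refine Equiv.subtypeEquivRight ?_
    intro y
    constructor
    · rintro ⟨k, hk⟩
      exact ⟨ConjAct.ofConjAct k, by rw [← hk]; rfl⟩
    · rintro ⟨k, hk⟩
      exact ⟨ConjAct.toConjAct k, by rw [← hk]; rfl⟩
  have e2 : Nat.card (MulAction.stabilizer (ConjAct C) x) = Nat.card (centralizer ({x} : Set C)) := by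
    apply Nat.card_congr
    refine (Equiv.subtypeEquiv ConjAct.ofConjAct.toEquiv ?_)
    intro k
    rw [MulAction.mem_stabilizer_iff, ConjAct.smul_def, mul_inv_eq_iff_eq_mul, mem_centralizer_singleton_iff]
    rfl
  rw [← e1, ← e2, e]
  exact Nat.card_congr ConjAct.ofConjAct.toEquiv

/-- two commuting different transpositions do not invert the same element `a b` -/
theorem cross {G : Type*} [Group G] {a b c d : G} (ha : a * a = 1) (hc : c * c = 1) (hac : a * c = c * a)
    (hne : a ≠ c) (hab : a * b * a = b * a * b) (hnab : a * b ≠ b * a) (hb : b * b = 1)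
    (hcd : c * d * c = d * c * d) (hd : d * d = 1)
    (hbc : c * b = b * c ∨ c * b * c = b * c * b) (h : a * b = c * d) : False := by
  -- `c` inverts `a b`
  have h1 : c * (a * b) * c = b * a := by
    have h2 : (a * b) * (b * a) = 1 := by
      calc a * b * (b * a) = a * (b * b) * a := by group
        _ = 1 := by rw [hb, mul_one, ha]
    have h3 : (a * b) * (c * (a * b) * c) = 1 := by
      rw [h]
      calc c * d * (c * (c * d) * c) = c * d * (c * c) * d * c := by group
        _ = c * (d * d) * c := by rw [hc]; group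
        _ = 1 := by rw [hd, mul_one, hc]
    exact mul_left_cancel (h3.trans h2.symm)
  have h2 : c * b * c = a * b * a := by
    have h3 : a * (c * b * c) = b * a := by
      calc a * (c * b * c) = a * c * b * c := by group
        _ = c * a * b * c := by rw [hac]
        _ = c * (a * b) * c := by group
        _ = b * a := h1
    calc c * b * c = (a * a) * (c * b * c) := by rw [ha, one_mul]
      _ = a * (a * (c * b * c)) := by group
      _ = a * (b * a) := by rw [h3]
      _ = a * b * a := by group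
  rcases hbc with hbc | hbc
  · apply hnab
    have h3 : b = a * b * a := by
      rw [← h2, hbc, mul_assoc, hc, mul_one]
    calc a * b = a * (a * b * a) := by rw [← h3]
      _ = (a * a) * b * a := by group
      _ = b * a := by rw [ha, one_mul]
  · apply hne
    have h3 : b * c * b = b * a * b := by rw [← hbc, h2, hab]
    have h4 : c * b = a * b := by
      have : b * (c * b) = b * (a * b) := by rw [← mul_assoc, h3, mul_assoc]
      exact mul_left_cancel this
    exact (mul_right_cancel h4).symm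

variable {G X : Type*} [Group G] [MulAction G X] (R : Rank3 G X)

/-- the product of two non-commuting transpositions -/
def W : G := R.t R.x0 * R.t R.b

theorem sq (x : X) : R.t x * R.t x = 1 := by
  obtain ⟨g, rfl⟩ := R.trans x
  rw [R.map_smul]
  calc g * R.t R.x0 * g⁻¹ * (g * R.t R.x0 * g⁻¹) = g * (R.t R.x0 * R.t R.x0) * g⁻¹ := by group
    _ = 1 := by rw [R.sq]; group

theorem exists_conj {x y : X} (h : ¬ R.Com x y) : ∃ k : G, k * W R * k⁻¹ = R.t x * R.t y := by
  obtain ⟨k, rfl⟩ := R.trans x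
  have h1 : ¬ R.Com R.x0 (k⁻¹ • y) := by
    intro h2
    apply h
    have h3 := (R.com_smul k R.x0 (k⁻¹ • y)).2 h2
    rwa [smul_inv_smul] at h3
  obtain ⟨l, hl, hl2⟩ := R.not_com_x0_iff.1 h1
  refine ⟨k * l, ?_⟩
  have e1 : R.t (k • R.x0) = (k * l) * R.t R.x0 * (k * l)⁻¹ := by
    rw [← R.map_smul, mul_smul, hl]
  have e2 : R.t y = (k * l) * R.t R.b * (k * l)⁻¹ := by
    rw [← R.map_smul, mul_smul, hl2, smul_inv_smul]
  rw [e1, e2]
  unfold W
  group

theorem W_cube : W R ^ 3 = 1 := by
  unfold W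
  have h1 := R.sq
  have h2 := sq R R.b
  calc (R.t R.x0 * R.t R.b) ^ 3 = (R.t R.x0 * R.t R.b * R.t R.x0) * (R.t R.b * R.t R.x0 * R.t R.b) := by
        rw [pow_succ, pow_two]; group
    _ = (R.t R.b * R.t R.x0 * R.t R.b) * (R.t R.b * R.t R.x0 * R.t R.b) := by rw [R.braid_b]
    _ = R.t R.b * R.t R.x0 * (R.t R.b * R.t R.b) * R.t R.x0 * R.t R.b := by group
    _ = R.t R.b * (R.t R.x0 * R.t R.x0) * R.t R.b := by rw [h2]; group
    _ = 1 := by rw [h1, mul_one, h2]

theorem braid {x y : X} (h : ¬ R.Com x y) : R.t x * R.t y * R.t x = R.t y * R.t x * R.t y :=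
  (R.com_or_braid x y).resolve_left h

theorem card_ncom_le [Finite X] (c : X) : Nat.card {y : X // ¬ R.Com R.x0 y} ≤ Nat.card {y : X // ¬ R.Com c y} := by
  obtain ⟨k, rfl⟩ := R.trans c
  refine Nat.card_le_card_of_injective (fun y => ⟨k • (y : X), fun h => y.2 ((R.com_smul k _ _).1 h)⟩) ?_
  intro a b hab
  exact Subtype.ext ((MulAction.injective k) (congrArg Subtype.val hab))

/-- **the class of `W` has at least `2 m` elements** -/
theorem two_mul_le [Finite G] [Finite X] :
    2 * Nat.card {y : X // ¬ R.Com R.x0 y} ≤ Nat.card {y : G // ∃ k : G, k * W R * k⁻¹ = y} := by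
  classical
  have h1 : Nat.card ({y : X // ¬ R.Com R.x0 y} ⊕ {y : X // ¬ R.Com R.c y}) ≤
      Nat.card {y : G // ∃ k : G, k * W R * k⁻¹ = y} := by
    refine Nat.card_le_card_of_injective (Sum.elim
      (fun y => ⟨R.t R.x0 * R.t y, exists_conj R y.2⟩) (fun y => ⟨R.t R.c * R.t y, exists_conj R y.2⟩)) ?_
    have key : ∀ (y : {y : X // ¬ R.Com R.x0 y}) (z : {y : X // ¬ R.Com R.c y}),
        R.t R.x0 * R.t y = R.t R.c * R.t z → False := by
      intro y z h
      refine cross (sq R R.x0) (sq R R.c) R.comm_c (fun h => R.ne_c h.symm) (braid R y.2) (fun h => y.2 h) (sq R y)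
        (braid R z.2) (sq R z) ?_ h
      rcases R.com_or_braid R.c y with h | h
      · exact Or.inl h
      · exact Or.inr h
    rintro (y | y) (z | z) h
    · have h2 := congrArg Subtype.val h
      exact congrArg Sum.inl (Subtype.ext (R.t_injective (mul_left_cancel h2)))
    · exact (key y z (congrArg Subtype.val h)).elim
    · exact (key z y (congrArg Subtype.val h).symm).elim
    · have h2 := congrArg Subtype.val h
      exact congrArg Sum.inr (Subtype.ext (R.t_injective (mul_left_cancel h2)))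
  rw [Nat.card_sum] at h1
  have h2 := card_ncom_le R R.c
  omega

theorem card_cent_mul_le [Finite G] [Finite X] {m : ℕ} (hm : m ≤ Nat.card {y : X // ¬ R.Com R.x0 y}) :
    Nat.card (centralizer ({W R} : Set G)) * (2 * m) ≤ Nat.card G := by
  have h1 := two_mul_le R
  rw [← card_class (W R), mul_comm]
  exact Nat.mul_le_mul_right _ (by omega)

end Cfsg.Agent.H474.RankThree
end

-- part: H474/TP/RowFi22
section
/-!
# `TP` row: `Fi₂₂` (helper474)
-/

set_option autoImplicit false

namespace Cfsg.Agent.H474.TPRows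

open Subgroup Cfsg Cfsg.Agent.H393.Iso Cfsg.Agent.H691 Cfsg.Agent.H94
open Cfsg.Agent.Fischer Cfsg.Agent.Fischer.Abstract Cfsg.Agent.Fischer.Group22 Cfsg.Agent.Fischer.Rank22
open Cfsg.Agent.Fischer.Cert Cfsg.Agent.Fischer.Data22 Cfsg.Agent.Fischer.Check22
open Cfsg.Agent.H474.RankThree

theorem not_com_low {n : ℕ} (h : n < 3510) (h1 : 1 ≤ n) (h2 : n ≤ 2816) : ¬ R.Com R.x0 (pt n h) := by
  rw [R.not_com_x0_iff]
  obtain ⟨k, hk, hk'⟩ := orbit_low n h h1 h2
  refine ⟨k * g .a, ?_, ?_⟩
  · rw [R_x0, mul_smul, fix_of_mem_H1 (g_mem_H1 (s := .a) rfl), fix_of_mem_H1 hk]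
  · rw [R_b, mul_smul]
    have : g .a • pg .b = (pt 1 (by decide) : X) := by
      apply Fin.ext
      have h2 := pts_spec.2.2.2.2.2.2.2.2.2.2
      have h3 := nx_nx .a (x := 1) (by decide)
      rw [h2] at h3
      exact h3
    rw [this, hk']

theorem card_ncom : 2816 ≤ Nat.card {y : X // ¬ R.Com R.x0 y} := by
  have h1 := Nat.card_le_card_of_injective (α := Fin 2816) (β := {y : X // ¬ R.Com R.x0 y})
    (fun i => ⟨pt (i.1 + 1) (by omega), not_com_low (by omega) (by omega) (by omega)⟩) (by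
      intro a b hab
      have h2 := congrArg (fun z : {y : X // ¬ R.Com R.x0 y} => ((z : X) : ℕ)) hab
      simp only [pt_val] at h2
      exact Fin.ext (by omega))
  simpa only [_root_.ge_iff_le, _root_.Nat.card_eq_fintype_card, _root_.Fintype.card_fin] using h1

theorem fi22 {S : Type*} [Group S] (h : Spor.IsoFi22 S) : Cfsg.Agent.H691.TP S [(2, 11), (3, 5), (3, 11), (3, 13), (5, 7), (5, 11), (7, 11), (7, 13), (11, 13)] (65 ^ 2) := by
  have hc := NotCT.Orders.fi22 h
  have hfin : Finite S := Nat.finite_of_card_ne_zero (by rw [hc]; norm_num)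
  have na := na_fi22 h
  obtain ⟨e⟩ := h
  let f : S ≃* G := e.trans Cfsg.Agent.SporRec.Fi22Iso.ψe
  have hfin' : Finite G := Finite.of_equiv S f.toEquiv
  have hN : Nat.card G = 2 ^ 17 * 492567075 := by
    rw [← Nat.card_congr f.toEquiv, hc]; norm_num
  refine tp_of_equiv f.symm ?_
  have na' := na.of_equiv f
  have h1 := card_cent_mul_le R card_ncom
  obtain ⟨x, hx⟩ := exists_order (S := G) (r := 13) (by norm_num) (by rw [hN]; norm_num)
  have h2 := Nat.le_of_dvd (by norm_num) (card_cent_dvd hN na' hx)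
  refine ⟨3, 13, W R, x, by simp, ⟨1, ?_⟩, ⟨1, ?_⟩, ?_⟩
  · rw [pow_one]
    exact W_cube R
  · have := pow_orderOf_eq_one x
    rwa [hx] at this
  · rw [hN] at h1 ⊢
    generalize Nat.card (centralizer ({W R} : Set G)) = u at h1 ⊢
    generalize Nat.card (centralizer ({x} : Set G)) = v at h2 ⊢
    norm_num at h1 ⊢
    omega

end Cfsg.Agent.H474.TPRows
end

-- part: H474/TP/RowFi24
section
/-!
# `TP` row: `Fi₂₄'` (helper474)
-/

set_option autoImplicit false

namespace Cfsg.Agent.H474.TPRows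

open Subgroup Cfsg Cfsg.Agent.H393.Iso Cfsg.Agent.H691 Cfsg.Agent.H94
open Cfsg.Agent.Fischer Cfsg.Agent.Fischer.Abstract
open Cfsg.Agent.H474.RankThree

/-- the number of transpositions not commuting with the first one -/
theorem card_ncom_of {G X : Type*} [Group G] [MulAction G X] [Finite G] (R : Rank3 G X) {L : Set G}
    (hL : Set.range R.t = L) {n k : ℕ} (hn : L.ncard = n)
    (hk : {c | c ∈ L ∧ c ≠ R.t R.x0 ∧ Commute c (R.t R.x0)}.ncard = k) :
    n ≤ Nat.card {y : X // ¬ R.Com R.x0 y} + k + 1 := by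
  classical
  have h1 : L ⊆ (R.t '' {y | ¬ R.Com R.x0 y} ∪ {c | c ∈ L ∧ c ≠ R.t R.x0 ∧ Commute c (R.t R.x0)}) ∪
      {R.t R.x0} := by
    intro c hc
    by_cases h0 : c = R.t R.x0
    · right; exact h0
    · left
      by_cases h2 : Commute c (R.t R.x0)
      · right; exact ⟨hc, h0, h2⟩
      · left
        rw [← hL] at hc
        obtain ⟨y, rfl⟩ := hc
        exact ⟨y, fun h => h2 (show R.t y * R.t R.x0 = R.t R.x0 * R.t y from h.symm), rfl⟩
  have h2 := Set.ncard_le_ncard h1 (Set.toFinite _)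
  have h3 := Set.ncard_union_le (R.t '' {y | ¬ R.Com R.x0 y} ∪ {c | c ∈ L ∧ c ≠ R.t R.x0 ∧ Commute c (R.t R.x0)})
    {R.t R.x0}
  have h4 := Set.ncard_union_le (R.t '' {y | ¬ R.Com R.x0 y}) {c | c ∈ L ∧ c ≠ R.t R.x0 ∧ Commute c (R.t R.x0)}
  rw [Set.ncard_singleton] at h3
  rw [hk, Set.ncard_image_of_injective _ R.t_injective] at h4
  have h5 : {y | ¬ R.Com R.x0 y}.ncard = Nat.card {y : X // ¬ R.Com R.x0 y} := rfl
  rw [hn] at h2
  omega

/-- abstract form -/
theorem fi24_abs {G X : Type*} [Group G] [MulAction G X] [Finite G] [Finite X] (R : Rank3 G X) (D : Subgroup G)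
    (hD : D.index = 2) (hW : W R ∈ D) (hN : Nat.card D = 1255205709190661721292800) (na : NA 29 D)
    (hm : 275264 ≤ Nat.card {y : X // ¬ R.Com R.x0 y}) {L : List (ℕ × ℕ)} (hL : (3, 29) ∈ L) :
    Cfsg.Agent.H691.TP D L (290 ^ 2) := by
  have hN' : Nat.card D = 2 ^ 21 * 598528723330813275 := by rw [hN]; norm_num
  have h1 := card_cent_mul_le R hm
  have h2 : Nat.card G = 2 * 1255205709190661721292800 := by
    rw [← D.card_mul_index, hD, hN, mul_comm]
  obtain ⟨x, hx⟩ := exists_order (S := D) (r := 29) (by norm_num) (by rw [hN]; norm_num)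
  have h3 := Nat.le_of_dvd (by norm_num) (card_cent_dvd hN' na hx)
  have h4 : Nat.card (centralizer ({(⟨W R, hW⟩ : D)} : Set D)) ≤ Nat.card (centralizer ({W R} : Set G)) := by
    refine Nat.card_le_card_of_injective (fun y => ⟨((y : D) : G), mem_centralizer_singleton_iff.2
      (congrArg Subtype.val (mem_centralizer_singleton_iff.1 y.2))⟩) ?_
    intro a b hab
    have := congrArg Subtype.val hab
    exact Subtype.ext (Subtype.ext this)
  refine ⟨3, 29, ⟨W R, hW⟩, x, hL, ⟨1, Subtype.ext ?_⟩, ⟨1, ?_⟩, ?_⟩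
  · rw [pow_one]
    exact W_cube R
  · have := pow_orderOf_eq_one x
    rwa [hx] at this
  · rw [hN]
    rw [h2] at h1
    have h5 := h4
    generalize Nat.card (centralizer ({(⟨W R, hW⟩ : D)} : Set D)) = u at h5 ⊢
    generalize Nat.card (centralizer ({W R} : Set G)) = w at h1 h5
    generalize Nat.card (centralizer ({x} : Set D)) = v at h3 ⊢
    norm_num at h1 ⊢
    omega

theorem fi24 {S : Type*} [Group S] (h : Spor.IsoFi24' S) : Cfsg.Agent.H691.TP S [(2, 23), (3, 11), (3, 13), (3, 17), (3, 23), (3, 29), (5, 7), (5, 11), (5, 23), (7, 11), (7, 13), (7, 17), (7, 23), (7, 29), (11, 13), (11, 17), (11, 23), (11, 29), (13, 17), (13, 23), (13, 29), (17, 23), (17, 29), (23, 29)] (290 ^ 2) := by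
  have hfin' := Cfsg.Agent.R08.FiTwentyFour.finite_Fi24
  obtain ⟨R, hR, _, hRL⟩ := Cfsg.Agent.R08.FiTwentyFour.facts.exists_rank3
  obtain ⟨e⟩ := h
  refine tp_of_equiv e.symm ?_
  have hmem : ∀ x, R.t x ∈ Cfsg.Agent.R08.FiTwentyFour.L := fun x => by rw [← hRL]; exact ⟨x, rfl⟩
  refine fi24_abs R _ Cfsg.Agent.R08.FiTwentyFour.index_commutator
    (Cfsg.Agent.R08.FiTwentyFour.even (hmem _) (hmem _)) Cfsg.Agent.R08.FiTwentyFour.card_commutator na_fi24_model ?_
    (by simp)
  have h1 := card_ncom_of R hRL Cfsg.Agent.R08.FiTwentyFour.ncard_L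
    (Cfsg.Agent.R08.FiTwentyFour.ncard_commuting (hmem _))
  omega

end Cfsg.Agent.H474.TPRows
end

-- part: H474/TP/All
section
/-!
# All the `TP` rows (helper474): `Cfsg.Agent.H474.TPRows.{j2, j3, j4, hs, mcl, co1, co2, co3, suz, tits, he, ru, on, ly,
fi22, fi23, fi24, hn, th, b, m}`
-/
end

-- part: H691/TPsAll
section
/-!
# The data on the sporadic groups (helper691; data by helper491 and helper474)
-/

set_option autoImplicit false

namespace Cfsg.Agent.H691.TPsAll

open Cfsg Cfsg.Agent.H691.Spor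

universe u

theorem tps : TPs.{u} where
  tits := fun _ _ h => H474.TPRows.tits h
  m11 := fun _ _ h => H491.TPM.m11 h
  m12 := fun _ _ h => H491.TPM.m12 h
  m22 := fun _ _ h => H491.TPM.m22 h
  m23 := fun _ _ h => H491.TPM.m23 h
  m24 := fun _ _ h => H491.TPM.m24 h
  j1 := fun _ _ h => H491.TPM.j1 h
  j2 := fun _ _ h => H474.TPRows.j2 h
  j3 := fun _ _ h => H474.TPRows.j3 h
  j4 := fun _ _ h => H474.TPRows.j4 h
  co1 := fun _ _ h => H474.TPRows.co1 h
  co2 := fun _ _ h => H474.TPRows.co2 h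
  co3 := fun _ _ h => H474.TPRows.co3 h
  mcl := fun _ _ h => H474.TPRows.mcl h
  hs := fun _ _ h => H474.TPRows.hs h
  suz := fun _ _ h => H474.TPRows.suz h
  he := fun _ _ h => H474.TPRows.he h
  ru := fun _ _ h => H474.TPRows.ru h
  on := fun _ _ h => H474.TPRows.on h
  ly := fun _ _ h => H474.TPRows.ly h
  fi22 := fun _ _ h => H474.TPRows.fi22 h
  fi23 := fun _ _ h => H474.TPRows.fi23 h
  fi24 := fun _ _ h => H474.TPRows.fi24 h
  hn := fun _ _ h => H474.TPRows.hn h
  th := fun _ _ h => H474.TPRows.th h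
  b := fun _ _ h => H474.TPRows.b h
  m := fun _ _ h => H474.TPRows.m h

end Cfsg.Agent.H691.TPsAll
end

private theorem dce_f1fa13bf3533 : _root_.True := by
  try have : _root_.True := by simp only [_root_.Cfsg.Agent.Fischer.Rank22.pt.congr_simp]
  exact _root_.True.intro
end

-- part: H691/ExtChar
section
prune_inst 0x102021200d0000000000001220001c62b2000000004b0001516407020686dc680002a621f8200c101002880400380040000000100000000000000000011801a0802252068348a10c600001803007180c00000000000000000000000000041000004010000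
set_option linter.all false
open scoped Cfsg.Agent.FastGrp

-- part: H691/KOne
section
/-!
# The simple factor is unique (helper691)

`top_of_ext` : if the degrees of `G` are in `DS q` and the irreducible character `α` of the normal subgroup `N`, with
nonabelian simple `N / ker α`, lies under a character of the normaliser of `ker α` of degree `≤ c α(1)`, `α(1) > 4 c`,
then `ker α` is normal in `G`.
-/

set_option autoImplicit false

open scoped ComplexConjugate

namespace Cfsg.Agent.H691.KOne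

open Cfsg Cfsg.Agent.Characters Cfsg.Agent.Characters.Core Cfsg.Agent.H681.DegBasic Cfsg.Agent.H686.CharKit

universe u

theorem numeric {k b c q : ℕ} (hk : 2 ≤ k) (hb : 4 * c + 1 ≤ b) (h5 : 5 ≤ q) (h1 : k * b ^ 2 ≤ 2 * (q + 1))
    (h2 : q ≤ 2 * (k * (c * b)) + 1) : False := by
  have hc : c ≠ 0 := by
    rintro rfl
    simp at h2
    omega
  have hb5 : 5 ≤ b := by omega
  have h3 : k * b ^ 2 ≤ 4 * (k * (c * b)) + 4 := by omega
  have h4 : k * b * (4 * c + 1) ≤ k * b * b := Nat.mul_le_mul_left _ hb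
  have h5 : k * b * (4 * c + 1) = 4 * (k * (c * b)) + k * b := by ring
  have h6 : k * b * b = k * b ^ 2 := by ring
  have h7 : 2 * 5 ≤ k * b := Nat.mul_le_mul hk hb5
  omega

variable {G : Type u} [Group G] [Finite G] (N : Subgroup G) [hN : N.Normal]

/-- The conjugate of an irreducible character of a normal subgroup. -/
def cj (g : G) (α : IrrCharacter N) : IrrCharacter N :=
  ⟨(α : N → ℂ) ∘ (MulAut.conjNormal g : MulAut N), Clifford.isIrr_conjNormal α.2 g⟩

omit [Finite G] in
theorem cj_apply (g : G) (α : IrrCharacter N) (n : N) :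
    (cj N g α : N → ℂ) n = (α : N → ℂ) ((MulAut.conjNormal g : MulAut N) n) := rfl

theorem mem_ker_cj {g : G} {α : IrrCharacter N} {n : N} :
    n ∈ chKer (cj N g α) ↔ (MulAut.conjNormal g : MulAut N) n ∈ chKer α := by
  rw [mem_chKer, mem_chKer, cj_apply, cj_apply, map_one]

theorem ker_cj (g : G) (α : IrrCharacter N) :
    chKer (cj N g α) = (chKer α).comap (MulAut.conjNormal g : MulAut N).toMonoidHom := by
  ext n
  rw [mem_ker_cj, Subgroup.mem_comap]
  rfl

/-- The normaliser of the kernel of a character. -/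
def TT (α : IrrCharacter N) : Subgroup G where
  carrier := {g | ∀ n : N, (MulAut.conjNormal g : MulAut N) n ∈ chKer α ↔ n ∈ chKer α}
  one_mem' := by
    intro n
    rw [map_one]
    rfl
  mul_mem' := by
    intro a b ha hb n
    rw [map_mul, MulAut.mul_apply, ha, hb]
  inv_mem' := by
    intro a ha n
    rw [← ha, ← MulAut.mul_apply, ← map_mul, mul_inv_cancel, map_one]
    rfl

theorem mem_TT {α : IrrCharacter N} {g : G} : g ∈ TT N α ↔ chKer (cj N g α) = chKer α := by
  constructor
  · intro h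
    ext n
    rw [mem_ker_cj, h n]
  · intro h n
    rw [← mem_ker_cj, h]

theorem le_TT (α : IrrCharacter N) : N ≤ TT N α := by
  intro g hg n
  have hn := chKer_normal α
  have h1 : (MulAut.conjNormal g : MulAut N) n = (⟨g, hg⟩ : N) * n * (⟨g, hg⟩ : N)⁻¹ := by
    apply Subtype.ext
    rw [MulAut.conjNormal_apply]
    rfl
  rw [h1]
  constructor
  · intro h
    have := hn.conj_mem _ h (⟨g, hg⟩ : N)⁻¹
    simpa [mul_assoc] using this
  · exact fun h => hn.conj_mem _ h _

omit [Finite G] in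
theorem norm_eq_of_mul {a b A B : ℝ} (ha : 0 ≤ a) (haA : a ≤ A) (hbB : b ≤ B) (hB : 0 < B)
    (h : a * b = A * B) : a = A := by
  by_contra hne
  have h1 : a < A := lt_of_le_of_ne haA hne
  have h2 : a * b ≤ a * B := mul_le_mul_of_nonneg_left hbB ha
  have h3 : a * B < A * B := mul_lt_mul_of_pos_right h1 hB
  linarith

/-- **The simple factor is unique.** -/
theorem top_of_ext {q : ℕ} (h5 : 5 ≤ q) (hD : charDegrees G ⊆ DS q) (α : IrrCharacter N)
    (hs : IsSimpleGroup (N ⧸ chKer α)) (hna : ¬ IsMulCommutative (N ⧸ chKer α))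
    {χT : TT N α → ℂ} (hχT : IsIrrCharacter (TT N α) χT)
    (hov : H672.Over (Subgroup.inclusion (le_TT N α)) χT α) {c : ℕ}
    (hc : charDegree χT ≤ c * charDegree (α : N → ℂ)) (hb : 4 * c + 1 ≤ charDegree (α : N → ℂ)) : TT N α = ⊤ := by
  classical
  have := Fintype.ofFinite G
  have := Fintype.ofFinite N
  by_contra hne
  obtain ⟨g, hg⟩ : ∃ g, g ∉ TT N α := by
    by_contra hcon
    push Not at hcon
    exact hne (eq_top_iff.2 fun x _ => hcon x)
  set b := charDegree (α : N → ℂ) with hbdef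
  have hα1 : (α : N → ℂ) 1 = b := (charDegree_irr α).symm
  have hb0 : 0 < b := charDegree_pos α
  -- a character of `G` over `χT`
  obtain ⟨χ, hχ, hoχ⟩ := H672.exists_over_subtype (TT N α) hχT
  have hle : charDegree χ ≤ (TT N α).index * charDegree χT := by
    have := Fintype.ofFinite (TT N α)
    exact H621.SymDeg.degree_le_index_mul (TT N α) hχ hχT ((H672.over_subtype_iff _ χ χT).1 hoχ)
      (H672.coe_charDegree hχ).symm (H672.coe_charDegree hχT).symm
  have hαχ : H672.Over N.subtype χ (α : N → ℂ) := by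
    have h1 : H672.Over ((TT N α).subtype.comp (Subgroup.inclusion (le_TT N α))) χ (α : N → ℂ) :=
      (H672.over_comp_iff _ _ (isIrr_isCharacter hχ) α.2).2 ⟨χT, hχT, hoχ, hov⟩
    exact h1
  have hbχ : b ≤ charDegree χ := H672.charDegree_le_of_over hχ α.2 hαχ
  have h2 : q ≤ 2 * ((TT N α).index * (c * b)) + 1 := by
    have h3 : charDegree χ ≤ (TT N α).index * (c * b) := hle.trans (Nat.mul_le_mul_left _ hc)
    have h4 : b ≤ c * b := hbdef ▸ ((H672.charDegree_le_of_over hχT α.2 hov).trans hc)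
    have hcpos : c ≠ 0 := by
      rintro rfl
      omega
    rcases hD (⟨⟨χ, hχ⟩, rfl⟩ : charDegree χ ∈ charDegrees G) with h | h | h | h | h | h <;> omega
  -- the other kernel
  set R := chKer α with hRdef
  set α₂ := cj N g α with hα₂
  have hR : MN R := MN.of_simple R hs hna
  have hR₂ : MN (chKer α₂) := by
    rw [hα₂, ker_cj]
    exact hR.comap _
  have hRne : R ≠ chKer α₂ := fun h => hg ((mem_TT N).2 h.symm)
  have hsup := hR.sup_eq_top hR₂ hRne
  have hα₂R : IsIrrCharacter R ((α₂ : N → ℂ) ∘ R.subtype) :=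
    isIrr_restrict_of_ker R (chKer α₂) hsup α₂.2 (fun z hz => hz)
  have hβ : IsIrrCharacter N ((α : N → ℂ) * (α₂ : N → ℂ)) := irr_mul R α₂.2 hα₂R α.2 (fun l hl => hl)
  set β : N → ℂ := (α : N → ℂ) * (α₂ : N → ℂ) with hβdef
  have hα₂1 : (α₂ : N → ℂ) 1 = b := by rw [hα₂, cj_apply, map_one, hα1]
  have hβ1 : charDegree β = b ^ 2 := by
    apply H672.charDegree_of_eq
    rw [hβdef, Pi.mul_apply, hα1, hα₂1]
    push_cast
    ring
  set J := H672.inertia N β with hJdef
  have hJ : ∀ x ∈ J, x ∈ TT N α ∨ chKer (cj N x α) = chKer α₂ := by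
    intro x hx
    have h3 : MN (chKer (cj N x α)) := by
      rw [ker_cj]
      exact hR.comap _
    have h4 : R ⊓ chKer α₂ ≤ chKer (cj N x α) := by
      rintro n ⟨hn1, hn2⟩
      rw [mem_ker_cj]
      set m := (MulAut.conjNormal x : MulAut N) n with hm
      have h6 : β m = β n := congrFun ((H672.mem_inertia (N := N) (θ := β)).1 hx) n
      have h7 : β n = (b : ℂ) * b := by
        rw [hβdef, Pi.mul_apply]
        have e1 : (α : N → ℂ) n = (α : N → ℂ) 1 := hn1
        have e2 : (α₂ : N → ℂ) n = (α₂ : N → ℂ) 1 := hn2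
        rw [e1, e2, hα1, hα₂1]
      rw [h7, hβdef, Pi.mul_apply] at h6
      have h8 : ‖(α : N → ℂ) m‖ * ‖(α₂ : N → ℂ) m‖ = (b : ℝ) * b := by
        rw [← norm_mul, h6, norm_mul, Complex.norm_natCast]
      apply mem_of_norm hs hna
      rw [hα1, Complex.norm_natCast]
      have hbr : (0 : ℝ) < b := by exact_mod_cast hb0
      exact norm_eq_of_mul (norm_nonneg _) (SchurBound.norm_le (isIrr_isCharacter α.2) hα1 m)
        (SchurBound.norm_le (isIrr_isCharacter α₂.2) hα₂1 m) hbr h8
    rcases h3.key hR hR₂ h4 with h6 | h6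
    · exact Or.inl ((mem_TT N).2 h6)
    · exact Or.inr h6
  -- the index of `J`
  have hrel : (TT N α).relIndex J ≤ 2 := by
    by_cases hJT : J ≤ TT N α
    · rw [Subgroup.relIndex_eq_one.2 hJT]
      norm_num
    · obtain ⟨a, haJ, haT⟩ := Set.not_subset.1 hJT
      have h3 : ((TT N α).subgroupOf J).index = 2 := by
        rw [Subgroup.index_eq_two_iff]
        refine ⟨⟨a, haJ⟩, fun y => ?_⟩
        rw [Subgroup.mem_subgroupOf, Subgroup.mem_subgroupOf]
        by_cases hy : (y : G) ∈ TT N α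
        · refine Or.inr ⟨hy, fun h4 => haT ?_⟩
          have h5 := (TT N α).mul_mem ((TT N α).inv_mem hy) h4
          simpa using h5
        · refine Or.inl ⟨?_, hy⟩
          have hai : (a⁻¹ : G) ∉ TT N α := fun h => haT (by simpa using (TT N α).inv_mem h)
          have h4 := (hJ _ y.2).resolve_left hy
          have h6 := (hJ _ (J.inv_mem haJ)).resolve_left hai
          -- `y a` normalises the kernel
          intro n
          have h7 : ∀ m : N, (MulAut.conjNormal (y : G) : MulAut N) m ∈ chKer α ↔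
              (MulAut.conjNormal a⁻¹ : MulAut N) m ∈ chKer α := by
            intro m
            rw [← mem_ker_cj, ← mem_ker_cj, h4, h6]
          have h8 := h7 ((MulAut.conjNormal a : MulAut N) n)
          rw [← MulAut.mul_apply, ← map_mul, ← MulAut.mul_apply, ← map_mul, inv_mul_cancel, map_one] at h8
          exact h8
      exact le_of_eq h3
  have hTJ : (TT N α).index ≤ 2 * J.index := by
    have h3 : (TT N α).index ≤ (TT N α ⊓ J).index :=
      Nat.le_of_dvd (Nat.pos_of_ne_zero Subgroup.index_ne_zero_of_finite) (Subgroup.index_dvd_of_le inf_le_left)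
    have h4 : (TT N α ⊓ J).relIndex J * J.index = (TT N α ⊓ J).index := Subgroup.relIndex_mul_index inf_le_right
    rw [Subgroup.inf_relIndex_right] at h4
    have h5 := Nat.mul_le_mul_right J.index hrel
    omega
  obtain ⟨χ', hχ', ho'⟩ := H672.exists_over_subtype N hβ
  have h3 := H672.index_mul_charDegree_dvd N hχ' hβ ho'
  rw [hβ1, ← hJdef] at h3
  have h4 := Nat.le_of_dvd (H672.charDegree_pos hχ') h3
  have h5' : charDegree χ' ≤ q + 1 := by
    rcases hD (⟨⟨χ', hχ'⟩, rfl⟩ : charDegree χ' ∈ charDegrees G) with h | h | h | h | h | h <;> omega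
  have h6 : (TT N α).index * b ^ 2 ≤ 2 * (q + 1) := by
    have h7 : (TT N α).index * b ^ 2 ≤ 2 * J.index * b ^ 2 := Nat.mul_le_mul_right _ hTJ
    have h8 : 2 * J.index * b ^ 2 = 2 * (J.index * b ^ 2) := by ring
    omega
  have h7 : 2 ≤ (TT N α).index := by
    have h8 : (TT N α).index ≠ 0 := Subgroup.index_ne_zero_of_finite
    have h9 : (TT N α).index ≠ 1 := fun h => hne (Subgroup.index_eq_one.1 h)
    omega
  exact numeric h7 hb h5 h6 h2

end Cfsg.Agent.H691.KOne
end

-- part: H691/AExt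
section
/-!
# The almost simple quotient of a chief-like factor (helper691)

For normal subgroups `R ≤ N` of `Y` with `N / R` nonabelian simple and `Y' ≤ N`, the quotient `A = Y / C_Y(N / R)` is
almost simple with socle `N / R`.
-/

set_option autoImplicit false

namespace Cfsg.Agent.H691.AExt

open Cfsg

universe u

variable {Y : Type u} [Group Y]

/-- the elements centralising `N` modulo `R` -/
def KK (N R : Subgroup Y) [hN : N.Normal] [R.Normal] : Subgroup Y where
  carrier := {y | ∀ n ∈ N, y * n * y⁻¹ * n⁻¹ ∈ R}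
  mul_mem' := by
    intro a b ha hb n hn
    have h1 := ha (b * n * b⁻¹) (hN.conj_mem n hn b)
    have h2 := R.mul_mem h1 (hb n hn)
    have h3 : a * (b * n * b⁻¹) * a⁻¹ * (b * n * b⁻¹)⁻¹ * (b * n * b⁻¹ * n⁻¹) = a * b * n * (a * b)⁻¹ * n⁻¹ := by
      group
    rwa [h3] at h2
  one_mem' := by
    intro n _
    simp
  inv_mem' := by
    intro a ha n hn
    have h1 := ha (a⁻¹ * n * a) (by simpa using hN.conj_mem n hn a⁻¹)
    have h2 := R.inv_mem h1
    have h3 : (a * (a⁻¹ * n * a) * a⁻¹ * (a⁻¹ * n * a)⁻¹)⁻¹ = a⁻¹ * n * a⁻¹⁻¹ * n⁻¹ := by group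
    rwa [h3] at h2

variable (N R : Subgroup Y) [hN : N.Normal] [hR : R.Normal]

instance normal_KK : (KK N R).Normal := by
  refine ⟨fun y hy g n hn => ?_⟩
  have h1 := hy (g⁻¹ * n * g) (by simpa using hN.conj_mem n hn g⁻¹)
  have h2 := hR.conj_mem _ h1 g
  have h3 : g * (y * (g⁻¹ * n * g) * y⁻¹ * (g⁻¹ * n * g)⁻¹) * g⁻¹ = g * y * g⁻¹ * n * (g * y * g⁻¹)⁻¹ * n⁻¹ := by
    group
  rwa [h3] at h2

theorem le_KK : R ≤ KK N R := by
  intro y hy n _
  have h1 : y * n * y⁻¹ * n⁻¹ = y * (n * y⁻¹ * n⁻¹) := by group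
  rw [h1]
  exact R.mul_mem hy (hR.conj_mem _ (R.inv_mem hy) n)

variable {N R}

theorem inf_KK (hs : IsSimpleGroup (N ⧸ R.subgroupOf N)) (hna : ¬ IsMulCommutative (N ⧸ R.subgroupOf N)) {y : Y}
    (hyN : y ∈ N) (hy : y ∈ KK N R) : y ∈ R := by
  have h1 : (QuotientGroup.mk (⟨y, hyN⟩ : N) : N ⧸ R.subgroupOf N) ∈ Subgroup.center (N ⧸ R.subgroupOf N) := by
    rw [Subgroup.mem_center_iff]
    intro g
    induction g using QuotientGroup.induction_on with
    | _ n =>
    rw [← QuotientGroup.mk_mul, ← QuotientGroup.mk_mul, QuotientGroup.eq]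
    change (((n * ⟨y, hyN⟩)⁻¹ * (⟨y, hyN⟩ * n) : N) : Y) ∈ R
    have h5 : ((n : Y) * y)⁻¹ * (y * n) = y⁻¹ * ((n : Y)⁻¹ * (y * n * y⁻¹ * (n : Y)⁻¹) * n) * y := by group
    have h6 : (((n * ⟨y, hyN⟩)⁻¹ * (⟨y, hyN⟩ * n) : N) : Y) = y⁻¹ * ((n : Y)⁻¹ * (y * n * y⁻¹ * (n : Y)⁻¹) * n) * y := by
      rw [← h5]
      rfl
    rw [h6]
    have h7 := hR.conj_mem _ (hR.conj_mem _ (hy n n.2) (n : Y)⁻¹) y⁻¹
    simpa using h7
  have h2 : Subgroup.center (N ⧸ R.subgroupOf N) = ⊥ := by
    rcases IsSimpleGroup.eq_bot_or_eq_top_of_normal (Subgroup.center (N ⧸ R.subgroupOf N)) inferInstance with h | h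
    · exact h
    · exact absurd ⟨⟨fun a b => (Subgroup.mem_center_iff.1 (h ▸ Subgroup.mem_top b) a)⟩⟩ hna
  rw [h2, Subgroup.mem_bot, QuotientGroup.eq_one_iff] at h1
  exact h1

/-- **The almost simple quotient.** -/
theorem exists_AS [Finite Y] (hRN : R ≤ N) (hs : IsSimpleGroup (N ⧸ R.subgroupOf N))
    (hna : ¬ IsMulCommutative (N ⧸ R.subgroupOf N)) (hcomm : commutator Y ≤ N) :
    AS (Y ⧸ KK N R) (N.map (QuotientGroup.mk' (KK N R))) ∧
      ∃ e : (N ⧸ R.subgroupOf N) ≃* (N.map (QuotientGroup.mk' (KK N R))),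
        ∀ n : N, ((e (QuotientGroup.mk n) : N.map (QuotientGroup.mk' (KK N R))) : Y ⧸ KK N R) =
          QuotientGroup.mk' (KK N R) n := by
  have _ := hRN
  set π := QuotientGroup.mk' (KK N R) with hπ
  have hsurj : Function.Surjective π := QuotientGroup.mk'_surjective _
  let f : N →* N.map π := π.subgroupMap N
  have hf : Function.Surjective f := π.subgroupMap_surjective N
  have hker : R.subgroupOf N = f.ker := by
    ext n
    rw [Subgroup.mem_subgroupOf, MonoidHom.mem_ker]
    have h1 : f n = 1 ↔ π (n : Y) = 1 := by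
      rw [Subtype.ext_iff]
      rfl
    rw [h1, hπ, QuotientGroup.mk'_apply, QuotientGroup.eq_one_iff]
    exact ⟨fun h => le_KK N R h, fun h => inf_KK hs hna n.2 h⟩
  let e : (N ⧸ R.subgroupOf N) ≃* (N.map π) :=
    (QuotientGroup.quotientMulEquivOfEq hker).trans (QuotientGroup.quotientKerEquivOfSurjective f hf)
  refine ⟨⟨hN.map π hsurj, ?_, ?_, ?_, ?_⟩, e, fun n => rfl⟩
  · exact e.symm.isSimpleGroup
  · intro hc
    exact hna ⟨⟨fun a b => e.injective (by rw [map_mul, map_mul]; exact hc.is_comm.comm _ _)⟩⟩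
  · rw [eq_bot_iff]
    intro x hx
    obtain ⟨y, rfl⟩ := hsurj x
    rw [Subgroup.mem_centralizer_iff] at hx
    rw [Subgroup.mem_bot, hπ, QuotientGroup.mk'_apply, QuotientGroup.eq_one_iff]
    intro n hn
    have h1 := hx (π n) (Subgroup.mem_map_of_mem π hn)
    have h2 : π (y * n * y⁻¹ * n⁻¹) = 1 := by
      rw [map_mul, map_mul, map_mul, map_inv, map_inv, ← h1]
      group
    rw [hπ, QuotientGroup.mk'_apply, QuotientGroup.eq_one_iff] at h2
    exact inf_KK hs hna (N.mul_mem (hN.conj_mem n hn y) (N.inv_mem hn)) h2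
  · rw [commutator_def, ← Subgroup.map_top_of_surjective π hsurj, ← Subgroup.map_commutator]
    exact Subgroup.map_mono hcomm

end Cfsg.Agent.H691.AExt
end

-- part: H691/ExtChar
section
/-!
# The simple factor is normalised (helper691)

`top_of_hasExt` : if the degrees of `G` are in `DS q`, `R₀ ⊲ N` with `N / R₀` nonabelian simple, and every almost simple
group with socle `N / R₀` (and abelian top) has an almost extending character, then `R₀` is normalised by `G`.
-/

set_option autoImplicit false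

open scoped commutatorElement

namespace Cfsg.Agent.H691.ExtChar

open Cfsg Cfsg.Agent.Characters Cfsg.Agent.Characters.Core Cfsg.Agent.H681.DegBasic Cfsg.Agent.H686.CharKit
open Cfsg.Agent.H691.Lie Cfsg.Agent.H691.KOne

universe u

variable {G : Type u} [Group G] (N : Subgroup G) [hN : N.Normal]

/-- The normaliser in `G` of a subgroup of `N`. -/
def TR (R : Subgroup N) : Subgroup G where
  carrier := {g | ∀ n : N, (MulAut.conjNormal g : MulAut N) n ∈ R ↔ n ∈ R}
  one_mem' := by
    intro n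
    rw [map_one]
    rfl
  mul_mem' := by
    intro a b ha hb n
    rw [map_mul, MulAut.mul_apply, ha, hb]
  inv_mem' := by
    intro a ha n
    rw [← ha, ← MulAut.mul_apply, ← map_mul, mul_inv_cancel, map_one]
    rfl

theorem le_TR (R : Subgroup N) [hn : R.Normal] : N ≤ TR N R := by
  intro g hg n
  have h1 : (MulAut.conjNormal g : MulAut N) n = (⟨g, hg⟩ : N) * n * (⟨g, hg⟩ : N)⁻¹ := by
    apply Subtype.ext
    rw [MulAut.conjNormal_apply]
    rfl
  rw [h1]
  constructor
  · intro h
    have := hn.conj_mem _ h (⟨g, hg⟩ : N)⁻¹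
    simpa [mul_assoc] using this
  · exact fun h => hn.conj_mem _ h _

theorem exists_char [Finite G] (hcomm : commutator G ≤ N) (R : Subgroup N) [hR : R.Normal]
    (hs : IsSimpleGroup (N ⧸ R)) (hna : ¬ IsMulCommutative (N ⧸ R))
    (hE : ∀ (A : Type u) [Group A] [Finite A] (S : Subgroup A), AS A S → HasExt A S) :
    ∃ (α : IrrCharacter N) (χ : TR N R → ℂ) (c : ℕ), chKer α = R ∧ IsIrrCharacter (TR N R) χ ∧
      H672.Over (Subgroup.inclusion (le_TR N R)) χ (α : N → ℂ) ∧
      charDegree χ ≤ c * charDegree (α : N → ℂ) ∧ 4 * c + 1 ≤ charDegree (α : N → ℂ) := by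
  classical
  set Y := TR N R with hY
  set N' : Subgroup Y := N.subgroupOf Y with hN'
  set R' : Subgroup Y := (R.map N.subtype).subgroupOf Y with hR'
  have i1 : N'.Normal := inferInstance
  have hmem : ∀ (n : N), (n : G) ∈ R.map N.subtype ↔ n ∈ R := by
    intro n
    constructor
    · rintro ⟨m, hm, h⟩
      have : m = n := Subtype.ext h
      rwa [← this]
    · exact fun h => ⟨n, h, rfl⟩
  have i2 : R'.Normal := by
    refine ⟨fun r hr y => ?_⟩
    rw [hR', Subgroup.mem_subgroupOf] at hr ⊢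
    obtain ⟨n, hn, hnr⟩ := hr
    have h1 := (y.2 n).2 hn
    refine ⟨_, h1, ?_⟩
    rw [Subgroup.coe_subtype, MulAut.conjNormal_apply]
    have hnr' : (n : G) = (r : G) := hnr
    rw [hnr']
    rfl
  have hRN : R' ≤ N' := by
    intro y hy
    rw [hR', Subgroup.mem_subgroupOf] at hy
    rw [hN', Subgroup.mem_subgroupOf]
    obtain ⟨n, -, h⟩ := hy
    rw [← h]
    exact n.2
  let eN : N' ≃* N := Subgroup.subgroupOfEquivOfLe (le_TR N R)
  have heN : ∀ x : N', ((eN x : N) : G) = ((x : Y) : G) := fun x => rfl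
  have hmap : (R'.subgroupOf N').map eN.toMonoidHom = R := by
    ext n
    constructor
    · rintro ⟨x, hx, rfl⟩
      have h1 : ((x : Y) : G) ∈ R.map N.subtype := hx
      rw [← heN] at h1
      exact (hmem _).1 h1
    · intro hn
      refine ⟨eN.symm n, ?_, by simp⟩
      change (((eN.symm n : N') : Y) : G) ∈ R.map N.subtype
      rw [← heN, eN.apply_symm_apply]
      exact (hmem _).2 hn
  let eQ : (N' ⧸ R'.subgroupOf N') ≃* (N ⧸ R) := QuotientGroup.congr _ _ eN hmap
  have hs' : IsSimpleGroup (N' ⧸ R'.subgroupOf N') := eQ.isSimpleGroup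
  have hna' : ¬ IsMulCommutative (N' ⧸ R'.subgroupOf N') := fun hc =>
    hna ⟨⟨fun a b => eQ.symm.injective (by rw [map_mul, map_mul]; exact hc.is_comm.comm _ _)⟩⟩
  have hcomm' : commutator Y ≤ N' := by
    rw [commutator_def, Subgroup.commutator_le]
    intro a _ b _
    rw [hN', Subgroup.mem_subgroupOf]
    apply hcomm
    exact Subgroup.commutator_mem_commutator (Subgroup.mem_top (a : G)) (Subgroup.mem_top (b : G))
  let K := AExt.KK N' R'
  let π : Y →* Y ⧸ K := QuotientGroup.mk' K
  let S : Subgroup (Y ⧸ K) := N'.map π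
  obtain ⟨hAS, e, he⟩ : AS (Y ⧸ K) S ∧ ∃ e : (N' ⧸ R'.subgroupOf N') ≃* S,
      ∀ n : N', ((e (QuotientGroup.mk n) : S) : Y ⧸ K) = π n := AExt.exists_AS hRN hs' hna' hcomm'
  obtain ⟨χ, θ, c, hχ, hθ, ho, hc, hb⟩ := hE _ S hAS
  -- the projection of `N` onto `S`
  let g : N →* S := (e.toMonoidHom.comp (QuotientGroup.mk' (R'.subgroupOf N'))).comp eN.symm.toMonoidHom
  have hg : Function.Surjective g :=
    (e.surjective.comp (QuotientGroup.mk'_surjective _)).comp eN.symm.surjective
  have hgval : ∀ n : N, ((g n : S) : Y ⧸ K) = π (Subgroup.inclusion (le_TR N R) n) := by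
    intro n
    have h1 := he (eN.symm n)
    exact h1
  have hgker : ∀ n : N, g n = 1 ↔ n ∈ R := by
    intro n
    have h1 : g n = e (QuotientGroup.mk (eN.symm n)) := rfl
    rw [h1, EmbeddingLike.map_eq_one_iff, QuotientGroup.eq_one_iff, Subgroup.mem_subgroupOf]
    exact hmem n
  have hirr : IsIrrCharacter N (θ ∘ g) := isIrr_comp g hg hθ
  have hnaS : ¬ ∀ a b : S, a * b = b * a := fun h => hAS.nonab ⟨⟨h⟩⟩
  have hsS := hAS.simple
  have hdeg : charDegree (θ ∘ g) = charDegree θ := by
    apply H672.charDegree_of_eq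
    rw [Function.comp, map_one, H672.coe_charDegree hθ]
  have hθ1 : θ 1 ≠ 1 := by
    intro h
    have h1 : charDegree θ = 1 := H672.charDegree_of_eq (by rw [h]; simp)
    have hcpos : c ≠ 0 := by
      rintro rfl
      have := H672.charDegree_pos hχ
      omega
    omega
  refine ⟨⟨θ ∘ g, hirr⟩, χ ∘ π, c, ?_, isIrr_comp π (QuotientGroup.mk'_surjective _) hχ, ?_, ?_, ?_⟩
  · ext n
    rw [mem_chKer, ← hgker n]
    constructor
    · intro h
      have h1 : θ (g n) = θ (g 1) := h
      rw [map_one] at h1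
      exact H681.SimpleChar.eq_one_of_norm_eq hnaS hθ hθ1 (by rw [h1])
    · intro h
      change θ (g n) = θ (g 1)
      rw [h, map_one]
  · have h1 : H672.Over (S.subtype.comp g) χ (θ ∘ g) := by
      refine (H672.over_comp_iff _ _ (isIrr_isCharacter hχ) hirr).2 ⟨θ, hθ, ho, ?_⟩
      have := Fintype.ofFinite N
      rw [H672.over_iff, classInner_irr_self hirr]
      exact one_ne_zero
    have := Fintype.ofFinite N
    rw [H672.over_iff] at h1 ⊢
    have h2 : (χ ∘ π) ∘ (Subgroup.inclusion (le_TR N R)) = χ ∘ (S.subtype.comp g) := by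
      funext n
      change χ (π (Subgroup.inclusion (le_TR N R) n)) = χ ((g n : S) : Y ⧸ K)
      rw [hgval]
    rw [h2]
    exact h1
  · have h1 : charDegree (χ ∘ π) = charDegree χ := by
      apply H672.charDegree_of_eq
      rw [Function.comp, map_one, H672.coe_charDegree hχ]
    change charDegree (χ ∘ π) ≤ c * charDegree (θ ∘ g)
    rw [h1, hdeg]
    exact hc
  · change 4 * c + 1 ≤ charDegree (θ ∘ g)
    rw [hdeg]
    exact hb

/-- **The simple factor is normalised.** -/
theorem top_of_hasExt [Finite G] (hcomm : commutator G ≤ N) (R : Subgroup N) [hR : R.Normal]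
    (hs : IsSimpleGroup (N ⧸ R)) (hna : ¬ IsMulCommutative (N ⧸ R))
    (hE : ∀ (A : Type u) [Group A] [Finite A] (S : Subgroup A), AS A S → HasExt A S)
    {q : ℕ} (h5 : 5 ≤ q) (hD : charDegrees G ⊆ DS q) : (R.map N.subtype).Normal := by
  obtain ⟨α, χ, c, hαR, hχ, ho, hc, hb⟩ := exists_char N hcomm R hs hna hE
  subst hαR
  have h1 : TT N α = ⊤ := top_of_ext N h5 hD α hs hna (χT := χ) hχ ho hc hb
  refine ⟨fun x hx g => ?_⟩
  obtain ⟨n, hn, rfl⟩ := hx
  have hg : g ∈ TT N α := by rw [h1]; exact Subgroup.mem_top g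
  refine ⟨_, (hg n).2 hn, ?_⟩
  rw [Subgroup.coe_subtype, MulAut.conjNormal_apply]

end Cfsg.Agent.H691.ExtChar
end

private theorem dce_7f772c22a32c : _root_.True := by
  try have : _root_.True := by simp only [_root_.Cfsg.Agent.H686.CharKit.chKer.congr_simp]
  try have : _root_.True := by simp only [_root_.Cfsg.Agent.H691.KOne.TT.congr_simp]
  exact _root_.True.intro
end

-- part: H279/CentProd
section
prune_inst 0x1060040800000000000000e0000020100000000000000000400000000180000000000000200008100200002000004000000000020000000084000000040000000000008048001100000000000c000000000000000000000000000000000000010000000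
set_option linter.all false
open scoped Cfsg.Agent.FastGrp

-- part: H279/SLClass
section
/-!
# Class-preserving automorphisms of `SL₂(F)` are inner
-/

set_option autoImplicit false

namespace Cfsg.Agent.H279.SLClass

open Matrix Cfsg.Agent.Lib.SL2Mat Cfsg.Agent.Lib.AutSL2 Cfsg.Agent.Classification.QDW.TypeHom

variable {F : Type*} [Field F]

/-- the trace is a class function -/
theorem tr_conj {x y : _root_.Matrix.SpecialLinearGroup (Fin 2) F} (h : IsConj x y) : tr x = tr y := by
  obtain ⟨c, hc⟩ := isConj_iff.1 h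
  rw [← hc, ← conjGL_toGL, tr_conjGL]

/-- An automorphism of `SL₂(F)`, `F` finite, that preserves the conjugacy classes is inner. -/
theorem inner_of_isConj [Finite F] (α : MulAut (_root_.Matrix.SpecialLinearGroup (Fin 2) F))
    (h : ∀ x, IsConj (α x) x) : ∃ s : _root_.Matrix.SpecialLinearGroup (Fin 2) F, ∀ x, α x = s * x * s⁻¹ := by
  have h1 : typ α = 1 := typ_eq fun x => by rw [tr_conj (h x)]; rfl
  obtain ⟨g, rfl⟩ := (typ_eq_one_iff α).1 h1
  let u : _root_.Matrix.SpecialLinearGroup (Fin 2) F := mk 1 1 0 1 (by ring)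
  obtain ⟨c, hc⟩ := isConj_iff.1 (h u).symm
  -- `c u c⁻¹ = g u g⁻¹`
  have hm : c.1 * u.1 * (c⁻¹).1 = g.1 * u.1 * g⁻¹.1 := by
    have := congrArg Subtype.val hc
    rw [conjGL_val] at this
    exact this
  set k : Matrix (Fin 2) (Fin 2) F := (c⁻¹).1 * g.1 with hk
  have hcc : (c⁻¹).1 * c.1 = 1 := by
    have := congrArg Subtype.val (inv_mul_cancel c)
    exact this
  have hku : k * u.1 = u.1 * k := by
    have e1 : (c⁻¹).1 * (c.1 * u.1 * (c⁻¹).1) * g.1 = (c⁻¹).1 * (g.1 * u.1 * g⁻¹.1) * g.1 := by rw [hm]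
    have e2 : (c⁻¹).1 * (c.1 * u.1 * (c⁻¹).1) * g.1 = ((c⁻¹).1 * c.1) * u.1 * k := by
      rw [hk]; simp only [Matrix.mul_assoc]
    have e3 : (c⁻¹).1 * (g.1 * u.1 * g⁻¹.1) * g.1 = k * u.1 * (g⁻¹.1 * g.1) := by
      rw [hk]; simp only [Matrix.mul_assoc]
    rw [e2, e3, hcc, Matrix.one_mul, inv_val_mul_val, Matrix.mul_one] at e1
    exact e1.symm
  have hu : u.1 = !![1, 1; 0, 1] := rfl
  rw [hu] at hku
  have h00 := congrFun (congrFun hku 0) 0
  have h01 := congrFun (congrFun hku 0) 1
  simp only [Matrix.mul_apply, Fin.sum_univ_two] at h00 h01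
  simp only [_root_.Fin.isValue, _root_.Matrix.of_apply, _root_.Matrix.cons_val', _root_.Matrix.cons_val_zero, _root_.Matrix.cons_val_fin_one, _root_.mul_one, _root_.Matrix.cons_val_one, _root_.MulZeroClass.mul_zero, _root_.add_zero, _root_.one_mul, _root_.left_eq_add] at h00 h01
  have hdet : g.1.det = (k 0 0) ^ 2 := by
    have e1 : k.det = g.1.det := by
      rw [hk, Matrix.det_mul, (c⁻¹).2, one_mul]
    rw [← e1, Matrix.det_fin_two]
    have h10 : k 1 0 = 0 := by
      first
        | exact h00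
        | linear_combination h00
        | linear_combination (-1 : F) * h00
    have h11 : k 1 1 = k 0 0 := by
      first
        | linear_combination h01
        | linear_combination (-1 : F) * h01
    rw [h10, h11]; ring
  have hd : k 0 0 ≠ 0 := by
    intro h0
    have hne : g.1.det ≠ 0 := (Matrix.GeneralLinearGroup.det g).ne_zero
    rw [hdet, h0] at hne
    simp at hne
  exact Cfsg.Agent.Lib.AutSL2Out.conjGL_of_det_sq g (k 0 0) hd hdet

end Cfsg.Agent.H279.SLClass
end

-- part: H279/CentProd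
section
/-!
# Groups with the character degrees of `SL₂(q)` and derived subgroup `SL₂(q)`

Part F2 of S4854 (task 147): such a group is the central product of its derived subgroup and of an abelian group.
-/

set_option autoImplicit false
set_option linter.unusedSectionVars false
set_option linter.style.haveILetI false

namespace Cfsg.Agent.H279.CentProd

open Cfsg Cfsg.Agent.Characters.Core Cfsg.Agent.H681.DegBasic Cfsg.Agent.H672

section inv

variable {G : Type*} [Group G] [Finite G] {N : Subgroup G} [hN : N.Normal]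

/-- conjugates of irreducible characters of `N` -/
theorem isIrr_conj' {θ : N → ℂ} (hθ : IsIrrCharacter N θ) (g : G) :
    IsIrrCharacter N (θ ∘ (MulAut.conjNormal g : MulAut N)) :=
  Cfsg.Agent.Characters.Clifford.isIrr_conjNormal hθ g

/-- If there are two characters of a given degree and one is invariant, both are. -/
theorem inertia_of_card_two {S : Type*} [Group S] (e : N ≃* S) {c : ℂ}
    (h : Nat.card {χ : IrrCharacter S // (χ : S → ℂ) 1 = c} = 2) {θ' : N → ℂ} (hθ' : IsIrrCharacter N θ')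
    (hc' : θ' 1 = c) (hinv : inertia N θ' = ⊤) {θ : N → ℂ} (hθ : IsIrrCharacter N θ)
    (hc : θ 1 = c) : inertia N θ = ⊤ := by
  rw [Subgroup.eq_top_iff']
  intro g
  rw [mem_inertia]
  by_cases hne : θ = θ'
  · subst hne
    have := (hinv ▸ Subgroup.mem_top g : g ∈ inertia N θ)
    exact mem_inertia.1 this
  have hinj : ∀ a b : N → ℂ, a ∘ e.symm = b ∘ e.symm → a = b := by
    intro a b hab
    funext n
    have := congrFun hab (e n)
    simpa using this
  let mkI : ∀ a : N → ℂ, IsIrrCharacter N a → a 1 = c → {χ : IrrCharacter S // (χ : S → ℂ) 1 = c} :=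
    fun a ha ha1 => ⟨⟨a ∘ e.symm, isIrr_comp e.symm.toMonoidHom e.symm.surjective ha⟩, by simpa only [_root_.Function.comp_apply, _root_.map_one] using ha1⟩
  have hmk : ∀ a ha ha1 b hb hb1, mkI a ha ha1 = mkI b hb hb1 → a = b := by
    intro a ha ha1 b hb hb1 hab
    exact hinj _ _ (congrArg (fun x => (x.1 : S → ℂ)) hab)
  have hg1 : (θ ∘ (MulAut.conjNormal g : MulAut N)) 1 = c := by simpa only [_root_.Function.comp_apply, _root_.map_one] using hc
  obtain ⟨x, y, hxy, huniv⟩ := Nat.card_eq_two_iff.1 h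
  have hall : ∀ z : {χ : IrrCharacter S // (χ : S → ℂ) 1 = c}, z = x ∨ z = y := by
    intro z
    have : z ∈ ({x, y} : Set _) := huniv ▸ Set.mem_univ z
    simpa using this
  have h1 := hall (mkI θ hθ hc)
  have h2 := hall (mkI θ' hθ' hc')
  have h3 := hall (mkI _ (isIrr_conj' hθ g) hg1)
  have hne' : mkI θ hθ hc ≠ mkI θ' hθ' hc' := fun h' => hne (hmk _ hθ hc _ hθ' hc' h')
  have h4 : mkI _ (isIrr_conj' hθ g) hg1 = mkI θ hθ hc ∨ mkI _ (isIrr_conj' hθ g) hg1 = mkI θ' hθ' hc' := by
    rcases h1 with h1 | h1 <;> rcases h2 with h2 | h2 <;> rcases h3 with h3 | h3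
    · exact absurd (h1.trans h2.symm) hne'
    · exact absurd (h1.trans h2.symm) hne'
    · exact Or.inl (h3.trans h1.symm)
    · exact Or.inr (h3.trans h2.symm)
    · exact Or.inr (h3.trans h2.symm)
    · exact Or.inl (h3.trans h1.symm)
    · exact absurd (h1.trans h2.symm) hne'
    · exact absurd (h1.trans h2.symm) hne'
  rcases h4 with h4 | h4
  · exact hmk _ (isIrr_conj' hθ g) hg1 _ hθ hc h4
  · exfalso
    have h5 := hmk _ (isIrr_conj' hθ g) hg1 _ hθ' hc' h4
    have h6 : g⁻¹ ∈ inertia N θ' := hinv ▸ Subgroup.mem_top _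
    have h7 := mem_inertia.1 h6
    apply hne
    rw [← h7, ← h5]
    funext n
    simp

/-- A character of `G` with the trivial character under it for `N ≥ G'` is linear. -/
theorem degree_one_of_over_one (hc : commutator G ≤ N) {χ : G → ℂ} (hχ : IsIrrCharacter G χ)
    (h : Over N.subtype χ (1 : N → ℂ)) : χ 1 = 1 := by
  classical
  letI := Fintype.ofFinite N
  have h1 := (over_iff N.subtype χ (1 : N → ℂ)).1 h
  have h2 : ∑ n : N, χ n ≠ 0 := by
    intro h0
    apply h1
    rw [classInner_def]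
    simp only [Function.comp, Subgroup.coe_subtype, Pi.one_apply, map_one, mul_one]
    rw [h0, mul_zero]
  obtain ⟨χ', hχ'⟩ := Cfsg.Agent.Blocks.Deflate.exists_deflation N χ hχ h2
  have hab : ∀ a b : G ⧸ N, a * b = b * a := by
    intro a b
    obtain ⟨a, rfl⟩ := QuotientGroup.mk_surjective a
    obtain ⟨b, rfl⟩ := QuotientGroup.mk_surjective b
    rw [← QuotientGroup.mk_mul, ← QuotientGroup.mk_mul, QuotientGroup.eq]
    apply hc
    have h3 := Subgroup.commutator_mem_commutator (Subgroup.mem_top b⁻¹) (Subgroup.mem_top a⁻¹)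
    rw [commutatorElement_def] at h3
    have h4 : (a * b)⁻¹ * (b * a) = b⁻¹ * a⁻¹ * b⁻¹⁻¹ * a⁻¹⁻¹ := by group
    rw [h4]
    exact h3
  have h3 := S0187.result.1 hab χ'
  rw [hχ']
  exact h3

end inv

section main

variable {G : Type*} [Group G] [Finite G] {F : Type*} [Field F] [Fintype F]

local notation "SL" => Matrix.SpecialLinearGroup (Fin 2) F

theorem le_of_mem (h5 : 5 ≤ Fintype.card F) (hD : charDegrees G = Cfsg.Agent.H691.DS (Fintype.card F)) {n : ℕ}
    (hn : n ∈ charDegrees G) : n ≤ Fintype.card F + 1 := by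
  rw [hD] at hn
  rcases hn with hn | hn | hn | hn | hn | hn <;> omega

/-- large degrees: invariance -/
theorem inertia_of_large (h5 : 5 ≤ Fintype.card F) (hD : charDegrees G = Cfsg.Agent.H691.DS (Fintype.card F))
    (N : Subgroup G) [N.Normal] {θ : N → ℂ} (hθ : IsIrrCharacter N θ) {d : ℕ} (hd : θ 1 = d)
    (hdq : Fintype.card F - 1 ≤ d) : inertia N θ = ⊤ := by
  obtain ⟨χ, hχ, hover⟩ := exists_over_subtype N hθ
  have h1 := index_mul_charDegree_dvd N hχ hθ hover
  rw [charDegree_of_eq hd] at h1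
  have h2 : charDegree χ ∈ charDegrees G := ⟨⟨χ, hχ⟩, rfl⟩
  have h3 := le_of_mem h5 hD h2
  have h4 := pos_of_mem h2
  have h5' := Nat.le_of_dvd h4 h1
  rw [← Subgroup.index_eq_one]
  by_contra hne
  have h6 : (inertia N θ).index ≠ 0 := Subgroup.index_ne_zero_of_finite
  have h7 : 2 ≤ (inertia N θ).index := by omega
  have h8 : 2 * d ≤ (inertia N θ).index * d := Nat.mul_le_mul_right _ h7
  omega

variable (h5 : 5 ≤ Fintype.card F) (hD : charDegrees G = Cfsg.Agent.H691.DS (Fintype.card F))
  (e : ↥(commutator G) ≃* Matrix.SpecialLinearGroup (Fin 2) F)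

include h5 hD e

/-- the degrees of the derived subgroup -/
theorem degree_cases {θ : commutator G → ℂ} (hθ : IsIrrCharacter (commutator G) θ) :
    ∃ d : ℕ, θ 1 = d ∧ (d = 1 ∨ Fintype.card F - 1 ≤ d ∨
      (Odd (Fintype.card F) ∧ (d = (Fintype.card F + 1) / 2 ∨ d = (Fintype.card F - 1) / 2))) := by
  have h1 : IsIrrCharacter SL (θ ∘ e.symm) := isIrr_comp e.symm.toMonoidHom e.symm.surjective hθ
  have h2 : (θ ∘ e.symm) 1 = θ 1 := by simp only [_root_.Function.comp_apply, _root_.map_one]
  obtain ⟨d, hd0, hd⟩ := isIrr_apply_one hθ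
  refine ⟨d, hd, ?_⟩
  rcases Nat.even_or_odd (Fintype.card F) with hev | hodd
  · have hc2 : ringChar F = 2 := FiniteField.even_card_iff_char_two.2 (Nat.even_iff.1 hev)
    haveI : CharP F 2 := by rw [← hc2]; exact ringChar.charP F
    have h3 := (S2300.result (F := F)).1 _ h1
    rw [h2, hd] at h3
    rcases h3 with h3 | h3 | h3 | h3
    · left; exact_mod_cast h3
    · right; left
      have : d = Fintype.card F - 1 := by
        have h4 : (d : ℂ) = ((Fintype.card F - 1 : ℕ) : ℂ) := by
          rw [h3, Nat.cast_sub (by omega)]; simp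
        exact_mod_cast h4
      omega
    · right; left
      have : d = Fintype.card F := by exact_mod_cast h3
      omega
    · right; left
      have : d = Fintype.card F + 1 := by exact_mod_cast h3
      omega
  · have h3 := (S2299.result hodd).1 _ h1
    rw [h2, hd] at h3
    rcases h3 with h3 | h3 | h3 | h3 | h3 | h3
    · left; exact_mod_cast h3
    · right; left
      have : d = Fintype.card F := by exact_mod_cast h3
      omega
    · right; left
      have : d = Fintype.card F + 1 := by exact_mod_cast h3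
      omega
    · right; left
      have : d = Fintype.card F - 1 := by
        have h4 : (d : ℂ) = ((Fintype.card F - 1 : ℕ) : ℂ) := by
          rw [h3, Nat.cast_sub (by omega)]; simp
        exact_mod_cast h4
      omega
    · right; right
      exact ⟨hodd, Or.inl (by exact_mod_cast h3)⟩
    · right; right
      exact ⟨hodd, Or.inr (by exact_mod_cast h3)⟩

/-- degree one: the trivial character -/
theorem eq_one_of_degree_one {θ : commutator G → ℂ} (hθ : IsIrrCharacter (commutator G) θ)
    (h1 : θ 1 = 1) : θ = 1 := by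
  have hcard : Nat.card {χ : IrrCharacter SL // (χ : SL → ℂ) 1 = 1} = 1 := by
    rcases Nat.even_or_odd (Fintype.card F) with hev | hodd
    · have hc2 : ringChar F = 2 := FiniteField.even_card_iff_char_two.2 (Nat.even_iff.1 hev)
      haveI : CharP F 2 := by rw [← hc2]; exact ringChar.charP F
      exact ((S2300.result (F := F)).2 (by omega)).1
    · exact ((S2299.result hodd).2 h5).1
  have hs := (Nat.card_eq_one_iff_unique.1 hcard).1
  have h2 : IsIrrCharacter SL (θ ∘ e.symm) := isIrr_comp e.symm.toMonoidHom e.symm.surjective hθ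
  have h3 : (⟨⟨_, h2⟩, by simpa only [_root_.Function.comp_apply, _root_.map_one] using h1⟩ : {χ : IrrCharacter SL // (χ : SL → ℂ) 1 = 1}) =
      ⟨⟨1, isIrr_one⟩, rfl⟩ := Subsingleton.elim _ _
  have h4 : θ ∘ e.symm = (1 : SL → ℂ) := congrArg (fun x => (x.1 : SL → ℂ)) h3
  funext n
  have h5 := congrFun h4 (e n)
  simpa using h5

/-- Step 1: every irreducible character of the derived subgroup is invariant. -/
theorem inertia_eq_top {θ : commutator G → ℂ} (hθ : IsIrrCharacter (commutator G) θ) :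
    inertia (commutator G) θ = ⊤ := by
  classical
  obtain ⟨d, hd, hcase⟩ := degree_cases h5 hD e hθ
  rcases hcase with rfl | hcase | ⟨hodd, hcase⟩
  · -- degree one
    have h1 := eq_one_of_degree_one h5 hD e hθ (by rw [hd, Nat.cast_one])
    subst h1
    rw [Subgroup.eq_top_iff']
    intro g
    rw [mem_inertia]
    rfl
  · exact inertia_of_large h5 hD (commutator G) hθ hd hcase
  · -- the middle degrees
    have hmem : d ∈ charDegrees G := by
      rw [hD]
      obtain ⟨k, hk⟩ := hodd
      rcases hcase with h1 | h1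
      · exact Or.inr (Or.inr (Or.inr (Or.inr (Or.inl (by omega)))))
      · exact Or.inr (Or.inr (Or.inr (Or.inr (Or.inr (by omega)))))
    obtain ⟨χ, hχ, hχd⟩ := mem_charDegrees.1 hmem
    obtain ⟨θ', hθ', hover⟩ := exists_under (f := (commutator G).subtype) hχ
    obtain ⟨d', hd', hcase'⟩ := degree_cases h5 hD e hθ'
    have hdvd := (charDegree_dvd_of_over (commutator G) hχ hθ' hover).1
    rw [charDegree_of_eq hd', charDegree_of_eq hχd] at hdvd
    have hdpos : 0 < d := pos_of_mem hmem
    have hle := Nat.le_of_dvd hdpos hdvd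
    have hd'ne : d' ≠ 1 := by
      rintro rfl
      have h1 := eq_one_of_degree_one h5 hD e hθ' (by rw [hd', Nat.cast_one])
      subst h1
      have h2 := degree_one_of_over_one (N := commutator G) le_rfl hχ hover
      rw [hχd] at h2
      have h3 : d = 1 := by exact_mod_cast h2
      omega
    have hdd : d' = d := by
      obtain ⟨k, hk⟩ := hodd
      rcases hcase' with h1 | h1 | ⟨-, h1 | h1⟩
      · exact absurd h1 hd'ne
      · (clear * - h5 hcase hle h1; omega)
      · (clear * - h5 hcase hle h1; omega)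
      · rcases hcase with h2 | h2
        · exfalso
          have e1 : d = d' + 1 := by omega
          rw [e1] at hdvd
          have e2 := (Nat.dvd_add_right (dvd_refl d')).1 hdvd
          exact hd'ne (Nat.dvd_one.1 e2)
        · omega
    subst hdd
    have hres : χ ∘ (commutator G).subtype = θ' := by
      refine eq_of_over_of_charDegree_eq hχ hθ' hover ?_
      rw [charDegree_of_eq hd', charDegree_of_eq hχd]
    have hinv : inertia (commutator G) θ' = ⊤ := by
      rw [Subgroup.eq_top_iff']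
      intro g
      rw [mem_inertia, ← hres]
      exact Cfsg.Agent.Characters.Clifford.restrict_comp_conjNormal (isIrr_isClassFunction hχ) g
    have hcard : Nat.card {χ : IrrCharacter SL // (χ : SL → ℂ) 1 = (d' : ℂ)} = 2 := by
      have h6 := (S2299.result hodd).2 h5
      rcases hcase with h1 | h1
      · rw [h1]; exact h6.2.2.2.2.1
      · rw [h1]; exact h6.2.2.2.2.2
    exact inertia_of_card_two e hcard hθ' hd' hinv hθ hd

/-- Step 2: `G = G' C_G(G')`. -/
theorem sup_eq_top : commutator G ⊔ Subgroup.centralizer (commutator G : Set G) = ⊤ := by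
  classical
  rw [Subgroup.eq_top_iff']
  intro g
  have hconj : ∀ n : commutator G, IsConj ((MulAut.conjNormal g : MulAut (commutator G)) n) n := by
    intro n
    apply Cfsg.Agent.Characters.GaloisIrr.isConj_of_forall_irr
    intro θ hθ
    have h1 : g ∈ inertia (commutator G) θ := by
      rw [inertia_eq_top h5 hD e hθ]; exact Subgroup.mem_top g
    exact congrFun (mem_inertia.1 h1) n
  let α : MulAut SL := (e.symm.trans (MulAut.conjNormal g : MulAut (commutator G))).trans e
  have hα : ∀ x, IsConj (α x) x := by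
    intro x
    have h1 := e.toMonoidHom.map_isConj (hconj (e.symm x))
    simpa only [α, _root_.MulEquiv.trans_apply, _root_.isConj_iff, _root_.MulEquiv.toMonoidHom_eq_coe, _root_.MonoidHom.coe_coe, _root_.MulEquiv.apply_symm_apply] using h1
  obtain ⟨s, hs⟩ := Cfsg.Agent.H279.SLClass.inner_of_isConj α hα
  set h : commutator G := e.symm s with hh
  have hkey : ∀ n : commutator G, g * (n : G) * g⁻¹ = (h : G) * n * (h : G)⁻¹ := by
    intro n
    have h1 := hs (e n)
    have h2 : (MulAut.conjNormal g : MulAut (commutator G)) n = h * n * h⁻¹ := by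
      apply e.injective
      rw [map_mul, map_mul, map_inv, hh, MulEquiv.apply_symm_apply, ← h1]
      simp [α]
    have h3 := congrArg Subtype.val h2
    rw [MulAut.conjNormal_apply] at h3
    simpa only [_root_.Subgroup.coe_mul, _root_.InvMemClass.coe_inv] using h3
  have hmem : (h : G)⁻¹ * g ∈ Subgroup.centralizer (commutator G : Set G) := by
    rw [Subgroup.mem_centralizer_iff]
    intro n hn
    have h1 := hkey ⟨n, hn⟩
    have h2 : g * n = (h : G) * n * (h : G)⁻¹ * g := by
      rw [← h1]; group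
    have h3 : (h : G)⁻¹ * (g * n) = (h : G)⁻¹ * ((h : G) * n * (h : G)⁻¹ * g) := by rw [h2]
    have h4 : (h : G)⁻¹ * ((h : G) * n * (h : G)⁻¹ * g) = n * ((h : G)⁻¹ * g) := by group
    rw [h4, ← mul_assoc] at h3
    exact h3.symm
  have hg : g = (h : G) * ((h : G)⁻¹ * g) := by group
  rw [hg]
  exact Subgroup.mul_mem_sup h.2 hmem

omit hD e [Finite G] in
/-- a faithful irreducible character of degree `q + 1` of `SL₂(q)`, `q` odd -/
theorem exists_faithful (hodd : Odd (Fintype.card F)) : ∃ θ : SL → ℂ, IsIrrCharacter SL θ ∧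
    θ 1 = (Fintype.card F : ℂ) + 1 ∧
    ∀ z ∈ Subgroup.center SL, z ≠ 1 → z * z = 1 ∧ θ z = -θ 1 := by
  classical
  -- a faithful character of the units
  obtain ⟨γ, hγ⟩ := IsCyclic.exists_generator (α := Fˣ)
  have hcard : Nat.card Fˣ = Fintype.card F - 1 := by
    rw [Nat.card_units, Nat.card_eq_fintype_card]
  have hord : orderOf γ = Nat.card Fˣ := orderOf_eq_card_of_forall_mem_zpowers hγ
  have hn : Nat.card Fˣ ≠ 0 := by omega
  obtain ⟨ζ, hζ⟩ : ∃ ζ : ℂˣ, orderOf ζ = Nat.card Fˣ := by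
    have h1 := Complex.isPrimitiveRoot_exp (Nat.card Fˣ) hn
    obtain ⟨u, hu⟩ := h1.isUnit hn
    refine ⟨u, ?_⟩
    rw [← orderOf_units, hu]
    exact h1.eq_orderOf.symm
  have hdvd : orderOf ζ ∣ orderOf γ := by rw [hζ, hord]
  have hgen := monoidHomOfForallMemZpowers_apply_gen hγ hdvd
  set ψ := monoidHomOfForallMemZpowers hγ hdvd with hψ
  have hinj : ∀ x : Fˣ, ψ x = 1 → x = 1 := by
    intro x hx
    obtain ⟨k, rfl⟩ := Subgroup.mem_zpowers_iff.1 (hγ x)
    rw [map_zpow, hgen] at hx
    rw [← orderOf_dvd_iff_zpow_eq_one, hζ, ← hord] at hx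
    exact orderOf_dvd_iff_zpow_eq_one.1 hx
  have h2F : (2 : F) ≠ 0 := by
    intro h0
    have hc2 : ringChar F = 2 := by
      haveI := ringChar.charP F
      have h3 : ringChar F ∣ 2 := (ringChar.spec F 2).1 (by exact_mod_cast h0)
      have h4 : ringChar F ≠ 1 := CharP.ringChar_ne_one
      exact (Nat.dvd_prime Nat.prime_two).1 h3 |>.resolve_left h4
    have := FiniteField.even_card_iff_char_two.1 hc2
    rw [Nat.odd_iff] at hodd
    omega
  have hneg : (-1 : Fˣ) ≠ 1 := by
    intro h0
    have h1 : ((-1 : Fˣ) : F) = 1 := by rw [h0, Units.val_one]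
    rw [Units.val_neg, Units.val_one] at h1
    apply h2F
    linear_combination -h1
  have hψneg : (ψ (-1) : ℂ) = -1 := by
    have h1 : ψ (-1) * ψ (-1) = 1 := by rw [← map_mul]; simp
    have h2 : ((ψ (-1) : ℂˣ) : ℂ) * ψ (-1) = 1 := by
      rw [← Units.val_mul, h1, Units.val_one]
    have h3 : ψ (-1) ≠ 1 := fun h' => hneg (hinj _ h')
    have h4 : ((ψ (-1) : ℂˣ) : ℂ) ≠ 1 := fun h' => h3 (Units.ext h')
    have h5 : (((ψ (-1) : ℂˣ) : ℂ) - 1) * (((ψ (-1) : ℂˣ) : ℂ) + 1) = 0 := by ring_nf; rw [sq, h2]; ring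
    rcases mul_eq_zero.1 h5 with h6 | h6
    · exact absurd (sub_eq_zero.1 h6) h4
    · exact eq_neg_of_add_eq_zero_left h6
  set α : MulChar F ℂ := MulChar.ofUnitHom ψ with hα
  have hαu : ∀ a : Fˣ, α a = ψ a := fun a => by rw [hα, MulChar.ofUnitHom_coe]
  have hne : ¬ α = α⁻¹ := by
    intro h
    have h5' : α γ = α⁻¹ γ := by rw [← h]
    rw [MulChar.inv_apply_eq_inv', hαu] at h5'
    have h6 : (ψ γ : ℂ) * ψ γ = 1 := by
      nth_rw 2 [h5']
      exact mul_inv_cancel₀ (Units.ne_zero _)
    have h7 : ζ ^ 2 = 1 := by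
      rw [hgen] at h6
      apply Units.ext
      rw [Units.val_pow_eq_pow_val, sq, h6, Units.val_one]
    have h8 := Nat.le_of_dvd (by norm_num) (orderOf_dvd_of_pow_eq_one h7)
    omega
  have hirr : IsIrrCharacter SL (Cfsg.Agent.H984.SLTwo.R α) := by
    apply isIrr_of_classInner_self (Cfsg.Agent.H984.SLTwo.isCharacter_R α)
    rw [Cfsg.Agent.H984.SLTwo.classInner_R_R, if_pos rfl, if_neg hne, add_zero]
  have hR1 : (Cfsg.Agent.H984.SLTwo.R α : SL → ℂ) 1 = (Fintype.card F : ℂ) + 1 := by
    have h := Cfsg.Agent.H984.SLTwo.R_upp_zero α (inv_one : (1 : Fˣ)⁻¹ = 1)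
    rw [Cfsg.Agent.H984.SLTwo.upp_one_zero, Units.val_one, map_one, mul_one] at h
    exact h
  have hRz : (Cfsg.Agent.H984.SLTwo.R α : SL → ℂ) Cfsg.Agent.H984.SLTwo.z0 =
      -((Fintype.card F : ℂ) + 1) := by
    have h := Cfsg.Agent.H984.SLTwo.R_upp_zero α (Cfsg.Agent.H984.SLTwo.neg_one_inv (F := F))
    rw [hαu, hψneg] at h
    rw [Cfsg.Agent.H984.SLTwo.z0, h]; ring
  refine ⟨_, hirr, hR1, fun z hz hz1 => ?_⟩
  rcases Cfsg.Agent.H672.SL2Graph.mem_center_cases hz with rfl | rfl
  · exact absurd rfl hz1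
  · exact ⟨Cfsg.Agent.H984.SLTwo.z0_mul_self, by rw [hRz, hR1]⟩

/-- Step 3: the centralizer of the derived subgroup is abelian. -/
theorem centralizer_comm (a b : Subgroup.centralizer (commutator G : Set G)) : a * b = b * a := by
  classical
  by_contra hab
  have hnc : ¬ ∀ a b : Subgroup.centralizer (commutator G : Set G), a * b = b * a := fun h => hab (h a b)
  rw [S0187.result] at hnc
  push Not at hnc
  obtain ⟨ψ, hψ1⟩ := hnc
  -- an element of the derived subgroup of the centralizer outside the kernel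
  obtain ⟨c, hc, hcψ⟩ : ∃ c ∈ commutator (Subgroup.centralizer (commutator G : Set G)),
      (ψ : Subgroup.centralizer (commutator G : Set G) → ℂ) c ≠
        (ψ : Subgroup.centralizer (commutator G : Set G) → ℂ) 1 := by
    by_contra hcon
    push Not at hcon
    obtain ⟨χ', h1, h2⟩ := Cfsg.Agent.OddOrderCharacters.PF9.Reducible.exists_of_surjective
      (QuotientGroup.mk' (commutator (Subgroup.centralizer (commutator G : Set G))))
      (QuotientGroup.mk'_surjective _) ψ.2 (fun g hg => hcon g ((QuotientGroup.eq_one_iff g).1 hg))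
    have hab' : ∀ a b : (Subgroup.centralizer (commutator G : Set G)) ⧸
        commutator (Subgroup.centralizer (commutator G : Set G)), a * b = b * a :=
      fun a b => mul_comm (G := Abelianization (Subgroup.centralizer (commutator G : Set G))) a b
    have h3 := S0187.result.1 hab' ⟨χ', h1⟩
    apply hψ1
    rw [← h2 1, map_one]
    exact h3
  have hcG : (c : G) ∈ commutator G := by
    have h1 : ∀ C : Subgroup G, (commutator C).map C.subtype ≤ commutator G := by
      intro C
      rw [commutator_def C, Subgroup.map_commutator, commutator_def]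
      exact Subgroup.commutator_mono le_top le_top
    exact h1 _ ⟨c, hc, rfl⟩
  have hcz : ∀ n : G, n ∈ commutator G → n * c = c * n := fun n hn =>
    Subgroup.mem_centralizer_iff.1 c.2 n hn
  set z : commutator G := ⟨c, hcG⟩ with hz
  have hcne : c ≠ 1 := fun h => hcψ (by rw [h])
  have hzne : e z ≠ 1 := by
    intro h
    have h1 : z = 1 := e.injective (by rw [h, map_one])
    apply hcne
    apply Subtype.ext
    exact congrArg (fun x : commutator G => (x : G)) h1
  have hzc : e z ∈ Subgroup.center SL := by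
    rw [Subgroup.mem_center_iff]
    intro x
    have h1 : e.symm x * z = z * e.symm x := Subtype.ext (hcz _ (e.symm x).2)
    have h2 := congrArg e h1
    simpa only [_root_.map_mul, _root_.MulEquiv.apply_symm_apply] using h2
  have hcases : ∀ x ∈ Subgroup.center SL, x = 1 ∨ x = e z := by
    intro x hx
    rcases Cfsg.Agent.H672.SL2Graph.mem_center_cases hx with h1 | h1
    · exact Or.inl h1
    · rcases Cfsg.Agent.H672.SL2Graph.mem_center_cases hzc with h2 | h2
      · exact absurd h2 hzne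
      · exact Or.inr (h1.trans h2.symm)
  -- the field is odd
  have hodd : Odd (Fintype.card F) := by
    by_contra hev
    rw [Nat.not_odd_iff_even] at hev
    have hc2 : ringChar F = 2 := FiniteField.even_card_iff_char_two.2 (Nat.even_iff.1 hev)
    haveI : CharP F 2 := by rw [← hc2]; exact ringChar.charP F
    rcases Cfsg.Agent.H672.SL2Graph.mem_center_cases hzc with h2 | h2
    · exact hzne h2
    · apply hzne
      rw [h2, Cfsg.Agent.H984.SLTwo.z0]
      have h3 : (-1 : Fˣ) = 1 := by
        apply Units.ext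
        rw [Units.val_neg, Units.val_one, CharTwo.neg_eq]
      rw [h3, Cfsg.Agent.H984.SLTwo.upp_one_zero]
  obtain ⟨θ, hθ, hθ1, hθz⟩ := exists_faithful h5 (F := F) hodd
  obtain ⟨hzz, hθz'⟩ := hθz (e z) hzc hzne
  have hcc : c * c = 1 := by
    have h1 : z * z = 1 := e.injective (by rw [map_mul, hzz, map_one])
    apply Subtype.ext
    exact congrArg (fun x : commutator G => (x : G)) h1
  have hccen : c ∈ Subgroup.center (Subgroup.centralizer (commutator G : Set G)) := by
    rw [Subgroup.mem_center_iff]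
    intro x
    apply Subtype.ext
    exact (Subgroup.mem_centralizer_iff.1 x.2 c hcG).symm
  -- the value of `ψ` at `c`
  have hψc : (ψ : Subgroup.centralizer (commutator G : Set G) → ℂ) c =
      -(ψ : Subgroup.centralizer (commutator G : Set G) → ℂ) 1 := by
    letI := Fintype.ofFinite (Subgroup.centralizer (commutator G : Set G))
    obtain ⟨w, -, hw⟩ := Cfsg.Agent.CharDeep.DegreeBound.exists_omega ψ.2 hccen
    have h1 := hw 1
    rw [one_mul] at h1
    have h2 := hw c
    rw [hcc, h1] at h2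
    have hne := isIrr_apply_one_ne_zero ψ.2
    have h3 : (w - 1) * (w + 1) = 0 := by
      have h4 : w * w = 1 := by
        apply mul_right_cancel₀ hne
        rw [one_mul, mul_assoc]
        exact h2.symm
      linear_combination h4
    rcases mul_eq_zero.1 h3 with h4 | h4
    · exfalso
      apply hcψ
      rw [h1, sub_eq_zero.1 h4, one_mul]
    · rw [h1, eq_neg_of_add_eq_zero_left h4]; ring
  -- the product character
  have hθ' : IsIrrCharacter (commutator G) (θ ∘ e) := isIrr_comp e.toMonoidHom e.surjective hθ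
  have hprod := Cfsg.Agent.S0188.isIrr_outer hθ' ψ.2
  obtain ⟨χ, hχ, hχ'⟩ := Cfsg.Agent.OddOrderCharacters.PF9.Reducible.exists_of_surjective
    (Cfsg.Agent.Blocks.CentralProduct.mulHom (commutator G))
    (Cfsg.Agent.Blocks.CentralProduct.mulHom_surjective (sup_eq_top h5 hD e)) hprod (by
      rintro ⟨n, x⟩ hnx
      rw [Cfsg.Agent.Blocks.CentralProduct.mulHom_apply] at hnx
      have hnx' : (n : G) * (x : G) = 1 := hnx
      have hn : (n : G) = (x : G)⁻¹ := eq_inv_of_mul_eq_one_left hnx'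
      have hncen : e n ∈ Subgroup.center SL := by
        rw [Subgroup.mem_center_iff]
        intro y
        have h1 : e.symm y * n = n * e.symm y := by
          apply Subtype.ext
          rw [Subgroup.coe_mul, Subgroup.coe_mul, hn]
          exact Subgroup.mem_centralizer_iff.1 (Subgroup.inv_mem _ x.2) _ (e.symm y).2
        have h2 := congrArg e h1
        simpa only [_root_.map_mul, _root_.MulEquiv.apply_symm_apply] using h2
      change θ (e n) * (ψ : Subgroup.centralizer (commutator G : Set G) → ℂ) x =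
        θ (e 1) * (ψ : Subgroup.centralizer (commutator G : Set G) → ℂ) 1
      rw [map_one]
      rcases hcases _ hncen with h1 | h1
      · have h2 : n = 1 := e.injective (by rw [h1, map_one])
        have h3 : x = 1 := by
          apply Subtype.ext
          rw [h2] at hnx'
          simpa only [_root_.OneMemClass.coe_one, _root_.OneMemClass.coe_eq_one, _root_.one_mul] using hnx'
        rw [h1, h3]
      · have h2 : n = z := e.injective h1
        have h3 : x = c := by
          apply Subtype.ext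
          rw [h2] at hnx'
          have h4 : (c : G) * (x : G) = 1 := hnx'
          have h5' : (c : G) * (c : G) = 1 := congrArg Subtype.val hcc
          exact mul_left_cancel (h4.trans h5'.symm)
        rw [h1, h3, hθz', hψc]; ring)
  have hχ1 : χ 1 = θ 1 * (ψ : Subgroup.centralizer (commutator G : Set G) → ℂ) 1 := by
    have h1 := hχ' 1
    rw [map_one] at h1
    rw [h1]
    change θ (e 1) * _ = _
    rw [map_one]
    rfl
  obtain ⟨m, hm0, hm⟩ := isIrr_apply_one ψ.2
  have hm1 : m ≠ 1 := by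
    rintro rfl
    exact hψ1 (by rw [hm, Nat.cast_one])
  have hmem : (Fintype.card F + 1) * m ∈ charDegrees G := by
    refine mem_charDegrees.2 ⟨χ, hχ, ?_⟩
    rw [hχ1, hθ1, hm]; push_cast; ring
  have hle := le_of_mem h5 hD hmem
  have : 2 ≤ m := by omega
  nlinarith only [hle, this]

/-- **Part F2 of S4854**: a finite group with the character degrees of `SL₂(q)`, `q ≥ 5`, and derived subgroup
`SL₂(q)` is the central product of its derived subgroup and of an abelian group. -/
theorem central_product : IsMulCommutative (Subgroup.centralizer (commutator G : Set G)) ∧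
      commutator G ⊔ Subgroup.centralizer (commutator G : Set G) = ⊤ :=
  ⟨⟨⟨centralizer_comm h5 hD e⟩⟩, sup_eq_top h5 hD e⟩

end main

end Cfsg.Agent.H279.CentProd
end

private theorem dce_ac7efb80924f : _root_.True := by
  try have : _root_.True := by simp only [_root_.Cfsg.Agent.H984.SLTwo.z0.eq_1]
  exact _root_.True.intro
end
end

-- part: H691/Main
section
prune_inst 0x14010000
set_option linter.all false
open scoped Cfsg.Agent.FastGrp

-- part: H691/Ident
section
/-!
# Identification of the simple section (helper691)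

* `known_hasExt` : almost simple groups with a known socle have a character of large degree almost extending one of
  the socle;
* `ident` : if the degrees of the almost simple group `A`, with `A / S` abelian, are in `DS q`, and `p ∣ |S|`, then the
  socle `S` is `PSL₂(q)`.
-/

set_option autoImplicit false

namespace Cfsg.Agent.H691.Ident

open Cfsg Cfsg.Agent.H691.Lie Cfsg.Agent.H691.Spor Matrix

universe u

theorem hasExt_of_SD {A : Type u} [Group A] [Finite A] {S : Subgroup A} (h : AS A S) (hSD : SD S) : HasExt A S := by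
  have := h.normal
  obtain ⟨d, ⟨θ, rfl⟩, h9⟩ := exists_big hSD
  obtain ⟨χ, hχ, ho⟩ := H672.exists_over_subtype S θ.2
  obtain ⟨h1, h2⟩ := H672.charDegree_dvd_of_over S hχ θ.2 ho
  have h3 : S.index ∣ 2 := h.index_dvd_out.trans hSD.1
  have h4 := Nat.le_of_dvd (by norm_num) (h2.trans h3)
  refine ⟨χ, θ, 2, hχ, θ.2, ho, ?_, by omega⟩
  obtain ⟨k, hk⟩ := h1
  have hpos : 0 < charDegree (θ : S → ℂ) := by omega
  rw [hk, Nat.mul_div_cancel_left _ hpos] at h4
  rw [hk, mul_comm]
  exact Nat.mul_le_mul_right _ h4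

/-- the trichotomy -/
theorem cases_known (T : TPs.{u}) {S : Type u} [Group S] (hna : ¬ IsMulCommutative S) (hK : IsKnownSimple' S) :
    (∃ n, 7 ≤ n ∧ Nonempty (S ≃* alternatingGroup (Fin n))) ∨ (∃ r : ℕ, r.Prime ∧ IsLieTypeChar r S) ∨
      IsPSLTwo S ∨ SD S := by
  rcases OddHalf.Known.classify hna hK with h | ⟨r, hr, -, h⟩ | (h | h) | h
  · rcases alt_cases h with h | h
    · exact Or.inl h
    · exact Or.inr (Or.inr (Or.inl h))
  · exact Or.inr (Or.inl ⟨r, hr, h⟩)
  · exact Or.inr (Or.inl ⟨2, Nat.prime_two, h⟩)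
  · exact Or.inr (Or.inr (Or.inr (tits_data T h)))
  · exact Or.inr (Or.inr (Or.inr (sporadic_data T h)))

theorem known_hasExt (T : TPs.{u}) {A : Type u} [Group A] [Finite A] {S : Subgroup A} (h : AS A S)
    (hK : IsKnownSimple' S) : HasExt A S := by
  have := h.normal
  have := h.simple
  rcases cases_known T h.nonab hK with ⟨n, hn, ⟨e⟩⟩ | ⟨r, hr, h'⟩ | h' | h'
  · exact hasExt_of_alt S hn e
  · obtain ⟨p, hp, h1, h2⟩ := lie_five hr h.nonab h'
    exact hasExt_of_lie S hp h1 h2
  · obtain ⟨p, hp, h1, h2⟩ := isPSLTwo_five h'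
    exact hasExt_of_lie S hp h1 h2
  · exact hasExt_of_SD h h'

/-- every degree of `S` divides a degree of `A`, with quotient dividing `|A : S|` -/
theorem exists_mult {A : Type u} [Group A] [Finite A] {S : Subgroup A} [S.Normal] {d : ℕ} (hd : d ∈ charDegrees S) :
    ∃ x ∈ charDegrees A, d ∣ x ∧ x / d ∣ S.index := by
  obtain ⟨θ, rfl⟩ := hd
  obtain ⟨χ, hχ, ho⟩ := H672.exists_over_subtype S θ.2
  obtain ⟨h1, h2⟩ := H672.charDegree_dvd_of_over S hχ θ.2 ho
  exact ⟨_, ⟨⟨χ, hχ⟩, rfl⟩, h1, h2⟩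

theorem dvd_small {a b : ℕ} (h : a ∣ b) (hb : b ≠ 0) (hlt : b < a) : False := by
  have := Nat.le_of_dvd (Nat.pos_of_ne_zero hb) h
  omega

/-- The arithmetic, `r ≥ 7`. -/
theorem arith_seven {r q d₁ d₂ : ℕ} (h7 : 7 ≤ r) (hq : 5 ≤ q) (hr : r ∈ DS q) (h1 : d₁ ∈ DS q) (h2 : d₂ ∈ DS q)
    (hd₁ : r + 1 ∣ d₁) (hd₂ : r - 1 ∣ d₂) : r = q := by
  have aux : ∀ a b c : ℕ, a ∣ b → a ∣ c → b ≤ c → a ∣ c - b := fun a b c h h' _ => Nat.dvd_sub h' h
  rcases hr with h | h | h | h | h | h
  · omega
  · exact h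
  · -- `q = r + 1`
    exfalso
    rcases h2 with h3 | h3 | h3 | h3 | h3 | h3
    · exact dvd_small hd₂ (by omega) (by omega)
    · have := aux (r - 1) (r - 1) d₂ dvd_rfl hd₂ (by omega)
      exact dvd_small this (by omega) (by omega)
    · have := aux (r - 1) (r - 1) d₂ dvd_rfl hd₂ (by omega)
      exact dvd_small this (by omega) (by omega)
    · have := aux (r - 1) (r - 1) d₂ dvd_rfl hd₂ (by omega)
      exact dvd_small this (by omega) (by omega)
    · exact dvd_small hd₂ (by omega) (by omega)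
    · exact dvd_small hd₂ (by omega) (by omega)
  · -- `r = q + 1`
    exfalso
    rcases h1 with h3 | h3 | h3 | h3 | h3 | h3 <;> exact dvd_small hd₁ (by omega) (by omega)
  · -- `2 r = q + 1`
    exfalso
    rcases h1 with h3 | h3 | h3 | h3 | h3 | h3
    · exact dvd_small hd₁ (by omega) (by omega)
    · have := aux (r + 1) (d₁) (2 * (r + 1)) hd₁ (Dvd.intro_left 2 rfl) (by omega)
      exact dvd_small this (by omega) (by omega)
    · have := aux (r + 1) (d₁) (2 * (r + 1)) hd₁ (Dvd.intro_left 2 rfl) (by omega)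
      exact dvd_small this (by omega) (by omega)
    · have := aux (r + 1) (d₁) (2 * (r + 1)) hd₁ (Dvd.intro_left 2 rfl) (by omega)
      exact dvd_small this (by omega) (by omega)
    · exact dvd_small hd₁ (by omega) (by omega)
    · exact dvd_small hd₁ (by omega) (by omega)
  · -- `2 r + 1 = q`
    exfalso
    rcases h2 with h3 | h3 | h3 | h3 | h3 | h3
    · exact dvd_small hd₂ (by omega) (by omega)
    · have := aux (r - 1) (2 * (r - 1)) d₂ (Dvd.intro_left 2 rfl) hd₂ (by omega)
      exact dvd_small this (by omega) (by omega)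
    · have := aux (r - 1) (2 * (r - 1)) d₂ (Dvd.intro_left 2 rfl) hd₂ (by omega)
      exact dvd_small this (by omega) (by omega)
    · have := aux (r - 1) (2 * (r - 1)) d₂ (Dvd.intro_left 2 rfl) hd₂ (by omega)
      exact dvd_small this (by omega) (by omega)
    · have := aux (r - 1) (r - 1) d₂ dvd_rfl hd₂ (by omega)
      exact dvd_small this (by omega) (by omega)
    · have := aux (r - 1) (r - 1) d₂ dvd_rfl hd₂ (by omega)
      exact dvd_small this (by omega) (by omega)

/-- The arithmetic, `r = 5`. -/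
theorem arith_five {q d₃ d₄ : ℕ} (hq5 : 5 ≤ q) (hq6 : q ≠ 6) (hr : 5 ∈ DS q) (h3 : d₃ ∈ DS q)
    (h4 : d₄ ∈ DS q) (hd₃ : 3 ∣ d₃) (hd₄ : 4 ∣ d₄) (h3' : d₃ / 3 ∣ 2) (h4' : d₄ / 4 ∣ 2) : 5 = q := by
  have e3 := Nat.le_of_dvd (by norm_num) h3'
  have e4 := Nat.le_of_dvd (by norm_num) h4'
  obtain ⟨k, rfl⟩ := hd₃
  obtain ⟨m, rfl⟩ := hd₄
  rw [Nat.mul_div_cancel_left _ (by norm_num)] at e3 h3'
  rw [Nat.mul_div_cancel_left _ (by norm_num)] at e4 h4'
  have hk : k ≠ 0 := by rintro rfl; exact absurd (Nat.eq_zero_of_zero_dvd h3') (by norm_num)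
  have hm : m ≠ 0 := by rintro rfl; exact absurd (Nat.eq_zero_of_zero_dvd h4') (by norm_num)
  rcases hr with h | h | h | h | h | h
  · omega
  · exact h
  · omega
  · omega
  · exfalso
    have hq : q = 9 := by omega
    subst hq
    rcases h3 with h | h | h | h | h | h <;> (clear * - h e3; omega)
  · exfalso
    have hq : q = 11 := by omega
    subst hq
    rcases h4 with h | h | h | h | h | h <;> (clear * - h e4; omega)

/-- **Identification.** -/
theorem ident (T : TPs.{u}) {A : Type u} [Group A] [Finite A] {S : Subgroup A} (h : AS A S) {p F : ℕ} (hp : p.Prime)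
    (h5 : 5 ≤ p ^ F) (hpS : p ∣ Nat.card S) (hD : charDegrees A ⊆ DS (p ^ F)) (hK : IsKnownSimple' S) :
    ∃ (K : Type) (_ : Field K) (_ : Fintype K), Fintype.card K = p ^ F ∧
      Nonempty (S ≃* ProjectiveSpecialLinearGroup (Fin 2) K) := by
  have := h.normal
  have := h.simple
  have hpsl : IsPSLTwo S := by
    rcases cases_known T h.nonab hK with ⟨n, hn, ⟨e⟩⟩ | ⟨r, hr, h'⟩ | h' | h'
    · exact (H464.AltExt.alt_false h hn e hp h5 hpS hD).elim
    · exact lie_psl h hp h5 hpS hD hr h'
    · exact h'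
    · exact (spor_false h hp h5 hpS hD h').elim
  obtain ⟨K, i1, i2, h5K, ⟨e⟩⟩ := hpsl
  refine ⟨K, i1, i2, ?_, ⟨e⟩⟩
  -- the Steinberg character
  obtain ⟨r, hr, hLie, hQ⟩ := psl_two_sylow h5K e
  have := Fact.mk hr
  have hSt : Fintype.card K ∈ charDegrees A := by
    obtain ⟨χ, hχ, -, hχ1⟩ := StExt.exists_ext S (H996.AllSplit.hasSplit_of_lie hr hLie)
    obtain ⟨Q⟩ := (inferInstance : Nonempty (Sylow r S))
    rw [H681.DegBasic.mem_charDegrees]
    exact ⟨χ, hχ, by rw [hχ1 Q, hQ Q]⟩
  have htr : ∀ d, d ∈ charDegrees (ProjectiveSpecialLinearGroup (Fin 2) K) → d ∈ charDegrees S := fun d hd =>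
    H681.DegBasic.charDegrees_comp e.toMonoidHom e.surjective hd
  have hpp : ∀ (a : ℕ) (ha : a.Prime) (b : ℕ), a ^ b ≠ 6 := by
    intro a ha b h6
    have h2 : 2 ∣ a ^ b := by rw [h6]; norm_num
    have h3 : 3 ∣ a ^ b := by rw [h6]; norm_num
    have e2 := (Nat.prime_dvd_prime_iff_eq Nat.prime_two ha).1 (Nat.prime_two.dvd_of_dvd_pow h2)
    have e3 := (Nat.prime_dvd_prime_iff_eq Nat.prime_three ha).1 (Nat.prime_three.dvd_of_dvd_pow h3)
    omega
  rcases Nat.lt_or_ge (Fintype.card K) 7 with h7 | h7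
  · have hK6 : Fintype.card K ≠ 6 := by
      obtain ⟨n, hn, hc⟩ := FiniteField.card K (ringChar K)
      rw [hc]
      exact hpp _ hn _
    have hK5 : Fintype.card K = 5 := by omega
    obtain ⟨h3, h4, -⟩ := H464.PslDeg.psl_five hK5
    obtain ⟨x, hx, hx3, hx3'⟩ := exists_mult (A := A) (htr _ h3)
    obtain ⟨y, hy, hy4, hy4'⟩ := exists_mult (A := A) (htr _ h4)
    have hout : S.index ∣ 2 := by
      refine h.index_dvd_out.trans ?_
      obtain ⟨e'⟩ := S0253.result (F := K) hK5
      have := isSimple_congr (e.trans e')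
      rw [H934.OutB.card_out_congr (e.trans e'),
        H934.OutAll.card_out_alt (by norm_num) (by norm_num) (na_congr (e.trans e') h.nonab)]
    rw [hK5] at hSt ⊢
    exact arith_five h5 (hpp p hp F) (hD hSt) (hD hx) (hD hy) hx3 hy4 (hx3'.trans hout) (hy4'.trans hout)
  · obtain ⟨h8, h9⟩ := H464.PslDeg.psl_degrees (F := K) h7
    obtain ⟨x, hx, hx1, -⟩ := exists_mult (A := A) (htr _ h8)
    obtain ⟨y, hy, hy1, -⟩ := exists_mult (A := A) (htr _ h9)
    exact arith_seven h7 h5 (hD hSt) (hD hx) (hD hy) hx1 hy1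

end Cfsg.Agent.H691.Ident
end

-- part: H279/PerfDer
section
/-!
# Groups with the character degrees of `SL₂(q)`: the derived subgroup is perfect

Part A of S4854 (task 144).  `cases_of_surj` is the dichotomy of `Cfsg.Agent.H681.DegStruct.cases` for an arbitrary
finite group with a solvable nonabelian quotient; `cases_of_not_perfect` is its form for `G'' ≠ G'`.
-/

set_option autoImplicit false

namespace Cfsg.Agent.H279.PerfDer

open Cfsg Cfsg.Agent.Characters.Core Cfsg.Agent.H681 Cfsg.Agent.H681.DegBasic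

/-- The dichotomy, relative to a surjection on a minimal nonabelian solvable group. -/
theorem cases_of_surj {G Q : Type*} [Group G] [Finite G] [Group Q] [Finite Q] [Group.IsSolvable Q]
    (π : G →* Q) (hπ : Function.Surjective π) (h1 : commutator Q ≠ ⊥)
    (hmin : ∀ M : Subgroup Q, M.Normal → M ≠ ⊥ → commutator Q ≤ M) :
    ∃ (p : ℕ) (f : ℕ), p.Prime ∧ 1 < f ∧
      (((∃ b, f = p ^ b) ∧ ∀ n ∈ charDegrees G, p ∣ n ∨ f * n ∈ charDegrees G) ∨
        (f.Coprime p ∧ ∃ N : Subgroup G, ∃ _ : N.Normal, N.index = f ∧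
          ∀ (ψ : N → ℂ), IsIrrCharacter N ψ → ∀ d : ℕ, ψ 1 = d → p ∣ d ∨ f * d ∈ charDegrees G)) := by
  classical
  have := Fintype.ofFinite G
  have hab := MinNonab.comm_of_mem h1 hmin
  obtain ⟨p, hp, hexp⟩ := MinNonab.exists_prime h1 hab hmin
  have hpf := Fact.mk hp
  by_cases hZ : Subgroup.center Q = ⊥
  · -- Frobenius case
    have hfpf := MinNonab.fixedPointFree hab hmin h1 hZ
    have hidx : 1 < (commutator Q).index := by
      have h0 : (commutator Q).index ≠ 0 := Subgroup.index_ne_zero_of_finite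
      have h2 : (commutator Q).index ≠ 1 := by
        intro h
        rw [Subgroup.index_eq_one] at h
        apply h1
        rw [eq_bot_iff, ← hZ]
        intro v hv
        rw [Subgroup.mem_center_iff]
        intro g
        exact hab g (h ▸ Subgroup.mem_top g) v hv
      omega
    -- `f` is coprime to `p`
    have hcop : (commutator Q).index.Coprime p := by
      rw [Nat.coprime_comm, hp.coprime_iff_not_dvd]
      intro hdvd
      -- a `p`-element outside `V` acts with fixed points on `V`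
      have hVp : IsPGroup p (commutator Q) := by
        intro v
        exact ⟨1, Subtype.ext (by simpa only [_root_.pow_one, _root_.SubmonoidClass.coe_pow, _root_.OneMemClass.coe_one] using hexp v v.2)⟩
      obtain ⟨P, hP⟩ := hVp.exists_le_sylow
      -- `P ≠ V`
      have hne : ∃ x ∈ (P : Subgroup Q), x ∉ commutator Q := by
        by_contra hcon
        push Not at hcon
        have heq : (P : Subgroup Q) = commutator Q := le_antisymm hcon hP
        apply P.not_dvd_index
        rw [heq]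
        exact hdvd
      obtain ⟨x, hxP, hxV⟩ := hne
      -- `Z(P) ∩ V ≠ 1`
      have hPp : IsPGroup p (P : Subgroup Q) := P.isPGroup'
      let V' : Subgroup (P : Subgroup Q) := (commutator Q).subgroupOf P
      have hV'n : V'.Normal := inferInstance
      have hV'1 : V' ≠ ⊥ := by
        intro h
        apply h1
        rw [eq_bot_iff]
        intro v hv
        have : (⟨v, hP hv⟩ : (P : Subgroup Q)) ∈ V' := Subgroup.mem_subgroupOf.2 hv
        rw [h, Subgroup.mem_bot] at this
        exact Subgroup.mem_bot.2 (congrArg Subtype.val this)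
      obtain ⟨z, hz1, hz2, hz⟩ :=
        Cfsg.Agent.Transfer.PGroupNormal.exists_mem_inf_center_orderOf hPp V' hV'1
      have hz3 : (z : Q) ∈ commutator Q := Subgroup.mem_subgroupOf.1 hz1
      have hz4 := Subgroup.mem_center_iff.1 hz2 ⟨x, hxP⟩
      have hz5 : x * (z : Q) = z * x := congrArg Subtype.val hz4
      have hz6 := hfpf x hxV z hz3 hz5
      have hz7 : z = 1 := Subtype.ext hz6
      rw [hz7, orderOf_one] at hz
      exact hp.one_lt.ne hz
    refine ⟨p, (commutator Q).index, hp, hidx, Or.inr ⟨hcop, (commutator Q).comap π,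
      (inferInstance : (commutator Q).Normal).comap _, ?_, ?_⟩⟩
    · exact Subgroup.index_comap_of_surjective _ hπ
    · intro ψ hψ d hψd
      by_cases hpd : p ∣ d
      · exact Or.inl hpd
      · right
        have hNn : ((commutator Q).comap π).Normal := (inferInstance : (commutator Q).Normal).comap _
        exact FrobDeg.index_mul_mem (commutator Q) π hπ hab hfpf h1
          (p := p) (m := 1) (by simpa only [_root_.pow_one] using hexp) ((commutator Q).comap π) rfl hψ hψd
          (((Nat.Prime.coprime_iff_not_dvd hp).2 hpd).symm)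
  · -- the `p`-group case
    have hPG : IsPGroup p Q := MinNonab.isPGroup_of_center h1 hp hexp hmin hZ
    obtain ⟨a, ha⟩ := IsPGroup.iff_card.1 hPG
    -- a nonlinear irreducible character of the quotient
    obtain ⟨f, hf, hf1⟩ : ∃ f ∈ charDegrees Q, f ≠ 1 := by
      by_contra hcon
      push Not at hcon
      apply h1
      have hall : ∀ χ : IrrCharacter Q, (χ : Q → ℂ) 1 = 1 := by
        intro χ
        obtain ⟨m, hm, hm'⟩ := isIrr_apply_one χ.2
        have := hcon m (mem_charDegrees.2 ⟨χ, χ.2, hm'⟩)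
        rw [hm', this, Nat.cast_one]
      have hc := S0187.result.2 hall
      rw [commutator_eq_bot_iff_center_eq_top, Subgroup.eq_top_iff']
      intro x
      rw [Subgroup.mem_center_iff]
      intro y
      exact hc y x
    have hfp : ∃ b, f = p ^ b := by
      have h2 := dvd_card hf
      rw [ha] at h2
      obtain ⟨b, -, hb⟩ := (Nat.dvd_prime_pow hp).1 h2
      exact ⟨b, hb⟩
    have hfpos := pos_of_mem hf
    refine ⟨p, f, hp, by omega, Or.inl ⟨hfp, ?_⟩⟩
    intro n hn
    by_cases hpn : p ∣ n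
    · exact Or.inl hpn
    · right
      obtain ⟨χ, hχ, hχn⟩ := mem_charDegrees.1 hn
      have := Fintype.ofFinite π.ker
      obtain ⟨ψ, d, hψ, hψd, hne, hd1, hd2⟩ := exists_constituent π.ker hχ hχn
      have hidx : π.ker.index = p ^ a := by
        rw [← ha]
        have := Nat.card_congr (QuotientGroup.quotientKerEquivOfSurjective π hπ).toEquiv
        exact this
      rw [hidx] at hd2
      have hnd : n / d = 1 := by
        have h2 : n / d ∣ n := Nat.div_dvd_of_dvd hd1
        have h3 : (n / d).Coprime (p ^ a) := by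
          refine Nat.Coprime.pow_right a ?_
          rw [Nat.coprime_comm, hp.coprime_iff_not_dvd]
          exact fun h => hpn (h.trans h2)
        exact Nat.eq_one_of_dvd_coprimes h3 dvd_rfl hd2
      have hdn : d = n := by
        have := Nat.div_mul_cancel hd1
        rw [hnd, one_mul] at this
        exact this
      have hres := restrict_eq_of_degree π.ker (isIrr_isCharacter hχ) hψ hne (by
        rw [hχn, hψd, hdn])
      exact gallagher π hπ π.ker (fun k hk => hk) hχ (by rw [hres]; exact hψ) hχn hf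

/-- The dichotomy for a finite group whose derived subgroup is not perfect. -/
theorem cases_of_not_perfect {G : Type*} [Group G] [Finite G]
    (hG : ⁅commutator G, commutator G⁆ ≠ commutator G) :
    ∃ (p : ℕ) (f : ℕ), p.Prime ∧ 1 < f ∧
      (((∃ b, f = p ^ b) ∧ ∀ n ∈ charDegrees G, p ∣ n ∨ f * n ∈ charDegrees G) ∨
        (f.Coprime p ∧ ∃ N : Subgroup G, ∃ _ : N.Normal, N.index = f ∧
          ∀ (ψ : N → ℂ), IsIrrCharacter N ψ → ∀ d : ℕ, ψ 1 = d → p ∣ d ∨ f * d ∈ charDegrees G)) := by
  classical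
  set D : Subgroup G := ⁅commutator G, commutator G⁆ with hD
  have hDn : D.Normal := inferInstance
  have hπ := QuotientGroup.mk'_surjective D
  have hmap : commutator (G ⧸ D) = (commutator G).map (QuotientGroup.mk' D) := by
    rw [commutator_def, commutator_def, Subgroup.map_commutator,
      Subgroup.map_top_of_surjective _ hπ]
  have hne : commutator (G ⧸ D) ≠ ⊥ := by
    intro h
    rw [hmap, Subgroup.map_eq_bot_iff, QuotientGroup.ker_mk'] at h
    exact hG (le_antisymm (Subgroup.commutator_le_left _ _) h)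
  have hsol : Group.IsSolvable (G ⧸ D) := by
    refine ⟨2, ?_⟩
    have h1 : derivedSeries (G ⧸ D) 1 = commutator (G ⧸ D) := derivedSeries_one _
    rw [derivedSeries_succ, h1, hmap, ← Subgroup.map_commutator, Subgroup.map_eq_bot_iff,
      QuotientGroup.ker_mk']
  obtain ⟨K, hKn, h1, hmin⟩ := MinNonab.exists_quotient hne
  have hsolK : Group.IsSolvable ((G ⧸ D) ⧸ K) :=
    Group.isSolvable_of_surjective (QuotientGroup.mk'_surjective K)
  exact cases_of_surj ((QuotientGroup.mk' K).comp (QuotientGroup.mk' D))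
    ((QuotientGroup.mk'_surjective K).comp hπ) h1 hmin

/-- **Part A of S4854**: a finite group with the character degrees of `SL₂(q)`, `q ≥ 5`, has a perfect derived
subgroup. -/
theorem perfect_derived {G : Type*} [Group G] [Finite G] {p F : ℕ} (hp : p.Prime) (h5 : 5 ≤ p ^ F)
    (h : charDegrees G = Cfsg.Agent.H691.DS (p ^ F)) : ⁅commutator G, commutator G⁆ = commutator G := by
  classical
  have := Fintype.ofFinite G
  by_contra hcon
  obtain ⟨r, f, hr, hf, hc⟩ := cases_of_not_perfect hcon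
  generalize hq : p ^ F = q at *
  have hle : ∀ n ∈ charDegrees G, n ≤ q + 1 := by
    intro n hn
    rw [h] at hn
    rcases hn with hn | hn | hn | hn | hn | hn <;> omega
  have hqm : q ∈ charDegrees G := by rw [h]; exact Or.inr (Or.inl rfl)
  have hq1 : q + 1 ∈ charDegrees G := by rw [h]; exact Or.inr (Or.inr (Or.inr (Or.inl rfl)))
  have hq2 : q - 1 ∈ charDegrees G := by rw [h]; exact Or.inr (Or.inr (Or.inl (by omega)))
  have hr2 := hr.two_le
  -- a prime does not divide both `q` and `q + 1`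
  have hrq : ¬ (r ∣ q ∧ r ∣ q + 1) := by
    rintro ⟨h1, h2⟩
    have h3 := (Nat.dvd_add_right h1).1 h2
    have := Nat.le_of_dvd one_pos h3
    omega
  rcases hc with ⟨-, hc⟩ | ⟨hfr, N, hN, hNf, hc⟩
  · by_cases h1 : r ∣ q
    · rcases hc _ hq1 with h2 | h2
      · exact hrq ⟨h1, h2⟩
      · have := hle _ h2
        nlinarith only [hf, this]
    · rcases hc _ hqm with h2 | h2
      · exact h1 h2
      · have := hle _ h2
        nlinarith only [hf, h5, this]
  · have := Fintype.ofFinite N
    -- degrees below a degree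
    have hbel : ∀ n ∈ charDegrees G, ∃ d ∈ charDegrees N, d ∣ n ∧ n ∣ f * d ∧ n / d ∣ f := by
      intro n hn
      obtain ⟨χ, hχ, hχn⟩ := mem_charDegrees.1 hn
      obtain ⟨ψ, d, hψ, hψd, -, hd1, hd2⟩ := exists_constituent N hχ hχn
      rw [hNf] at hd2
      refine ⟨d, mem_charDegrees.2 ⟨ψ, hψ, hψd⟩, hd1, ?_, hd2⟩
      have := Nat.mul_dvd_mul_right hd2 d
      rwa [Nat.div_mul_cancel hd1] at this
    have hc' : ∀ d ∈ charDegrees N, r ∣ d ∨ f * d ∈ charDegrees G := by
      intro d hd
      obtain ⟨ψ, hψ, hψd⟩ := mem_charDegrees.1 hd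
      exact hc ψ hψ d hψd
    have hfm : f ∈ charDegrees G := by
      rcases hc' 1 _root_.Cfsg.Agent.H681.DegBasic.one_mem with h1 | h1
      · have := Nat.le_of_dvd one_pos h1
        omega
      · rwa [mul_one] at h1
    by_cases hfq : f = q
    · subst hfq
      -- `f = q`
      have hrf : ¬ r ∣ f := by
        intro h1
        have h2 : r ∣ 1 := by
          have h3 : Nat.gcd f r = 1 := hfr
          rw [← h3]; exact Nat.dvd_gcd h1 dvd_rfl
        have := Nat.le_of_dvd one_pos h2
        omega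
      have key : ∀ n ∈ charDegrees G, n.Coprime f → 2 ≤ n → r ∣ n := by
        intro n hn hnc hn2
        obtain ⟨d, hd, hd1, hd2, hd3⟩ := hbel n hn
        have h1 : n / d = 1 := Nat.eq_one_of_dvd_coprimes (hnc.coprime_dvd_left (Nat.div_dvd_of_dvd hd1)) dvd_rfl hd3
        have h2 : d = n := by
          have := Nat.div_mul_cancel hd1
          rw [h1, one_mul] at this
          exact this
        subst h2
        rcases hc' d hd with h3 | h3
        · exact h3
        · have := hle _ h3
          nlinarith only [h5, hn2, this]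
      have hc1 : (f + 1).Coprime f := by simp
      have hc2 : (f - 1).Coprime f := by
        obtain ⟨k, rfl⟩ : ∃ k, f = k + 1 := ⟨f - 1, by omega⟩
        simp
      have h1 := key _ hq1 hc1 (by omega)
      have h2 := key _ hq2 hc2 (by omega)
      have h3 : r ∣ 2 := by
        have := Nat.dvd_sub h1 h2
        rwa [show f + 1 - (f - 1) = 2 by omega] at this
      have h4 : r = 2 := (Nat.prime_dvd_prime_iff_eq hr Nat.prime_two).1 h3
      subst h4
      -- `q` is odd and one of `(q ± 1) / 2` is odd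
      obtain ⟨n, hn1, hn2⟩ : ∃ n, ¬ 2 ∣ n ∧ (2 * n = f + 1 ∨ 2 * n + 1 = f) := by
        obtain ⟨a, ha⟩ := h1
        by_cases h5 : 2 ∣ a
        · exact ⟨a - 1, by (clear * - ha h5; omega), Or.inr (by (clear * - ha; omega))⟩
        · exact ⟨a, h5, Or.inl (by (clear * - ha; omega))⟩
      have hn3 : n ∈ charDegrees G := by
        rw [h]
        rcases hn2 with h5 | h5
        · exact Or.inr (Or.inr (Or.inr (Or.inr (Or.inl h5))))
        · exact Or.inr (Or.inr (Or.inr (Or.inr (Or.inr h5))))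
      refine hn1 (key n hn3 ?_ (by (clear * - h5 hn2; omega)))
      rcases hn2 with h5 | h5
      · refine Nat.Coprime.coprime_dvd_left (Dvd.intro_left 2 h5) hc1
      · refine Nat.Coprime.coprime_dvd_left (Dvd.intro_left 2 ?_) hc2
        (clear * - h5; omega)
    · -- `f` is coprime to `q`
      have hfq' : f.Coprime q := by
        rw [h] at hfm
        have hc1 : (q + 1).Coprime q := by simp
        have hc2 : (q - 1).Coprime q := by
          obtain ⟨k, rfl⟩ : ∃ k, q = k + 1 := ⟨q - 1, by omega⟩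
          simp
        rcases hfm with h1 | h1 | h1 | h1 | h1 | h1
        · omega
        · exact absurd h1 hfq
        · exact Nat.Coprime.coprime_dvd_left (by rw [show q - 1 = f by omega]) hc2
        · rw [h1]; exact hc1
        · exact Nat.Coprime.coprime_dvd_left (Dvd.intro_left 2 h1) hc1
        · exact Nat.Coprime.coprime_dvd_left (Dvd.intro_left 2 (by omega)) hc2
      -- `r ∣ q`
      have hrq' : r ∣ q := by
        obtain ⟨d, hd, hd1, hd2, hd3⟩ := hbel q hqm
        have h1 : q / d = 1 := Nat.eq_one_of_dvd_coprimes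
          (hfq'.symm.coprime_dvd_left (Nat.div_dvd_of_dvd hd1)) dvd_rfl hd3
        have h2 : d = q := by
          have := Nat.div_mul_cancel hd1
          rw [h1, one_mul] at this
          exact this
        subst h2
        rcases hc' d hd with h3 | h3
        · exact h3
        · have := hle _ h3
          nlinarith only [hf, h5, this]
      have hrp : r = p := by
        rw [← hq] at hrq'
        exact (Nat.prime_dvd_prime_iff_eq hr hp).1 (hr.dvd_of_dvd_pow hrq')
      -- `f ∣ q + 1`
      have hf1 : f ∣ q + 1 := by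
        obtain ⟨d, hd, hd1, hd2, hd3⟩ := hbel _ hq1
        rcases hc' d hd with h3 | h3
        · exact absurd ⟨hrq', h3.trans hd1⟩ hrq
        · have h4 := hle _ h3
          have h5 := pos_of_mem h3
          have h6 := Nat.le_of_dvd h5 hd2
          exact ⟨d, by omega⟩
      have hf2 : f ∣ q - 1 := by
        obtain ⟨d, hd, hd1, hd2, hd3⟩ := hbel _ hq2
        rcases hc' d hd with h3 | h3
        · exfalso
          have h4 := h3.trans hd1
          have h5 := Nat.dvd_sub hrq' h4
          rw [show q - (q - 1) = 1 by omega] at h5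
          have := Nat.le_of_dvd one_pos h5
          omega
        · have h4 := hle _ h3
          have h5 := pos_of_mem h3
          obtain ⟨e, he⟩ := hd2
          have h7 : e = 1 := by
            have h8 : e ≠ 0 := by
              rintro rfl
              omega
            have h9 : e < 2 := by
              by_contra h10
              have : (q - 1) * 2 ≤ (q - 1) * e := Nat.mul_le_mul_left _ (by omega)
              omega
            omega
          rw [h7, mul_one] at he
          exact ⟨d, he.symm⟩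
      have hf3 : f ∣ 2 := by
        have := Nat.dvd_sub hf1 hf2
        rwa [show q + 1 - (q - 1) = 2 by omega] at this
      have hf4 : f = 2 := by
        have := Nat.le_of_dvd (by norm_num) hf3
        omega
      subst hf4
      -- `q = 5`
      have hq5 : q = 5 := by
        rw [h] at hfm
        have hodd : ¬ 2 ∣ q := by
          intro h1
          have h2 : 2 ∣ 1 := by
            have h3 : Nat.gcd 2 q = 1 := hfq'
            rw [← h3]; exact Nat.dvd_gcd dvd_rfl h1
          omega
        rcases hfm with h1 | h1 | h1 | h1 | h1 | h1 <;> (clear * - h1 h5; omega)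
      subst hq5
      have hr5 : r = 5 := (Nat.prime_dvd_prime_iff_eq hr Nat.prime_five).1 hrq'
      subst hr5
      -- the degrees of `N`
      have hcdN : ∀ d ∈ charDegrees N, d = 1 ∨ d = 2 ∨ d = 3 ∨ d = 5 := by
        intro d hd
        rcases hc' d hd with h1 | h1
        · obtain ⟨θ, hθ, hθd⟩ := mem_charDegrees.1 hd
          obtain ⟨χ, hχ, hne⟩ := Cfsg.Agent.CharDeep.PowerDegrees.exists_irr_over N hθ
          obtain ⟨m, hm, hm'⟩ := isIrr_apply_one hχ
          have hdm := (S0887.result N χ hχ θ hθ hne m d hm' hθd).1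
          have h2 : m ∈ charDegrees G := mem_charDegrees.2 ⟨χ, hχ, hm'⟩
          have h3 := pos_of_mem h2
          have h4 := Nat.le_of_dvd h3 hdm
          have h5 := hle _ h2
          have h6 := pos_of_mem hd
          omega
        · rw [h] at h1
          have h6 := pos_of_mem hd
          rcases h1 with h1 | h1 | h1 | h1 | h1 | h1 <;> (clear * - h1; omega)
      have hprime : ∀ d ∈ charDegrees N, d = 1 ∨ d.Prime := by
        intro d hd
        rcases hcdN d hd with rfl | rfl | rfl | rfl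
        · exact Or.inl rfl
        · exact Or.inr Nat.prime_two
        · exact Or.inr Nat.prime_three
        · exact Or.inr Nat.prime_five
      have hcard := S4813.result hprime
      have h2 : 2 ∈ charDegrees N := by
        obtain ⟨d, hd, hd1, hd2, hd3⟩ := hbel 4 hq2
        rcases hcdN d hd with rfl | rfl | rfl | rfl
        · norm_num at hd2
        · exact hd
        · norm_num at hd1
        · norm_num at hd1
      have h3 : 3 ∈ charDegrees N := by
        obtain ⟨d, hd, hd1, hd2, hd3⟩ := hbel 6 hq1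
        rcases hcdN d hd with rfl | rfl | rfl | rfl
        · norm_num at hd2
        · norm_num at hd2
        · exact hd
        · norm_num at hd1
      have h4 : 5 ∈ charDegrees N := by
        obtain ⟨d, hd, hd1, hd2, hd3⟩ := hbel 5 hqm
        rcases hcdN d hd with rfl | rfl | rfl | rfl
        · norm_num at hd2
        · norm_num at hd2
        · norm_num at hd2
        · exact hd
      have hsub : ((({1, 2, 3, 5} : Finset ℕ)) : Set ℕ) ⊆ charDegrees N := by
        intro d hd
        simp only [Finset.coe_insert, Finset.coe_singleton, Set.mem_insert_iff,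
          Set.mem_singleton_iff] at hd
        rcases hd with rfl | rfl | rfl | rfl
        · exact _root_.Cfsg.Agent.H681.DegBasic.one_mem
        · exact h2
        · exact h3
        · exact h4
      have hfin : (charDegrees N).Finite :=
        (Set.finite_Iic (Nat.card N)).subset fun d hd => Nat.le_of_dvd Nat.card_pos (dvd_card hd)
      have h5 := Set.ncard_le_ncard hsub hfin
      rw [Set.ncard_coe_finset, ← Nat.card_coe_set_eq] at h5
      have h6 : ({1, 2, 3, 5} : Finset ℕ).card = 4 := by decide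
      omega

end Cfsg.Agent.H279.PerfDer
end

-- part: H691/Main
section
/-!
# S4854, modulo the classification and the data on sporadic groups (helper691)
-/

set_option autoImplicit false

open scoped commutatorElement

namespace Cfsg.Agent.H691.Main

open Cfsg Cfsg.Agent.Characters Cfsg.Agent.Characters.Core Cfsg.Agent.H681.DegBasic Cfsg.Agent.H686.CharKit
open Cfsg.Agent.H691.Lie Cfsg.Agent.H691.Spor

universe u v

theorem not_comm_of_perfect {M : Type u} [Group M] [Nontrivial M] (h : commutator M = ⊤) : ¬ IsMulCommutative M := by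
  intro hc
  have h1 : commutator M = ⊥ := by
    rw [commutator_def, Subgroup.commutator_eq_bot_iff_le_centralizer]
    intro x _
    rw [Subgroup.mem_centralizer_iff]
    exact fun y _ => hc.is_comm.comm y x
  rw [h1] at h
  exact bot_ne_top h

theorem forward (T : TPs.{u}) (hCF : ∀ (S : Type u) [Group S] [Finite S] [IsSimpleGroup S], IsKnownSimple' S)
    {G : Type u} [Group G] [Finite G] {F : Type v} [Field F] [Fintype F] (h5 : 5 ≤ Fintype.card F)
    (hD : charDegrees G = DS (Fintype.card F)) :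
    ∃ K A : Subgroup G, Nonempty (K ≃* Matrix.SpecialLinearGroup (Fin 2) F) ∧ IsMulCommutative A ∧
      A ≤ Subgroup.centralizer (K : Set G) ∧ K ⊔ A = ⊤ := by
  classical
  obtain ⟨f, hp, hcard⟩ := FiniteField.card F (ringChar F)
  set p := ringChar F with hpdef
  have hf : (f : ℕ) ≠ 0 := f.ne_zero
  have h5' : 5 ≤ p ^ (f : ℕ) := hcard ▸ h5
  have hD' : charDegrees G = DS (p ^ (f : ℕ)) := by rw [← hcard]; exact hD
  have hperf : ⁅commutator G, commutator G⁆ = commutator G := H279.PerfDer.perfect_derived hp h5' hD'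
  obtain ⟨N, hN⟩ : ∃ N : Subgroup G, N = commutator G := ⟨_, rfl⟩
  have iN : N.Normal := by rw [hN]; infer_instance
  rw [← hN] at hperf
  have hNp : commutator N = ⊤ := by
    have h1 : (commutator N).map N.subtype = ⁅N, N⁆ := Subgroup.map_subtype_commutator N
    rw [hperf] at h1
    rw [eq_top_iff]
    intro x _
    have h2 : (x : G) ∈ (commutator N).map N.subtype := by rw [h1]; exact x.2
    obtain ⟨y, hy, hyx⟩ := h2
    have : y = x := Subtype.ext hyx
    rwa [← this]
  have hq1 : p ^ (f : ℕ) ≠ 1 := by omega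
  -- `N` is nontrivial
  have hNnt : Nontrivial N := by
    have hq : p ^ (f : ℕ) ∈ charDegrees G := by
      rw [hD']
      exact Or.inr (Or.inl rfl)
    obtain ⟨θ, hθ, -, hθ1⟩ := H686.SlCentral.exists_under N hNp hN.symm hq hq1
    by_contra hcon
    rw [not_nontrivial_iff_subsingleton] at hcon
    apply hθ1
    have h1 := dvd_card (⟨⟨θ, hθ⟩, rfl⟩ : charDegree θ ∈ charDegrees N)
    rw [Nat.card_of_subsingleton (1 : N)] at h1
    exact Nat.dvd_one.1 h1
  obtain ⟨R₀, hR₀, hs⟩ := H677.CodMain.exists_simple_quotient (G := N)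
  have hna : ¬ IsMulCommutative (N ⧸ R₀) := by
    have h1 : commutator (N ⧸ R₀) = ⊤ := by
      rw [commutator_def, ← Subgroup.map_top_of_surjective _ (QuotientGroup.mk'_surjective R₀),
        ← Subgroup.map_commutator, ← commutator_def, hNp]
    exact not_comm_of_perfect h1
  have hpd : p ∣ Nat.card (N ⧸ R₀) := PDvd.p_dvd hp hf hD' N hNp hN.symm hq1 R₀ hna
  have hE : ∀ (A : Type u) [Group A] [Finite A] (S : Subgroup A), AS A S → HasExt A S := by
    intro A _ _ S hAS
    have := hAS.simple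
    exact Ident.known_hasExt T hAS (hCF S)
  have hRn : (R₀.map N.subtype).Normal :=
    ExtChar.top_of_hasExt N hN.ge R₀ hs hna hE h5' hD'.le
  set R : Subgroup G := R₀.map N.subtype with hR
  have hRN : R ≤ N := by
    rintro _ ⟨n, -, rfl⟩
    exact n.2
  have hRsub : R.subgroupOf N = R₀ := by
    ext n
    rw [Subgroup.mem_subgroupOf]
    constructor
    · rintro ⟨m, hm, h⟩
      have : m = n := Subtype.ext h
      rwa [← this]
    · exact fun h => ⟨n, h, rfl⟩
  have hs' : IsSimpleGroup (N ⧸ R.subgroupOf N) :=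
    (QuotientGroup.quotientMulEquivOfEq hRsub).isSimpleGroup
  have hna' : ¬ IsMulCommutative (N ⧸ R.subgroupOf N) := fun hc =>
    hna ⟨⟨fun a b => (QuotientGroup.quotientMulEquivOfEq hRsub).symm.injective
      (by rw [map_mul, map_mul]; exact hc.is_comm.comm _ _)⟩⟩
  obtain ⟨hAS, e₁, -⟩ := AExt.exists_AS hRN hs' hna' hN.ge
  -- the socle is `PSL₂(q)`
  have hpS : p ∣ Nat.card (N.map (QuotientGroup.mk' (AExt.KK N R))) := by
    rw [← Nat.card_congr e₁.toEquiv, Nat.card_congr (QuotientGroup.quotientMulEquivOfEq hRsub).toEquiv]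
    exact hpd
  have hDA : charDegrees (G ⧸ AExt.KK N R) ⊆ DS (p ^ (f : ℕ)) := fun d hd =>
    hD'.le (charDegrees_comp (QuotientGroup.mk' (AExt.KK N R)) (QuotientGroup.mk'_surjective _) hd)
  have hknown : IsKnownSimple' (N.map (QuotientGroup.mk' (AExt.KK N R))) := by
    have := hAS.simple
    exact hCF _
  obtain ⟨K, iK, iK', hKc, ⟨e₂⟩⟩ := Ident.ident T hAS hp h5' hpS hDA hknown
  have eF : K ≃+* F := FiniteField.ringEquivOfCardEq (hKc.trans hcard.symm)
  let e : (N ⧸ R.subgroupOf N) ≃* Matrix.ProjectiveSpecialLinearGroup (Fin 2) F :=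
    (e₁.trans e₂).trans (LieClassical.FieldTransfer.pslCongr eF)
  have hRc : R ≤ Subgroup.centralizer (N : Set G) :=
    H669.SlTwoE.central_of_psl h5 hD.le N R hRN hperf e
  obtain ⟨e₃⟩ := H686.SlCentral.sl_of_central h5 hD N R hRN hperf hN.symm hRc e
  subst hN
  obtain ⟨h6, h7⟩ := H279.CentProd.central_product h5 hD e₃
  exact ⟨commutator G, Subgroup.centralizer (commutator G : Set G), ⟨e₃⟩, h6, le_rfl, h7⟩

theorem backward {G : Type u} [Group G] [Finite G] {F : Type v} [Field F] [Fintype F] (h5 : 5 ≤ Fintype.card F)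
    (h : ∃ K A : Subgroup G, Nonempty (K ≃* Matrix.SpecialLinearGroup (Fin 2) F) ∧ IsMulCommutative A ∧
      A ≤ Subgroup.centralizer (K : Set G) ∧ K ⊔ A = ⊤) : charDegrees G = DS (Fintype.card F) := by
  obtain ⟨K, A, ⟨e⟩, hA, hAK, hKA⟩ := h
  rw [Back.charDegrees_of_central K A hA hAK hKA, ← Back.cd_sl h5]
  ext d
  exact ⟨fun h => charDegrees_comp e.symm.toMonoidHom e.symm.surjective h,
    fun h => charDegrees_comp e.toMonoidHom e.surjective h⟩

/-- **S4854 modulo the classification and the sporadic data.** -/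
theorem main (T : TPs.{u}) (hCF : ∀ (S : Type u) [Group S] [Finite S] [IsSimpleGroup S], IsKnownSimple' S)
    {G : Type u} [Group G] [Finite G] {F : Type v} [Field F] [Fintype F] (h5 : 5 ≤ Fintype.card F) :
    charDegrees G = charDegrees (Matrix.SpecialLinearGroup (Fin 2) F) ↔
    ∃ K A : Subgroup G, Nonempty (K ≃* Matrix.SpecialLinearGroup (Fin 2) F) ∧ IsMulCommutative A ∧
      A ≤ Subgroup.centralizer (K : Set G) ∧ K ⊔ A = ⊤ := by
  rw [Back.cd_sl h5]
  exact ⟨forward T hCF h5, backward h5⟩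

end Cfsg.Agent.H691.Main
end
end
end
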